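import Groth.Agent.CurvesC.BlowUpReg
import Groth.Agent.Dix.PointIdeal
import Groth.Agent.Fdesc.LocGen

/-!
# Local coordinates at a closed point with regular two-dimensional local ring
-/

set_option autoImplicit false
universe u
open CategoryTheory CategoryTheory.Limits AlgebraicGeometry Opposite TopologicalSpace IsLocalRing

namespace K805.Coord

open Groth.Agent

section Alg

variable {A : Type u} [CommRing A] (p : Ideal A) [p.IsPrime]

lemma exists_mul_mem {I N : Ideal A} (hI : I.FG) (h : ∀ a ∈ I, ∃ f : A, f ∉ p ∧ f * a ∈ N) :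
    ∃ f : A, f ∉ p ∧ ∀ a ∈ I, f * a ∈ N := by
  revert h
  refine Submodule.fg_induction (R := A) (M := A) (motive := fun I _ => (∀ a ∈ I, ∃ f : A, f ∉ p ∧ f * a ∈ N) →
    ∃ f : A, f ∉ p ∧ ∀ a ∈ I, f * a ∈ N) ?_ ?_ I hI
  · intro a h
    obtain ⟨f, hf, hfa⟩ := h a (Submodule.mem_span_singleton_self a)
    refine ⟨f, hf, fun b hb => ?_⟩
    obtain ⟨c, rfl⟩ := Submodule.mem_span_singleton.1 hb
    rw [smul_eq_mul, mul_left_comm]
    exact Ideal.mul_mem_left _ _ hfa
  · intro I₁ I₂ _ _ h₁ h₂ h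
    obtain ⟨f, hf, hfa⟩ := h₁ fun a ha => h a (Submodule.mem_sup_left ha)
    obtain ⟨g, hg, hga⟩ := h₂ fun a ha => h a (Submodule.mem_sup_right ha)
    refine ⟨f * g, fun hfg => (Ideal.IsPrime.mem_or_mem ‹_› hfg).elim hf hg, fun a ha => ?_⟩
    obtain ⟨b, hb, c, hc, rfl⟩ := Submodule.mem_sup.1 ha
    rw [mul_add]
    refine add_mem ?_ ?_
    · rw [mul_comm f g, mul_assoc]
      exact Ideal.mul_mem_left _ _ (hfa b hb)
    · rw [mul_assoc]
      exact Ideal.mul_mem_left _ _ (hga c hc)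

variable (S : Type u) [CommRing S] [Algebra A S] [IsLocalization.AtPrime S p]

lemma exists_ann [IsNoetherianRing A] [IsDomain S] (x : A) (hx : algebraMap A S x ≠ 0) :
    ∃ f : A, f ∉ p ∧ ∀ a, x * a = 0 → f * a = 0 := by
  obtain ⟨f, hf, h⟩ := exists_mul_mem p (I := Submodule.annihilator (Ideal.span {x})) (N := ⊥)
    (IsNoetherian.noetherian _) (fun a ha => by
      have h1 : a * x = 0 := Submodule.mem_annihilator.1 ha x (Ideal.mem_span_singleton_self x)
      have h2 : algebraMap A S a = 0 := by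
        have h3 := congrArg (algebraMap A S) h1
        rw [map_mul, map_zero] at h3
        exact (mul_eq_zero.1 h3).resolve_right hx
      obtain ⟨⟨m, hm⟩, hma⟩ := (IsLocalization.map_eq_zero_iff p.primeCompl S a).1 h2
      exact ⟨m, hm, hma⟩)
  refine ⟨f, hf, fun a ha => ?_⟩
  have := h a (Submodule.mem_annihilator.2 fun n hn => by
    obtain ⟨c, rfl⟩ := Ideal.mem_span_singleton'.1 hn
    rw [smul_eq_mul, mul_comm a, mul_assoc, ha, mul_zero])
  exact this

theorem exists_coord [IsNoetherianRing A] [IsRegularLocalRing S] (hdim : ringKrullDim S = 2) (I : Ideal A)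
    (hI : I.map (algebraMap A S) = maximalIdeal S) :
    ∃ f x y : A, f ∉ p ∧ x ∈ I ∧ y ∈ I ∧ (∀ a ∈ I, f * a ∈ Ideal.span {x, y}) ∧
      (∀ a, x * a = 0 → f * a = 0) ∧ (∀ a, y * a = 0 → f * a = 0) := by
  have : IsDomain S := CalgA.RegBasic.isDomain S
  obtain ⟨u, v, huv⟩ := CurvesC.BlowUpReg.exists_generators S hdim
  have hu : u ∈ I.map (algebraMap A S) := by rw [hI, ← huv]; exact Ideal.subset_span (by simp)
  have hv : v ∈ I.map (algebraMap A S) := by rw [hI, ← huv]; exact Ideal.subset_span (by simp)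
  obtain ⟨⟨⟨x, hx⟩, ⟨s, hs⟩⟩, hxs⟩ := (IsLocalization.mem_map_algebraMap_iff p.primeCompl S).1 hu
  obtain ⟨⟨⟨y, hy⟩, ⟨t, ht⟩⟩, hyt⟩ := (IsLocalization.mem_map_algebraMap_iff p.primeCompl S).1 hv
  dsimp only at hxs hyt
  have hsu : IsUnit (algebraMap A S s) := IsLocalization.map_units S (⟨s, hs⟩ : p.primeCompl)
  have htu : IsUnit (algebraMap A S t) := IsLocalization.map_units S (⟨t, ht⟩ : p.primeCompl)
  have hxy : Ideal.span {algebraMap A S x, algebraMap A S y} = maximalIdeal S := by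
    rw [← huv, ← hxs, ← hyt, Ideal.span_insert, Ideal.span_insert, Ideal.span_singleton_mul_right_unit hsu,
      Ideal.span_singleton_mul_right_unit htu]
  have hyx : Ideal.span {algebraMap A S y, algebraMap A S x} = maximalIdeal S := by rw [Set.pair_comm]; exact hxy
  obtain ⟨f₁, hf₁, h₁⟩ := exists_ann p S x (CurvesC.BlowUpRegAlg.left_ne_zero hdim hxy)
  obtain ⟨f₂, hf₂, h₂⟩ := exists_ann p S y (CurvesC.BlowUpRegAlg.left_ne_zero hdim hyx)
  obtain ⟨f₃, hf₃, h₃⟩ := exists_mul_mem p (I := I) (N := Ideal.span {x, y}) (IsNoetherian.noetherian _) (by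
    intro a ha
    have h4 : algebraMap A S a ∈ (Ideal.span {x, y}).map (algebraMap A S) := by
      rw [Ideal.map_span, Set.image_pair, hxy, ← hI]
      exact Ideal.mem_map_of_mem _ ha
    obtain ⟨⟨⟨b, hb⟩, ⟨m, hm⟩⟩, hbm⟩ := (IsLocalization.mem_map_algebraMap_iff p.primeCompl S).1 h4
    dsimp only at hbm
    rw [← map_mul] at hbm
    obtain ⟨⟨n, hn⟩, hnm⟩ := (IsLocalization.eq_iff_exists p.primeCompl S).1 hbm
    refine ⟨n * m, fun h => (Ideal.IsPrime.mem_or_mem ‹_› h).elim hn hm, ?_⟩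
    have h5 : n * m * a = n * b := by
      rw [mul_assoc, mul_comm m a]; exact hnm
    rw [h5]
    exact Ideal.mul_mem_left _ _ hb)
  refine ⟨f₁ * f₂ * f₃, x, y, fun h => ?_, hx, hy, fun a ha => ?_, fun a ha => ?_, fun a ha => ?_⟩
  · rcases Ideal.IsPrime.mem_or_mem ‹_› h with h | h
    · exact (Ideal.IsPrime.mem_or_mem ‹_› h).elim hf₁ hf₂
    · exact hf₃ h
  · rw [mul_assoc]
    exact Ideal.mul_mem_left _ _ (h₃ a ha)
  · calc f₁ * f₂ * f₃ * a = f₂ * f₃ * (f₁ * a) := by ring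
      _ = 0 := by rw [h₁ a ha, mul_zero]
  · calc f₁ * f₂ * f₃ * a = f₁ * f₃ * (f₂ * a) := by ring
      _ = 0 := by rw [h₂ a ha, mul_zero]

/-- The same after localization. -/
lemma nzd_of_away {f x : A} (h : ∀ a, x * a = 0 → f * a = 0) (B : Type u) [CommRing B] [Algebra A B]
    [IsLocalization.Away f B] : algebraMap A B x ∈ nonZeroDivisors B := by
  rw [mem_nonZeroDivisors_iff_right]
  intro b hb
  obtain ⟨n, a, ha⟩ := IsLocalization.Away.surj f b
  have h1 : algebraMap A B (x * a) = 0 := by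
    rw [map_mul, ← ha, ← mul_assoc, mul_comm (algebraMap A B x) b, hb, zero_mul]
  obtain ⟨⟨_, m, rfl⟩, hm⟩ := (IsLocalization.map_eq_zero_iff (Submonoid.powers f) B _).1 h1
  dsimp only at hm
  have h2 : f * (f ^ m * a) = 0 := h _ (by rw [← hm]; ring)
  have hfu : IsUnit (algebraMap A B f) := IsLocalization.Away.algebraMap_isUnit f
  have h3 : algebraMap A B f * (algebraMap A B f ^ m * (b * algebraMap A B f ^ n)) = 0 := by
    rw [ha, ← map_pow, ← map_mul, ← map_mul, h2, map_zero]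
  have h4 := (hfu.mul_right_eq_zero).1 h3
  have h5 := ((hfu.pow m).mul_right_eq_zero).1 h4
  exact ((hfu.pow n).mul_left_eq_zero).1 h5

end Alg

variable {X : Scheme.{u}}

/-- Local coordinates. -/
theorem exists_coord_open [IsLocallyNoetherian X] (J : X.IdealSheafData) (s : X) (U₀ : X.affineOpens) (hs : s ∈ U₀.1)
    (hJ : J.ideal U₀ = (U₀.2.primeIdealOf ⟨s, hs⟩).asIdeal)
    [IsRegularLocalRing (X.presheaf.stalk s)] (hdim : ringKrullDim (X.presheaf.stalk s) = 2) :
    ∃ (U : X.affineOpens) (_ : s ∈ U.1) (_ : U.1 ≤ U₀.1) (x y : Γ(X, U.1)), J.ideal U = Ideal.span {x, y} ∧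
      x ∈ nonZeroDivisors Γ(X, U.1) ∧ y ∈ nonZeroDivisors Γ(X, U.1) := by
  have hN : IsNoetherianRing Γ(X, U₀.1) := IsLocallyNoetherian.component_noetherian U₀
  let _ := TopCat.Presheaf.algebra_section_stalk X.presheaf (⟨s, hs⟩ : U₀.1)
  have hloc : IsLocalization.AtPrime (X.presheaf.stalk s) (U₀.2.primeIdealOf ⟨s, hs⟩).asIdeal :=
    U₀.2.isLocalization_stalk ⟨s, hs⟩
  obtain ⟨f, x, y, hf, hx, hy, h1, h2, h3⟩ := exists_coord (U₀.2.primeIdealOf ⟨s, hs⟩).asIdeal
    (X.presheaf.stalk s) hdim (J.ideal U₀) (by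
      rw [hJ]
      exact IsLocalization.AtPrime.map_eq_maximalIdeal (U₀.2.primeIdealOf ⟨s, hs⟩).asIdeal (X.presheaf.stalk s))
  have hsf : s ∈ X.basicOpen f := by
    rw [Scheme.mem_basicOpen X f s hs]
    exact IsLocalization.map_units (X.presheaf.stalk s) (⟨f, hf⟩ : (U₀.2.primeIdealOf ⟨s, hs⟩).asIdeal.primeCompl)
  have hle : X.basicOpen f ≤ U₀.1 := X.basicOpen_le f
  have hAw : IsLocalization.Away f Γ(X, X.basicOpen f) := U₀.2.isLocalization_basicOpen f
  refine ⟨⟨X.basicOpen f, U₀.2.basicOpen f⟩, hsf, hle, algebraMap _ _ x, algebraMap _ _ y, ?_,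
    nzd_of_away h2 _, nzd_of_away h3 _⟩
  rw [← J.map_ideal (U := ⟨X.basicOpen f, U₀.2.basicOpen f⟩) (V := U₀) hle]
  change (J.ideal U₀).map (algebraMap _ Γ(X, X.basicOpen f)) = _
  apply le_antisymm
  · rw [Ideal.map_le_iff_le_comap]
    intro a ha
    have h4 : algebraMap _ Γ(X, X.basicOpen f) (f * a) ∈ Ideal.span {algebraMap _ Γ(X, X.basicOpen f) x,
        algebraMap _ Γ(X, X.basicOpen f) y} := by
      have h5 := Ideal.mem_map_of_mem (algebraMap _ Γ(X, X.basicOpen f)) (h1 a ha)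
      rwa [Ideal.map_span, Set.image_pair] at h5
    rw [map_mul] at h4
    have h6 : IsUnit (algebraMap Γ(X, U₀.1) Γ(X, X.basicOpen f) f) := IsLocalization.Away.algebraMap_isUnit f
    exact (Ideal.unit_mul_mem_iff_mem (Ideal.span {algebraMap _ Γ(X, X.basicOpen f) x,
        algebraMap _ Γ(X, X.basicOpen f) y}) h6).1 h4
  · rw [Ideal.span_le]
    rintro _ (rfl | rfl)
    · exact Ideal.mem_map_of_mem _ hx
    · exact Ideal.mem_map_of_mem _ hy

end K805.Coord
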