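import Groth.Agent.SurfBl.K805.Rest
import Groth.Agent.Dix.IdealModCartier
import Groth.Agent.Grpsch.PicGrp

/-!
# Generators of the inverse of the ideal of the exceptional divisor over the two charts
-/

set_option autoImplicit false
universe u
open CategoryTheory CategoryTheory.Limits AlgebraicGeometry Opposite TopologicalSpace Polynomial

namespace K805.Inv

open Groth.Agent.Fdesc Groth.Agent.Fdesc.LocGen K805.Chart Groth.Agent.Dix.IdealModCartier

variable {B : Scheme.{u}}

/-- `e` is dual to the generator `t` of the ideal. -/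
theorem exists_dual {L M : B.Modules} (ψ : CohB1.tensorMod L M ≅ Coh.structureModule B)
    {U : B.Opens} {t : Γ(M, U)} (ht : IsGen t) : ∃ e : Γ(L, U), IsGen e ∧ ψ.hom.app U (tmul e t) = one U := by
  obtain ⟨e, he⟩ := (tmul_right_bijective L ht le_rfl).2 (ψ.inv.app U (one U))
  dsimp only at he
  rw [res_refl] at he
  have he1 : ψ.hom.app U (tmul e t) = one U := by
    rw [he]
    exact congrArg (fun f : Coh.structureModule B ⟶ Coh.structureModule B => f.app U (one U)) ψ.inv_hom_id
  refine ⟨e, ?_, he1⟩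
  intro V hV
  have h1 : Function.Bijective (fun m : Γ(L, V) => tmul m (res M hV t)) := tmul_right_bijective L ht hV
  have h2 : IsGen (tmul e t) := by
    rw [he]
    exact (isGen_one U).app ψ.inv
  have h3 := h2 V hV
  have h4 : (fun a : Γ(B, V) => a • res (CohB1.tensorMod L M) hV (tmul e t)) =
      (fun m : Γ(L, V) => tmul m (res M hV t)) ∘ fun a : Γ(B, V) => a • res L hV e := by
    funext a
    simp only [Function.comp_apply, smul_tmul, res_tmul]
  exact (h1.of_comp_iff' _).1 (h4 ▸ h3)

/-- An inverse of an effective Cartier ideal. -/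
theorem exists_inverse {E : B.IdealSheafData} (hE : BlowUp.IsEffCartierIdeal E) :
    ∃ L : B.Modules, ClSub.IsInverseOf L (ClSub.idealMod E) := by
  obtain ⟨M, -, ⟨e⟩⟩ := Groth.Agent.Grpsch.PicGrp.exists_inverse (isInvertible_idealMod hE)
  exact ⟨M, ⟨Groth.Agent.Ega2.Tens.swap M _ ≪≫ e⟩⟩

variable {E : B.IdealSheafData} {Ω : B.Opens} {R : Type u} [CommRing R] {φ : R →+* Γ(B, Ω)} {x y : R}
  (D : TC E Ω φ x y)

/-- The generators of the inverse of the ideal over the two charts. -/
theorem exists_gens {L : B.Modules} (hL : ClSub.IsInverseOf L (ClSub.idealMod E)) :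
    ∃ (eU : Γ(L, D.U.1)) (eV : Γ(L, D.V.1)), IsGen eU ∧ IsGen eV ∧ res L D.WU eU = D.tW • res L D.WV eV := by
  obtain ⟨ψ⟩ := hL
  obtain ⟨sU, hsU⟩ := exists_val_eq E D.U (D.idU ▸ Ideal.mem_span_singleton_self (ores D.hU (φ x)))
  obtain ⟨sV, hsV⟩ := exists_val_eq E D.V (D.idV ▸ Ideal.mem_span_singleton_self (ores D.hV (φ y)))
  have gU : IsGen sU := isGen_of_genOn (by rw [hsU]; exact genOn_of_affine D.nzU D.idU)
  have gV : IsGen sV := isGen_of_genOn (by rw [hsV]; exact genOn_of_affine D.nzV D.idV)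
  obtain ⟨eU, heU, hU⟩ := exists_dual ψ gU
  obtain ⟨eV, heV, hV⟩ := exists_dual ψ gV
  refine ⟨eU, eV, heU, heV, ?_⟩
  have h1 : res _ D.WV sV = D.tW • res _ D.WU sU := by
    apply val_injective
    rw [val_smul, val_res, val_res, hsU, hsV, ores_ores, ores_ores, mul_comm]
    exact D.psi_y
  refine (tmul_right_bijective L gU D.WU).1 ?_
  dsimp only
  rw [smul_tmul, ← tmul_smul, ← h1, ← res_tmul, ← res_tmul]
  have hinj : Function.Injective (ψ.hom.app D.W) := by
    intro a b hab
    have := congrArg (ψ.inv.app D.W) hab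
    have h2 : ∀ c, ψ.inv.app D.W (ψ.hom.app D.W c) = c := fun c =>
      congrArg (fun f : CohB1.tensorMod L (ClSub.idealMod E) ⟶ _ => f.app D.W c) ψ.hom_inv_id
    rwa [h2, h2] at this
  apply hinj
  rw [app_res, app_res, hU, hV, res_one, res_one]

end K805.Inv
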