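import Groth.Agent.SurfBl.K805.ChartH1
import Groth.Agent.CohqA.TwoChart
import Groth.Agent.Ega3B.RpushAff

/-!
# The first direct image over an affine open whose preimage is covered by two affine opens
-/

set_option autoImplicit false
universe u v
open CategoryTheory CategoryTheory.Limits AlgebraicGeometry Opposite TopologicalSpace

namespace K805.R1

open Groth.Agent Groth.Agent.Fdesc.LocGen

variable {X X' : Scheme.{u}}

theorem res_bijective_of_eq {F : X'.Modules} {A A' : X'.Opens} (h : A' ≤ A) (e : A' = A) :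
    Function.Bijective (res F h) := by
  subst e
  have : (res F h : Γ(F, A') → Γ(F, A')) = id := by
    funext m
    exact res_refl F m
  rw [this]
  exact Function.bijective_id

theorem res_toRestrict_res {Ω : X'.Opens} {F : X'.Modules} {W W' : Ω.toScheme.Opens} (h : W' ≤ W) {A A' : X'.Opens}
    (hA : Ω.ι ''ᵁ W ≤ A) (hA' : Ω.ι ''ᵁ W' ≤ A') (hAA : A' ≤ A) (a : Γ(F, A)) :
    CohqB.QC2.res (F.restrict Ω.ι) h (toRestrict Ω.ι (res F hA a)) = toRestrict Ω.ι (res F hA' (res F hAA a)) := by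
  have h1 := res_toRestrict Ω.ι h (res F hA a)
  rw [res_res] at h1 ⊢
  exact h1

theorem smul_toRestrict {Ω : X'.Opens} {F : X'.Modules} {W : Ω.toScheme.Opens} (f : Γ(Ω.toScheme, ⊤)) (g : Γ(X', Ω))
    (hfg : f = Ω.topIso.inv g) {A : X'.Opens} (hA : Ω.ι ''ᵁ W ≤ A) (hAΩ : A ≤ Ω) (z : Γ(F, A)) :
    toRestrict Ω.ι (res F hA (ores hAΩ g • z)) =
      CohqB.QC2.resR (le_top : W ≤ ⊤) f • toRestrict Ω.ι (res F hA z) := by
  rw [res_smul, toRestrict_smul, ores_ores]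
  refine congrArg (fun (w : Γ(Ω.toScheme, W)) => w • toRestrict Ω.ι (res F hA z)) ?_
  rw [Scheme.Opens.ι_appIso, hfg, Scheme.Opens.topIso_inv]
  change ores _ g = (X'.presheaf.map (Ω.ι.opensFunctor.map (homOfLE le_top)).op)
    ((X'.presheaf.map (eqToHom _).op) g)
  rw [← CommRingCat.comp_apply, ← X'.presheaf.map_comp]
  rfl

theorem exists_conn (b : X' ⟶ X) [QuasiCompact b] [QuasiSeparated b] [HasInjectiveResolutions X'.Modules] (F : X'.Modules)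
    (hF : Coh.IsQCoh F) {U : X.Opens} (hU : IsAffineOpen U) {A₁ A₂ : X'.Opens} (h1 : IsAffineOpen A₁)
    (h2 : IsAffineOpen A₂) (hc : A₁ ⊔ A₂ = b ⁻¹ᵁ U) (hle : A₁ ⊓ A₂ ≤ b ⁻¹ᵁ U) :
    ∃ δ : Γ(F, A₁ ⊓ A₂) →+ Γ((Coh.Rpush b 1).obj F, U), Function.Surjective δ ∧
      (∀ z, δ z = 0 ↔ ∃ (a : Γ(F, A₁)) (c : Γ(F, A₂)), z = res F inf_le_left a - res F inf_le_right c) ∧
      ∀ (r : Γ(X, U)) (z : Γ(F, A₁ ⊓ A₂)), δ (ores hle (b.app U r) • z) = r • δ z := by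
  obtain ⟨e, he⟩ := Ega3B.RpushAff.exists_equiv_toGlobal b F hF hU 1
  let iO : (b ⁻¹ᵁ U).toScheme.Over (Spec (CommRingCat.of Γ(X, U))) := ⟨(b ∣_ U) ≫ hU.isoSpec.hom⟩
  have hq : Coh.IsQCoh (F.restrict (b ⁻¹ᵁ U).ι) := CohqB.LocalQC.isQCoh_restrict (b ⁻¹ᵁ U).ι hF
  have hle1 : A₁ ≤ b ⁻¹ᵁ U := le_sup_left.trans hc.le
  have hle2 : A₂ ≤ b ⁻¹ᵁ U := le_sup_right.trans hc.le
  have h1' : IsAffineOpen ((b ⁻¹ᵁ U).ι ⁻¹ᵁ A₁) := h1.preimage_of_isOpenImmersion _ (by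
    rw [Scheme.Opens.opensRange_ι]; exact hle1)
  have h2' : IsAffineOpen ((b ⁻¹ᵁ U).ι ⁻¹ᵁ A₂) := h2.preimage_of_isOpenImmersion _ (by
    rw [Scheme.Opens.opensRange_ι]; exact hle2)
  have hcov : (b ⁻¹ᵁ U).ι ⁻¹ᵁ A₁ ⊔ (b ⁻¹ᵁ U).ι ⁻¹ᵁ A₂ = ⊤ := by
    have : (b ⁻¹ᵁ U).ι ⁻¹ᵁ A₁ ⊔ (b ⁻¹ᵁ U).ι ⁻¹ᵁ A₂ = (b ⁻¹ᵁ U).ι ⁻¹ᵁ (A₁ ⊔ A₂) := rfl
    rw [this, hc]
    exact (b ⁻¹ᵁ U).ι_preimage_self
  have hi1 : (b ⁻¹ᵁ U).ι ''ᵁ ((b ⁻¹ᵁ U).ι ⁻¹ᵁ A₁) = A₁ := by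
    rw [Scheme.Hom.image_preimage_eq_opensRange_inf, Scheme.Opens.opensRange_ι, inf_eq_right.2 hle1]
  have hi2 : (b ⁻¹ᵁ U).ι ''ᵁ ((b ⁻¹ᵁ U).ι ⁻¹ᵁ A₂) = A₂ := by
    rw [Scheme.Hom.image_preimage_eq_opensRange_inf, Scheme.Opens.opensRange_ι, inf_eq_right.2 hle2]
  have hi3 : (b ⁻¹ᵁ U).ι ''ᵁ ((b ⁻¹ᵁ U).ι ⁻¹ᵁ A₁ ⊓ (b ⁻¹ᵁ U).ι ⁻¹ᵁ A₂) = A₁ ⊓ A₂ := by
    have : (b ⁻¹ᵁ U).ι ⁻¹ᵁ A₁ ⊓ (b ⁻¹ᵁ U).ι ⁻¹ᵁ A₂ = (b ⁻¹ᵁ U).ι ⁻¹ᵁ (A₁ ⊓ A₂) := rfl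
    rw [this, Scheme.Hom.image_preimage_eq_opensRange_inf, Scheme.Opens.opensRange_ι, inf_eq_right.2 hle]
  let γ : Γ(F, A₁ ⊓ A₂) →+ Γ(F.restrict (b ⁻¹ᵁ U).ι, (b ⁻¹ᵁ U).ι ⁻¹ᵁ A₁ ⊓ (b ⁻¹ᵁ U).ι ⁻¹ᵁ A₂) :=
    (toRestrict (M := F) (b ⁻¹ᵁ U).ι).toAddMonoidHom.comp (res F hi3.le)
  have hγ : Function.Bijective γ := (toRestrict (M := F) (b ⁻¹ᵁ U).ι).bijective.comp (res_bijective_of_eq _ hi3)
  let δ' := CohqA.TwoChart.δ (F.restrict (b ⁻¹ᵁ U).ι) hcov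
  refine ⟨e.symm.toAddMonoidHom.comp (δ'.comp γ), ?_, ?_, ?_⟩
  · exact e.symm.surjective.comp ((CohqA.TwoChart.δ_surjective _ hcov h1' h2' hq).comp hγ.2)
  · intro z
    change e.symm (δ' (γ z)) = 0 ↔ _
    rw [map_eq_zero_iff _ e.symm.injective]
    refine (CohqA.TwoChart.δ_eq_zero_iff _ hcov (γ z)).trans ?_
    constructor
    · rintro ⟨a, c, hac⟩
      refine ⟨res F hi1.ge ((toRestrict (M := F) (b ⁻¹ᵁ U).ι).symm a),
        res F hi2.ge ((toRestrict (M := F) (b ⁻¹ᵁ U).ι).symm c), ?_⟩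
      apply hγ.1
      rw [map_sub]
      refine hac.symm.trans (congrArg₂ (· - ·) ?_ ?_)
      · have h5 := res_toRestrict_res (F := F) (inf_le_left : (b ⁻¹ᵁ U).ι ⁻¹ᵁ A₁ ⊓ (b ⁻¹ᵁ U).ι ⁻¹ᵁ A₂ ≤ _) hi1.le hi3.le
          inf_le_left (res F hi1.ge ((toRestrict (M := F) (b ⁻¹ᵁ U).ι).symm a))
        rw [res_res _ hi1.ge hi1.le, res_refl, AddEquiv.apply_symm_apply] at h5
        exact h5
      · have h5 := res_toRestrict_res (F := F) (inf_le_right : (b ⁻¹ᵁ U).ι ⁻¹ᵁ A₁ ⊓ (b ⁻¹ᵁ U).ι ⁻¹ᵁ A₂ ≤ _) hi2.le hi3.le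
          inf_le_right (res F hi2.ge ((toRestrict (M := F) (b ⁻¹ᵁ U).ι).symm c))
        rw [res_res _ hi2.ge hi2.le, res_refl, AddEquiv.apply_symm_apply] at h5
        exact h5
    · rintro ⟨a, c, rfl⟩
      refine ⟨toRestrict (M := F) (b ⁻¹ᵁ U).ι (res F hi1.le a), toRestrict (M := F) (b ⁻¹ᵁ U).ι (res F hi2.le c), ?_⟩
      rw [map_sub]
      refine congrArg₂ (· - ·) ?_ ?_
      · exact res_toRestrict_res _ _ _ _ _
      · exact res_toRestrict_res _ _ _ _ _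
  · intro r z
    have he' : ∀ (a : Γ(X, U)) (y : Coh.HH (b ⁻¹ᵁ U).toScheme (F.restrict (b ⁻¹ᵁ U).ι) 1),
        e.symm (Coh.toGlobal ((b ∣_ U) ≫ hU.isoSpec.hom) a • y) = a • e.symm y := by
      intro a y
      apply e.injective
      rw [he, e.apply_symm_apply, e.apply_symm_apply]
    have h3 := CohqA.TwoChart.δ_smul (F.restrict (b ⁻¹ᵁ U).ι) hcov (Coh.toGlobal ((b ∣_ U) ≫ hU.isoSpec.hom) r) (γ z)
    have h4 : γ (ores hle (b.app U r) • z) = CohqB.QC2.resR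
        (le_top : (b ⁻¹ᵁ U).ι ⁻¹ᵁ A₁ ⊓ (b ⁻¹ᵁ U).ι ⁻¹ᵁ A₂ ≤ ⊤) (Coh.toGlobal ((b ∣_ U) ≫ hU.isoSpec.hom) r) • γ z :=
      smul_toRestrict _ _ (Ega3B.RpushAff.toGlobal_eq b hU r) hi3.le hle z
    have h5 : δ' (γ (ores hle (b.app U r) • z)) = Coh.toGlobal ((b ∣_ U) ≫ hU.isoSpec.hom) r • δ' (γ z) :=
      (congrArg δ' h4).trans h3
    exact (congrArg e.symm h5).trans (he' r (δ' (γ z)))

open K805.Chart K805.ChartOf K805.Laurent K805.Gen K805.LF K805.Reg K805.ChartH1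

/-- The dimension of the sections of the first direct image near a point of the center. -/
theorem finrank_sections {b : X' ⟶ X} {J : X.IdealSheafData} {U : X.affineOpens} {x y : Γ(X, U.1)}
    (D : TC (J.comap b) (b ⁻¹ᵁ U.1) (phi b U) x y) (hi : InjU D) (hrp : RP x y) [QuasiCompact b] [QuasiSeparated b]
    [HasInjectiveResolutions X'.Modules] {F : X'.Modules} (hF : Coh.IsQCoh F) {f : Γ(F, D.U.1)} (hf : IsGen f)
    {g : Γ(F, D.V.1)} (hg : IsGen g) {n : ℕ} (hfg : res F D.WV g = D.sW ^ n • res F D.WU f)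
    {k : Type v} [Field k] (α : k →+* Γ(X, U.1))
    (hα : Function.Bijective ((Ideal.Quotient.mk (Ideal.span {x, y})).comp α))
    [Module k Γ((Coh.Rpush b 1).obj F, U.1)]
    (hmod : ∀ (c : k) (m : Γ((Coh.Rpush b 1).obj F, U.1)), c • m = α c • m) :
    Module.Finite k Γ((Coh.Rpush b 1).obj F, U.1) ∧
      Module.finrank k Γ((Coh.Rpush b 1).obj F, U.1) = n.choose 2 := by
  let _ : Module k Γ(X', D.W) := Module.compHom _ (D.psi.comp α)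
  have hmod' : ∀ (c : k) (z : Γ(X', D.W)), c • z = D.psi (α c) * z := fun _ _ => rfl
  obtain ⟨δ, hδ1, hδ2, hδ3⟩ := exists_conn b F hF U.2 D.U.2 D.V.2 D.cov D.hW
  let Θ : Γ(X', D.W) →ₗ[k] Γ((Coh.Rpush b 1).obj F, U.1) :=
    { toFun := fun z => δ (z • res F D.WU f)
      map_add' := fun z z' => by rw [add_smul, map_add]
      map_smul' := fun c z => by
        rw [hmod', mul_smul, RingHom.id_apply, hmod]
        exact hδ3 (α c) (z • res F D.WU f) }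
  have hΘ : ∀ z, Θ z = δ (z • res F D.WU f) := fun _ => rfl
  have hsurj : Function.Surjective Θ := by
    intro m
    obtain ⟨w, rfl⟩ := hδ1 m
    obtain ⟨z, hz⟩ := (hf.res D.WU).exists_eq w
    exact ⟨z, by rw [hΘ, ← hz]⟩
  have hker : LinearMap.ker Θ = N D α hmod' n := by
    ext z
    rw [LinearMap.mem_ker, hΘ, hδ2, mem_N]
    constructor
    · rintro ⟨a', c', h⟩
      obtain ⟨a, rfl⟩ := hf.exists_eq a'
      obtain ⟨c, rfl⟩ := hg.exists_eq c'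
      refine ⟨a, -c, (hf.res D.WU).ext ?_⟩
      rw [h, map_neg]
      have h1 : res F inf_le_left (a • f) = ores D.WU a • res F D.WU f := res_smul F D.WU a f
      have h2 : res F inf_le_right (c • g) = ores D.WV c • res F D.WV g := res_smul F D.WV c g
      rw [h1, h2, hfg]
      module
    · rintro ⟨a, c, rfl⟩
      refine ⟨a • f, -(c • g), ?_⟩
      have h1 : res F inf_le_left (a • f) = ores D.WU a • res F D.WU f := res_smul F D.WU a f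
      have h2 : res F inf_le_right (c • g) = ores D.WV c • res F D.WV g := res_smul F D.WV c g
      rw [map_neg, h1, h2, hfg]
      module
  have e : (Γ(X', D.W) ⧸ N D α hmod' n) ≃ₗ[k] Γ((Coh.Rpush b 1).obj F, U.1) :=
    (Submodule.quotEquivOfEq _ _ hker.symm).trans (Θ.quotKerEquivOfSurjective hsurj)
  obtain ⟨h1, h2⟩ := ChartH1.finrank_quot α hmod' hi hrp hα n
  exact ⟨Module.Finite.equiv e, by rw [← e.finrank_eq, h2]⟩

end K805.R1
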