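import Groth.Agent.SurfBl.K805.TwoOpen
import Mathlib.AlgebraicGeometry.IdealSheaf.Functorial
import Mathlib.AlgebraicGeometry.IdealSheaf.Subscheme

/-!
# Cohomology over open and closed subsets; the exceptional divisor of a blow-up of finitely many points
-/

set_option autoImplicit false
universe u
open CategoryTheory CategoryTheory.Limits AlgebraicGeometry Opposite TopologicalSpace

namespace K805.Clopen

open Groth.Agent.Fdesc.LocGen Groth.Agent.CohqA K805.TwoOpen

/-- Vanishing over an open and closed subset. -/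
theorem HU_of_clopen {X : TopCat.{u}} (F : CohTop.Ab X) (n : ℕ) {A A' : Opens X} (h1 : A ⊔ A' = ⊤) (h2 : A ⊓ A' = ⊥)
    (h : Subsingleton (CohTop.HU F n (⊤ : Opens X))) : Subsingleton (CohTop.HU F n A) := by
  rw [← h1] at h
  have h3 : Subsingleton (CohTop.HU F n (A ⊓ A')) := by rw [h2]; exact MV.subsingleton_bot F n
  refine subsingleton_of_forall_eq 0 fun a => ?_
  obtain ⟨c, hc, -⟩ := MV.exists_glue F A A' n a 0 (Subsingleton.elim _ _)
  rw [← hc, Subsingleton.elim c 0, map_zero]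

variable {X X' Z : Scheme.{u}} {b : X' ⟶ X} {J : X.IdealSheafData} {i : Z ⟶ X'} [IsClosedImmersion i]

theorem mem_support_of (hi : i.ker = J.comap b) (z : Z) : b (i z) ∈ J.support := by
  have h1 : i z ∈ (i.ker.support : Set X') := by
    rw [Scheme.Hom.support_ker]
    exact subset_closure ⟨z, rfl⟩
  rw [hi] at h1
  have h2 : i z ∈ (J.comap b).support := h1
  rw [Scheme.IdealSheafData.support_comap] at h2
  exact h2

theorem exists_compl (hi : i.ker = J.comap b) (hfin : (J.support : Set X).Finite)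
    (hcl : ∀ s ∈ J.support, IsClosed ({s} : Set X)) (U : X.Opens) :
    ∃ A' : Z.Opens, i ⁻¹ᵁ (b ⁻¹ᵁ U) ⊔ A' = ⊤ ∧ i ⁻¹ᵁ (b ⁻¹ᵁ U) ⊓ A' = ⊥ := by
  have h1 : IsClosed ((J.support : Set X) ∩ U) := by
    have h2 : (J.support : Set X) ∩ U = ⋃ t ∈ (J.support : Set X) ∩ U, {t} := by
      ext t
      simp
    rw [h2]
    exact (hfin.subset Set.inter_subset_left).isClosed_biUnion fun t ht => hcl t ht.1
  let U' : X.Opens := ⟨((J.support : Set X) ∩ U)ᶜ, h1.isOpen_compl⟩
  refine ⟨i ⁻¹ᵁ (b ⁻¹ᵁ U'), ?_, ?_⟩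
  · rw [eq_top_iff]
    intro z _
    by_cases hz : b (i z) ∈ U
    · exact Or.inl hz
    · exact Or.inr fun h => hz h.2
  · rw [eq_bot_iff]
    rintro z ⟨hz, hz'⟩
    exact (hz' ⟨mem_support_of hi z, hz⟩).elim

theorem HU_clopen (hi : i.ker = J.comap b) (hfin : (J.support : Set X).Finite)
    (hcl : ∀ s ∈ J.support, IsClosed ({s} : Set X)) (U : X.Opens) (M : Z.Modules) (n : ℕ)
    (h : Subsingleton (Coh.HH Z M n)) :
    Subsingleton (CohTop.HU (X := Z.toTopCat) (Coh.toAb M) n (i ⁻¹ᵁ (b ⁻¹ᵁ U))) := by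
  obtain ⟨A', h1, h2⟩ := exists_compl hi hfin hcl U
  exact HU_of_clopen (X := Z.toTopCat) (Coh.toAb M) n h1 h2 ((HOpen.HHTopEquiv M n).toEquiv.subsingleton_congr.1 h)

theorem sections_clopen (hi : i.ker = J.comap b) (hfin : (J.support : Set X).Finite)
    (hcl : ∀ s ∈ J.support, IsClosed ({s} : Set X)) (U : X.Opens) (M : Z.Modules)
    (h : Subsingleton (Coh.HH Z M 0)) : Subsingleton Γ(M, i ⁻¹ᵁ (b ⁻¹ᵁ U)) :=
  (sE M _).toEquiv.subsingleton_congr.1 (HU_clopen hi hfin hcl U M 0 h)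

end K805.Clopen
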