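import Groth.Agent.Divis.IdealComap
import Groth.Agent.Dix.IdealModCartier
import Groth.Agent.Ega3B.LocFree
import Groth.Agent.Ega2.QCohLocal
import Groth.Prelude.Def_BlowUp2

/-!
# No maps from a skyscraper to the direct image of a locally free module on a blow-up
-/

set_option autoImplicit false
universe u
open CategoryTheory CategoryTheory.Limits AlgebraicGeometry Opposite TopologicalSpace BlowUp

namespace K805.Tors

open Groth.Agent Groth.Agent.Fdesc.LocGen

variable {X X' : Scheme.{u}}

lemma app_fromSpecResidueField (s : X) (Z : Closeds X) (hs : s ∈ Z) (U : X.affineOpens)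
    {f : Γ(X, U.1)} (hf : f ∈ (Scheme.IdealSheafData.vanishingIdeal Z).ideal U) :
    (X.fromSpecResidueField s).app U.1 f = 0 := by
  rw [← AlgebraicGeometry.basicOpen_eq_bot_iff, ← Scheme.preimage_basicOpen, eq_bot_iff]
  intro t ht
  have h1 : X.fromSpecResidueField s t = s := by
    have := Set.mem_range_self (f := X.fromSpecResidueField s) t
    rwa [Scheme.range_fromSpecResidueField] at this
  have h2 : s ∈ X.basicOpen f := by
    have : X.fromSpecResidueField s t ∈ X.basicOpen f := ht
    rwa [h1] at this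
  have h3 : s ∈ (Scheme.IdealSheafData.vanishingIdeal Z).support := by
    change s ∈ (((Scheme.IdealSheafData.vanishingIdeal Z).support : Closeds X) : Set X)
    rw [Scheme.IdealSheafData.coe_support_vanishingIdeal]
    exact hs
  rw [Scheme.IdealSheafData.mem_support_iff_of_mem (X.basicOpen_le f h2), Scheme.mem_zeroLocus_iff] at h3
  exact (h3 f hf h2).elim

theorem eq_zero_of_killed {b : X' ⟶ X} {J : X.IdealSheafData} (hb : IsBlowUp b J) {V : X'.Modules}
    (hV : FlatMod.IsFinLocFree V) {W : X.Opens} (m : Γ(V, b ⁻¹ᵁ W))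
    (h : ∀ (U : X.affineOpens) (hU : U.1 ≤ W), ∀ f ∈ J.ideal U, b.app U.1 f • res V (b.preimage_mono hU) m = 0) :
    m = 0 := by
  have key : ∀ z : b ⁻¹ᵁ W, ∃ A : X'.Opens, z.1 ∈ A ∧ ∃ hA : A ≤ b ⁻¹ᵁ W, res V hA m = 0 := by
    rintro ⟨z, hz⟩
    obtain ⟨U, hU, hzU, hUW⟩ := exists_isAffineOpen_mem_and_subset (U := W) (x := b z) hz
    obtain ⟨A₀, e, hzA₀, he⟩ := Dix.IdealModCartier.exists_genOn hb.1 z
    obtain ⟨A, hA, hzA, hAle⟩ := exists_isAffineOpen_mem_and_subset (U := A₀.1 ⊓ b ⁻¹ᵁ U) (x := z) ⟨hzA₀, hzU⟩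
    have hA1 : A ≤ A₀.1 := hAle.trans inf_le_left
    have hA2 : A ≤ b ⁻¹ᵁ U := hAle.trans inf_le_right
    obtain ⟨h1, h2⟩ := he ⟨A, hA⟩ hA1
    refine ⟨A, hzA, hA2.trans (b.preimage_mono hUW), ?_⟩
    have h3 : ores hA1 e ∈ (J.ideal ⟨U, hU⟩).map (b.appLE U A hA2).hom := by
      rw [← Divis.IdealComap.ideal_comap J b ⟨U, hU⟩ ⟨A, hA⟩ hA2, h2]
      exact Ideal.mem_span_singleton_self _
    have h4 : ores hA1 e • res V (hA2.trans (b.preimage_mono hUW)) m = 0 := by
      rw [← Submodule.mem_annihilator_span_singleton]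
      refine (Ideal.span_le (I := Submodule.annihilator (Submodule.span _ {res V (hA2.trans (b.preimage_mono hUW)) m}))).2 ?_ h3
      rintro _ ⟨f, hf, rfl⟩
      rw [SetLike.mem_coe, Submodule.mem_annihilator_span_singleton]
      have h5 := congrArg (res V hA2) (h ⟨U, hU⟩ hUW f hf)
      rw [res_smul, res_res, map_zero] at h5
      exact h5
    have hq : V.IsQuasicoherent := Ega2.QCohLocal.isQCoh_of_isFinLocFree hV
    have hflat := (Ega3B.LocFree.finite_flat_sections V hV hA).2
    have h5 := Module.Flat.isSMulRegular_of_nonZeroDivisors (M := Γ(V, A)) h1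
    apply h5
    dsimp only
    rw [h4, smul_zero]
  choose A hzA hAle hA using key
  refine res_ext V A hAle (fun x hx => Opens.mem_iSup.mpr ⟨⟨x, hx⟩, hzA _⟩) fun x => ?_
  rw [hA, map_zero]

/-- No non-zero maps from the skyscraper at a point of the center to the direct image. -/
theorem hom_eq_zero {b : X' ⟶ X} (Z : Closeds X) (hb : IsBlowUp b (Scheme.IdealSheafData.vanishingIdeal Z)) {V : X'.Modules}
    (hV : FlatMod.IsFinLocFree V) (s : X) (hs : s ∈ Z)
    (φ : (Scheme.Modules.pushforward (X.fromSpecResidueField s)).obj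
        (Coh.structureModule (Spec (X.residueField s))) ⟶ (Scheme.Modules.pushforward b).obj V) : φ = 0 := by
  ext W a
  change φ.app W a = 0
  refine eq_zero_of_killed hb hV (φ.app W a) fun U hU f hf => ?_
  have h1 : f • res ((Scheme.Modules.pushforward (X.fromSpecResidueField s)).obj
        (Coh.structureModule (Spec (X.residueField s)))) hU a = 0 := by
    change (X.fromSpecResidueField s).app U.1 f • res (Coh.structureModule (Spec (X.residueField s))) _ _ = 0
    rw [app_fromSpecResidueField s Z hs U hf, zero_smul]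
  have h2 := congrArg (φ.app U.1) h1
  rw [Scheme.Modules.Hom.app_smul, app_res] at h2
  exact h2.trans (map_zero (φ.app U.1).hom)

end K805.Tors
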