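import Groth.Agent.SurfBl.K805.Pts
import Groth.Agent.SurfBl.K805.Clopen
import Groth.Agent.SurfBl.K805.Tors
import Groth.Agent.CurvesB.HZero
import Groth.Agent.Krr.H472.BlowGeom
import Groth.Agent.CohqB.RelVan
import Groth.Agent.PerfA.CohSerre
import Groth.Agent.Ega2.TensGen

/-!
# The blow-up of finitely many closed points of a smooth surface

`Setup b J i`: `b` is the blow-up of a finite set of closed points with coordinates, `i` the exceptional divisor.
-/

set_option autoImplicit false
universe u
open CategoryTheory CategoryTheory.Limits AlgebraicGeometry Opposite TopologicalSpace BlowUp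

namespace K805.Main

open Groth.Agent Groth.Agent.Fdesc.LocGen K805.Chart K805.ChartOf K805.Rest K805.GG K805.LF K805.FreeReg

variable {X X' Z : Scheme.{u}}

/-- The blow-up of finitely many closed points with coordinates, and the exceptional divisor. -/
structure Setup (b : X' ⟶ X) (J : X.IdealSheafData) (i : Z ⟶ X') : Prop where
  noeth : IsLocallyNoetherian X
  hb : IsBlowUp b J
  crd : HasCrdPt J
  fin : (J.support : Set X).Finite
  cl : ∀ s ∈ J.support, IsClosed ({s} : Set X)
  ci : IsClosedImmersion i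
  hi : i.ker = J.comap b

namespace Setup

variable {b : X' ⟶ X} {J : X.IdealSheafData} {i : Z ⟶ X'} (S : Setup b J i)

include S

theorem isProper : IsProper b := by
  have := S.noeth
  exact Krr.H472.BlowGeom.isProper_blowUp S.hb

theorem noeth' : IsLocallyNoetherian X' := by
  have := S.noeth
  have := S.isProper
  exact LocallyOfFiniteType.isLocallyNoetherian b

omit S in
theorem fin_of_flf {F : X'.Modules} (hF : FlatMod.IsFinLocFree F) : Fin F := by
  intro A hA
  have : F.IsQuasicoherent := Ega2.QCohLocal.isQCoh_of_isFinLocFree hF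
  exact (Ega3B.LocFree.finite_flat_sections F hF hA).1

omit S in
theorem isCoh {F : X'.Modules} (hF : FlatMod.IsFinLocFree F) : Coh.IsCoh F :=
  PerfA.CohSerre.isCoh_of_isFinLocFree hF

theorem qcqs : QuasiCompact b ∧ QuasiSeparated b := by
  have := S.isProper
  exact ⟨inferInstance, inferInstance⟩

/-- Regularity in the charts from the vanishing of `H⁰(Z, F ⊗ O(-1))`. -/
theorem reg {F L : X'.Modules} (hF : FlatMod.IsFinLocFree F) (hL : ClSub.IsInverseOf L (ClSub.idealMod (J.comap b)))
    (h0 : Subsingleton (Coh.HH Z ((Scheme.Modules.pullback i).obj (CohB1.tensorMod F L)) 0))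
    (U : X.affineOpens) (x y : Γ(X, U.1)) (hU : Crd J U x y) :
    Reg2 Γ(X, U.1) Γ((Scheme.Modules.pushforward b).obj F, U.1) x y := by
  have := S.ci
  obtain ⟨D⟩ := GG.exists_tc S.hb hU
  obtain ⟨eU, eV, hU', hV', he⟩ := Inv.exists_gens D hL
  have hq := Ega2.QCohLocal.isQCoh_of_isFinLocFree hF
  have hinv := (Dix.IdealModCartier.isInvertible_of_isInverseOf hL).1
  exact reg2 D hq hF (h0_of_subsingleton D S.hi (Ega2.TensGen.isQCoh_tensor hq hinv) hU' hV' he
    (Clopen.sections_clopen S.hi S.fin S.cl U.1 _ h0))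

/-- **The direct image is finite locally free.** -/
theorem isFinLocFree_push {F L : X'.Modules} (hF : FlatMod.IsFinLocFree F)
    (hL : ClSub.IsInverseOf L (ClSub.idealMod (J.comap b)))
    (h0 : Subsingleton (Coh.HH Z ((Scheme.Modules.pullback i).obj (CohB1.tensorMod F L)) 0)) :
    FlatMod.IsFinLocFree ((Scheme.Modules.pushforward b).obj F) := by
  have := S.noeth
  have := S.noeth'
  have := S.isProper
  exact isFinLocFree_push_of_reg S.hb S.crd (isCoh hF) hF (S.reg hF hL h0)

theorem epi_counit {F : X'.Modules} (hF : FlatMod.IsFinLocFree F)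
    (hgg : Curv2.IsGloballyGenerated ((Scheme.Modules.pullback i).obj F)) :
    Epi ((Scheme.Modules.pullbackPushforwardAdjunction b).counit.app F) := by
  have := S.ci
  exact GG.epi_counit S.hb S.crd.hasCrd S.hi (Ega2.QCohLocal.isQCoh_of_isFinLocFree hF) (fin_of_flf hF) hgg

theorem HU_of_gg {F : X'.Modules} (hF : FlatMod.IsFinLocFree F)
    (hgg : Curv2.IsGloballyGenerated ((Scheme.Modules.pullback i).obj F)) (n : ℕ) (hn : 0 < n) (s : X) :
    ∃ U : X.Opens, s ∈ U ∧ IsAffineOpen U ∧
      Subsingleton (CohTop.HU (X := X'.toTopCat) (Coh.toAb F) n (b ⁻¹ᵁ U)) := by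
  have := S.ci
  exact GG.HU_of_gg S.hb S.crd.hasCrd S.hi (Ega2.QCohLocal.isQCoh_of_isFinLocFree hF) (fin_of_flf hF) hgg n hn s

theorem isZero_Rpush [HasInjectiveResolutions X'.Modules] {F : X'.Modules} (hF : Coh.IsQCoh F) (n : ℕ)
    (h : ∀ s : X, ∃ U : X.Opens, s ∈ U ∧ IsAffineOpen U ∧
      Subsingleton (CohTop.HU (X := X'.toTopCat) (Coh.toAb F) n (b ⁻¹ᵁ U))) : IsZero ((Coh.Rpush b n).obj F) := by
  have h1 := S.qcqs.1
  have h2 := S.qcqs.2
  refine CohqB.RelVan.isZero_Rpush_of_cover b F hF n fun s => ?_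
  obtain ⟨U, hs, hU, h⟩ := h s
  exact ⟨U, hs, hU, (CohqA.HOpen.HHonEquiv F (b ⁻¹ᵁ U) n).toEquiv.subsingleton_congr.1 h⟩

end Setup

/-- The set-up for a finite set of closed points of a smooth surface. -/
theorem setup_smooth {k : Type u} [Field k] [PerfectField k] (g : X ⟶ Spec (CommRingCat.of k))
    [SmoothOfRelativeDimension 2 g] (T : Closeds X) (hfin : (T : Set X).Finite)
    (hcl : ∀ s ∈ T, IsClosed ({s} : Set X)) {b : X' ⟶ X}
    (hb : IsBlowUp b (Scheme.IdealSheafData.vanishingIdeal T)) :
    Setup b (Scheme.IdealSheafData.vanishingIdeal T)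
      (exceptional b (Scheme.IdealSheafData.vanishingIdeal T)).subschemeι := by
  have : Smooth g := SmoothOfRelativeDimension.smooth 2 g
  have hsupp : (((Scheme.IdealSheafData.vanishingIdeal T).support : Closeds X) : Set X) = T :=
    Scheme.IdealSheafData.coe_support_vanishingIdeal T
  exact {
    noeth := Pts.isLocallyNoetherian_of_field g
    hb := hb
    crd := Pts.hasCrdPt_smooth g T hfin hcl
    fin := by rw [hsupp]; exact hfin
    cl := fun s hs => hcl s (by
      have h1 : s ∈ (((Scheme.IdealSheafData.vanishingIdeal T).support : Closeds X) : Set X) := hs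
      rwa [hsupp] at h1)
    ci := inferInstance
    hi := Scheme.IdealSheafData.ker_subschemeι _ }

end K805.Main
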