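import Groth.Agent.SurfBl.K805.Main
import Groth.Agent.CohqB.AmpleH1
import Groth.Agent.Sga67.LocBasisOps
import Groth.Agent.VarietyB.ExactLoc
import Groth.Agent.Divis.EffCartier

/-!
# The cokernel of the counit is killed by a power of the exceptional ideal
-/

set_option autoImplicit false
universe u
open CategoryTheory CategoryTheory.Limits AlgebraicGeometry Opposite TopologicalSpace BlowUp

namespace K805.Cok

open Groth.Agent Groth.Agent.Fdesc.LocGen K805.Main

variable {X X' Z : Scheme.{u}}

/-- An ideal `I` kills the cokernel of `f : A ⟶ V` if `I ⊗ V ⟶ V` factors through the cokernel as zero. -/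
theorem smul_eq_zero_of_comp {A V : X'.Modules} (f : A ⟶ V) (I : X'.IdealSheafData)
    (h : CohqB.AmpleH1.ev (ClSub.idealModι I) V ≫ cokernel.π f = 0) (U : X'.affineOpens)
    (q : Γ(cokernel f, U.1)) (a : Γ(X', U.1)) (ha : a ∈ I.ideal U) : a • q = 0 := by
  obtain ⟨a', ha'⟩ := Dix.IdealModCartier.exists_val_eq I U ha
  have key : ∀ x : U.1, ∃ A : X'.Opens, x.1 ∈ A ∧ ∃ hA : A ≤ U.1, res (cokernel f) hA (a • q) = 0 := by
    intro x
    obtain ⟨A, hA, hxA, v, hv⟩ := VarietyB.ExactLoc.exists_lift_of_epi (cokernel.π f) q x.2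
    refine ⟨A, hxA, hA, ?_⟩
    have hv' : (cokernel.π f).app A v = res (cokernel f) hA q := hv
    have h1 : ores hA a = Dix.IdealModCartier.val I (res _ hA a') := by
      rw [Dix.IdealModCartier.val_res, ha']
    have h2 : (CohqB.AmpleH1.ev (ClSub.idealModι I) V).app A (tmul (res _ hA a') v) = ores hA a • v := by
      rw [CohqB.AmpleH1.ev_tmul, h1]
      rfl
    rw [res_smul, ← hv', ← Scheme.Modules.Hom.app_smul, ← h2]
    have h3 := congrArg (fun φ : CohB1.tensorMod (ClSub.idealMod I) V ⟶ cokernel f =>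
      φ.app A (tmul (res _ hA a') v)) h
    exact h3
  choose A hxA hAU hA using key
  refine res_ext (cokernel f) A hAU (fun x hx => Opens.mem_iSup.mpr ⟨⟨x, hx⟩, hxA _⟩) fun x => ?_
  rw [hA, map_zero]

variable {b : X' ⟶ X} {J : X.IdealSheafData} {i : Z ⟶ X'}

theorem comp_eq_zero {V V' : X'.Modules} (μ : V' ⟶ V)
    (h : Epi ((Scheme.Modules.pullbackPushforwardAdjunction b).counit.app V')) :
    μ ≫ cokernel.π ((Scheme.Modules.pullbackPushforwardAdjunction b).counit.app V) = 0 := by
  rw [← cancel_epi ((Scheme.Modules.pullbackPushforwardAdjunction b).counit.app V'), comp_zero]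
  have h1 := (Scheme.Modules.pullbackPushforwardAdjunction b).counit.naturality μ
  have h2 : (Scheme.Modules.pullbackPushforwardAdjunction b).counit.app V' ≫ μ =
      (Scheme.Modules.pushforward b ⋙ Scheme.Modules.pullback b).map μ ≫
        (Scheme.Modules.pullbackPushforwardAdjunction b).counit.app V := h1.symm
  have h3 : (Scheme.Modules.pullbackPushforwardAdjunction b).counit.app V' ≫ μ ≫
      cokernel.π ((Scheme.Modules.pullbackPushforwardAdjunction b).counit.app V) =
      ((Scheme.Modules.pullbackPushforwardAdjunction b).counit.app V' ≫ μ) ≫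
      cokernel.π ((Scheme.Modules.pullbackPushforwardAdjunction b).counit.app V) := (Category.assoc _ _ _).symm
  rw [h3, h2, Category.assoc, cokernel.condition, comp_zero]

theorem smul_cokernel_eq_zero (S : Setup b J i) {V : X'.Modules} (hV : FlatMod.IsFinLocFree V) (l : ℕ)
    (hgg : Curv2.IsGloballyGenerated ((Scheme.Modules.pullback i).obj
      (CohB1.tensorMod (ClSub.idealMod ((J.comap b) ^ l)) V))) (U : X'.affineOpens)
    (q : Γ(cokernel ((Scheme.Modules.pullbackPushforwardAdjunction b).counit.app V), U.1)) (a : Γ(X', U.1))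
    (ha : a ∈ ((J.comap b) ^ l).ideal U) : a • q = 0 := by
  have hinv : PicF.IsInvertible (ClSub.idealMod ((J.comap b) ^ l)) :=
    Dix.IdealModCartier.isInvertible_idealMod (Divis.EffCartier.isEff_pow S.hb.1 l)
  have hflf : FlatMod.IsFinLocFree (ClSub.idealMod ((J.comap b) ^ l)) := by
    intro x
    obtain ⟨W, hx, e⟩ := (Ega2.QCohLocal.isFinLocFreeOfRank_one_iff.2 hinv) x
    exact ⟨W, 1, hx, e⟩
  exact smul_eq_zero_of_comp _ _ (comp_eq_zero _ (S.epi_counit (Sga67.LocBasis.isFinLocFree_tensorMod hflf hV) hgg)) U q a ha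

end K805.Cok
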