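import Groth.Agent.SurfBl.K805.Leray
import Groth.Agent.CohqB.HomPost
import Groth.Agent.Krr.H463.HomBasis
import Groth.Agent.Dcoh.MonClosed
import Groth.Agent.CurvesA.HHMap
import Groth.Agent.CohqA.PullbackQCoh
import Groth.Prelude.Def_ModSite

/-!
# Sheaf Hom and direct images

* `push`: `f_* Hom(F, N) ⟶ Hom(f_* F, f_* N)`; it is an isomorphism if locally on the base `F` has a basis of sections
  which is also a basis of `f_* F`.
* `sums_hom`: decomposition of the sections of `Hom(F, N)` in the charts of a blow-up.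
* `exists_loc_le`: coordinates on arbitrarily small neighbourhoods.
-/

set_option autoImplicit false
universe u
open CategoryTheory CategoryTheory.Limits AlgebraicGeometry Opposite TopologicalSpace BlowUp

namespace K805.EndSh

open Groth.Agent Groth.Agent.Fdesc Groth.Agent.Fdesc.LocGen K805.GG K805.LF K805.Laurent K805.Main K805.Chart K805.ChartOf
  K805.Reg K805.FreeReg K805.Triv K805.Rest
open Groth.Agent.CohqB.HomSheaf (homSheaf comp mkSec comp_map sec_ext comp_self_smul comp_mkSec homMkSec)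

/-! ### Direct image of the internal Hom -/

section Push

variable {X X' : Scheme.{u}} (f : X' ⟶ X) (F N : X'.Modules)

/-- `f_* Hom(F, N) ⟶ Hom(f_* F, f_* N)`. -/
noncomputable def push : (Scheme.Modules.pushforward f).obj (homSheaf F N) ⟶
    homSheaf ((Scheme.Modules.pushforward f).obj F) ((Scheme.Modules.pushforward f).obj N) :=
  homMkSec _ _ (fun U =>
    { toFun := fun (s : Γ(homSheaf F N, f ⁻¹ᵁ U)) => mkSec (fun V hV =>
        { toFun := fun (m : Γ(F, f ⁻¹ᵁ V)) => (comp s (f ⁻¹ᵁ V) (f.preimage_mono hV) m : Γ(N, f ⁻¹ᵁ V))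
          map_add' := fun m m' => map_add (comp s (f ⁻¹ᵁ V) (f.preimage_mono hV)) m m'
          map_smul' := fun r (m : Γ(F, f ⁻¹ᵁ V)) => (comp s (f ⁻¹ᵁ V) (f.preimage_mono hV)).map_smul (f.app V r) m })
        (fun V W hV h m => comp_map s (f.preimage_mono hV) (f.preimage_mono h) m)
      map_zero' := rfl
      map_add' := fun s t => rfl })
    (fun U r s => sec_ext fun V hV m => by
      change (X'.presheaf.map (homOfLE (f.preimage_mono hV)).op (f.app U r)) • comp (M := F) (N := N) s (f ⁻¹ᵁ V) _ m =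
        (f.app V (X.presheaf.map (homOfLE hV).op r)) • comp (M := F) (N := N) s (f ⁻¹ᵁ V) _ m
      congr 1
      exact (congr($(f.naturality (homOfLE hV).op) r)).symm)
    (fun U V h s => rfl)

theorem comp_push {U : X.Opens} (s : Γ(homSheaf F N, f ⁻¹ᵁ U)) (V : X.Opens) (hV : V ≤ U) (m : Γ(F, f ⁻¹ᵁ V)) :
    comp ((push f F N).app U s) V hV m = comp (M := F) (N := N) s (f ⁻¹ᵁ V) (f.preimage_mono hV) m := rfl

open Groth.Agent.Sga67.Sec Groth.Agent.Sga67.LocBasis Groth.Agent.Krr.H463 in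
variable {F} in
theorem bijective_push_app {U : X.Opens} {κ : Type*} [Fintype κ] (e : κ → Γ(F, f ⁻¹ᵁ U))
    (he : IsLocBasis (M := F) (U := f ⁻¹ᵁ U) e)
    (he' : IsLocBasis (M := (Scheme.Modules.pushforward f).obj F) (U := U) e) :
    Function.Bijective ((push f F N).app U) := by
  have h1 := HomBasis.ev_bijective (N := N) he le_rfl
  have h2 := HomBasis.ev_bijective (N := (Scheme.Modules.pushforward f).obj N) he' le_rfl
  have h3 : (HomBasis.ev ((Scheme.Modules.pushforward f).obj N) (E := (Scheme.Modules.pushforward f).obj F) e le_rfl) ∘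
      ((push f F N).app U) = HomBasis.ev N (E := F) e le_rfl := by
    funext s j
    rfl
  exact (Function.Bijective.of_comp_iff' h2 _).1 (h3 ▸ h1)

variable {F} in
theorem isIso_push (h : ∀ x : X, ∃ U : X.Opens, x ∈ U ∧ ∃ (n : ℕ) (e : Fin n → Γ(F, f ⁻¹ᵁ U)),
    Flat2F.SecBasis.BasOn F (f ⁻¹ᵁ U) e ∧ Flat2F.SecBasis.BasOn ((Scheme.Modules.pushforward f).obj F) U e) :
    IsIso (push f F N) := by
  refine CohqA.PullbackQCoh.isIso_of_bijective_basis _ (ι := {V : X.Opens // ∃ (n : ℕ) (e : Fin n → Γ(F, f ⁻¹ᵁ V)),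
    Flat2F.SecBasis.BasOn F (f ⁻¹ᵁ V) e ∧ Flat2F.SecBasis.BasOn ((Scheme.Modules.pushforward f).obj F) V e})
    (fun V => V.1) ?_ ?_
  · rw [Opens.isBasis_iff_nbhd]
    intro W x hx
    obtain ⟨U, hxU, n, e, he, he'⟩ := h x
    refine ⟨U ⊓ W, ⟨⟨U ⊓ W, n, fun j => res F (f.preimage_mono inf_le_left) (e j),
      he.mono (f.preimage_mono inf_le_left), he'.mono inf_le_left⟩, rfl⟩, ⟨hxU, hx⟩, inf_le_right⟩
  · rintro ⟨V, n, e, he, he'⟩
    exact bijective_push_app f N e (fun W hW => he W hW) (fun W hW => he' W hW)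

end Push

/-! ### Decomposition in the charts -/

section Charts

variable {B : Scheme.{u}} {E : B.IdealSheafData} {Ω : B.Opens} {R : Type u} [CommRing R] {φ : R →+* Γ(B, Ω)} {x y : R}
  (D : TC E Ω φ x y)

theorem exists_add_fun (g : Γ(B, D.W)) : ∃ (a : Γ(B, D.U.1)) (b : Γ(B, D.V.1)), g = ores D.WU a + ores D.WV b := by
  have hg : g ∈ D.mon := by rw [D.mon_eq_top]; trivial
  unfold TC.mon at hg
  induction hg using AddSubgroup.closure_induction with
  | mem g hg =>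
    rcases hg with ⟨r, n, rfl⟩ | ⟨r, n, rfl⟩
    · refine ⟨ores D.hU (φ r) * D.t ^ n, 0, ?_⟩
      rw [map_zero, add_zero, map_mul, map_pow, ores_ores]
      rfl
    · refine ⟨0, ores D.hV (φ r) * D.s ^ n, ?_⟩
      rw [map_zero, zero_add, map_mul, map_pow, ores_ores]
      rfl
  | zero => exact ⟨0, 0, by rw [map_zero, map_zero, add_zero]⟩
  | add g g' _ _ h h' =>
    obtain ⟨a, b, rfl⟩ := h
    obtain ⟨a', b', rfl⟩ := h'
    exact ⟨a + a', b + b', by rw [map_add, map_add]; abel⟩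
  | neg g _ h =>
    obtain ⟨a, b, rfl⟩ := h
    exact ⟨-a, -b, by rw [map_neg, map_neg]; abel⟩

/-- Decomposition for modules with a basis. -/
theorem sums_of_basOn {N : B.Modules} {n : ℕ} {e : Fin n → Γ(N, Ω)} (he : Flat2F.SecBasis.BasOn N Ω e) (z : Γ(N, D.W)) :
    ∃ (a : Γ(N, D.U.1)) (b : Γ(N, D.V.1)), z = res N D.WU a + res N D.WV b := by
  obtain ⟨c, hc⟩ := (he D.W D.hW).2 z
  choose a b hab using fun j => exists_add_fun D (c j)
  refine ⟨∑ j, a j • res N D.hU (e j), ∑ j, b j • res N D.hV (e j), ?_⟩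
  rw [← hc, map_sum, map_sum, ← Finset.sum_add_distrib]
  refine Finset.sum_congr rfl fun j _ => ?_
  rw [res_smul, res_smul, res_res, res_res, ← add_smul, ← hab j]
  rfl

open Groth.Agent.Sga67.Sec Groth.Agent.Sga67.LocBasis Groth.Agent.Krr.H463 in
/-- Decomposition for the internal Hom. -/
theorem sums_hom {F N : B.Modules} {m n : ℕ} {e : Fin m → Γ(F, Ω)} (he : Flat2F.SecBasis.BasOn F Ω e)
    {t : Fin n → Γ(N, Ω)} (ht : Flat2F.SecBasis.BasOn N Ω t) (z : Γ(homSheaf F N, D.W)) :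
    z ∈ D.sums (homSheaf F N) := by
  have he' : IsLocBasis (M := F) (U := Ω) e := fun W hW => he W hW
  choose a b hab using fun j => sums_of_basOn D ht (HomBasis.ev N (E := F) e D.hW z j)
  obtain ⟨u, hu⟩ := (HomBasis.ev_bijective (N := N) he' D.hU).2 a
  obtain ⟨v, hv⟩ := (HomBasis.ev_bijective (N := N) he' D.hV).2 b
  refine D.mem_sums.2 ⟨u, v, ?_⟩
  apply (HomBasis.ev_bijective (N := N) he' D.hW).1
  refine Eq.trans ?_ ((HomBasis.ev N (E := F) e D.hW).map_add _ _).symm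
  funext j
  rw [hab j, Pi.add_apply]
  refine congrArg₂ (· + ·) ?_ ?_
  · rw [← hu]
    exact (HomBasis.ev_res (N := N) e D.hU D.WU u j).symm
  · rw [← hv]
    exact (HomBasis.ev_res (N := N) e D.hV D.WV v j).symm

end Charts

/-! ### Coordinates on small neighbourhoods -/

section Small

variable {X X' : Scheme.{u}} {b : X' ⟶ X}

theorem exists_loc_le [IsLocallyNoetherian X] (T : Closeds X) (hb : IsBlowUp b (Scheme.IdealSheafData.vanishingIdeal T))
    {s : X} (hs : s ∈ T) (hdisc : ∃ W : X.Opens, s ∈ W ∧ ∀ t ∈ W, t ∈ T → t = s) (hcl : IsClosed ({s} : Set X))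
    (hreg : IsRegularLocalRing (X.presheaf.stalk s)) (hdim : ringKrullDim (X.presheaf.stalk s) = 2) (O : X.Opens)
    (hO : s ∈ O) : ∃ Λ : Loc b (Scheme.IdealSheafData.vanishingIdeal T) s, Λ.U.1 ≤ O := by
  obtain ⟨W, hsW, hW⟩ := hdisc
  obtain ⟨U₀, hU₀, hsU₀, hle⟩ := exists_isAffineOpen_mem_and_subset (U := W ⊓ O) (x := s) ⟨hsW, hO⟩
  obtain ⟨U, hsU, hUU, x, y, hxy, hx, hy⟩ := Coord.exists_coord_open (Scheme.IdealSheafData.vanishingIdeal T) s
    ⟨U₀, hU₀⟩ hsU₀ (Pts.ideal_vanishing T s hU₀ hsU₀ hs fun t ht => hW t (hle ht).1) hdim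
  have hJs := Pts.ideal_vanishing T s U.2 hsU hs fun t ht => hW t (hle (hUU ht)).1
  obtain ⟨D, h1, h2⟩ := ChartInj.exists_tc hb x y hxy hx hy
  exact ⟨⟨U, x, y, hsU, ⟨hxy, hx, hy⟩, hJs, rp_of_crd ⟨hxy, hx, hy⟩ hsU hcl hJs hreg hdim, D, h1, h2⟩,
    fun t ht => (hle (hUU ht)).2⟩

/-- Isolation in a finite set of closed points. -/
theorem exists_isolating (T : Closeds X) (hfin : (T : Set X).Finite) (hcl : ∀ s ∈ T, IsClosed ({s} : Set X)) (s : X) :
    ∃ W : X.Opens, s ∈ W ∧ ∀ t ∈ W, t ∈ T → t = s := by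
  have h1 : IsClosed ((T : Set X) \ {s}) := by
    have h2 : (T : Set X) \ {s} = ⋃ t ∈ (T : Set X) \ {s}, {t} := by
      ext t
      simp
    rw [h2]
    exact (hfin.subset Set.sdiff_subset).isClosed_biUnion fun t ht => hcl t ht.1
  refine ⟨⟨((T : Set X) \ {s})ᶜ, h1.isOpen_compl⟩, fun h => h.2 rfl, fun t ht htT => ?_⟩
  by_contra hne
  exact ht ⟨htT, hne⟩

theorem exists_loc_le_smooth {k : Type u} [Field k] [PerfectField k] (g : X ⟶ Spec (CommRingCat.of k))
    [SmoothOfRelativeDimension 2 g] (T : Closeds X) (hfin : (T : Set X).Finite) (hcl : ∀ s ∈ T, IsClosed ({s} : Set X))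
    (hb : IsBlowUp b (Scheme.IdealSheafData.vanishingIdeal T)) {s : X} (hs : s ∈ T) (O : X.Opens) (hO : s ∈ O) :
    ∃ Λ : Loc b (Scheme.IdealSheafData.vanishingIdeal T) s, Λ.U.1 ≤ O := by
  have : Smooth g := SmoothOfRelativeDimension.smooth 2 g
  have : IsLocallyNoetherian X := Pts.isLocallyNoetherian_of_field g
  obtain ⟨h1, h2⟩ := (Lefpen.H703.ClosedSmooth.smoothOfRelativeDimension_iff g 2).1 inferInstance s (hcl s hs)
  exact exists_loc_le T hb hs (exists_isolating T hfin hcl s) (hcl s hs) h1 h2 O hO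

end Small

/-! ### The endomorphism sheaf -/

section End

variable {X X' Z : Scheme.{u}} {b : X' ⟶ X} {J : X.IdealSheafData} {i : Z ⟶ X'}

theorem HU_hom (S : Setup b J i) {F N : X'.Modules} (hq : Coh.IsQCoh (homSheaf F N))
    (h : ∀ s ∈ J.support, ∃ (Λ : Loc b J s) (m n : ℕ) (e : Fin m → Γ(F, b ⁻¹ᵁ Λ.U.1)) (t : Fin n → Γ(N, b ⁻¹ᵁ Λ.U.1)),
      Flat2F.SecBasis.BasOn F (b ⁻¹ᵁ Λ.U.1) e ∧ Flat2F.SecBasis.BasOn N (b ⁻¹ᵁ Λ.U.1) t) (n : ℕ) (hn : 0 < n) (s : X) :
    ∃ U : X.Opens, s ∈ U ∧ IsAffineOpen U ∧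
      Subsingleton (CohTop.HU (X := X'.toTopCat) (Coh.toAb (homSheaf F N)) n (b ⁻¹ᵁ U)) := by
  by_cases hs : s ∈ J.support
  · obtain ⟨Λ, m, k, e, t, he, ht⟩ := h s hs
    refine ⟨Λ.U.1, Λ.hs, Λ.U.2, ?_⟩
    rcases Nat.lt_or_ge n 2 with h2 | h2
    · obtain rfl : n = 1 := by omega
      exact HU_one_of_sums Λ.D hq (sums_hom Λ.D he ht)
    · exact HU_of_two_le Λ.D hq n h2
  · obtain ⟨U, hsU, hU, hU', -⟩ := exists_affine_off S.hb hs
    obtain ⟨m, rfl⟩ : ∃ m, n = m + 1 := ⟨n - 1, by omega⟩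
    exact ⟨U, hsU, hU, CohqA.AffVan.subsingleton_HU_of_isAffineOpen (homSheaf F N) hU' m⟩

theorem basOn_of_push {F : X'.Modules} (hc : IsIso ((Scheme.Modules.pullbackPushforwardAdjunction b).counit.app F))
    {U : X.Opens} {n : ℕ} {e : Fin n → Γ(F, b ⁻¹ᵁ U)}
    (he : Flat2F.SecBasis.BasOn ((Scheme.Modules.pushforward b).obj F) U e) : Flat2F.SecBasis.BasOn F (b ⁻¹ᵁ U) e := by
  have h1 := (he.pullback b).map_iso (asIso ((Scheme.Modules.pullbackPushforwardAdjunction b).counit.app F))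
  have h2 : (fun j => (asIso ((Scheme.Modules.pullbackPushforwardAdjunction b).counit.app F)).hom.app (b ⁻¹ᵁ U)
      (Flat2F.SecBasis.pbs b ((Scheme.Modules.pushforward b).obj F) (e j))) = e := by
    funext j
    exact Off.counit_app_pullSec b F U (e j)
  rwa [h2] at h1

/-- **Sheaf Hom and direct image** for modules coming from below. -/
theorem isIso_push_of_counit {F : X'.Modules} (N : X'.Modules)
    (hc : IsIso ((Scheme.Modules.pullbackPushforwardAdjunction b).counit.app F))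
    (hF : FlatMod.IsFinLocFree ((Scheme.Modules.pushforward b).obj F)) : IsIso (push b F N) := by
  refine isIso_push b N fun x => ?_
  obtain ⟨U, n, e, hx, he⟩ := (Flat2F.SecBasis.isFinLocFree_iff_basOn _).mp hF x
  exact ⟨U, hx, n, e, basOn_of_push hc he, he⟩

theorem nonempty_hom_equiv (S : Setup b J i)
    (hsm : ∀ s ∈ J.support, ∀ O : X.Opens, s ∈ O → ∃ Λ : Loc b J s, Λ.U.1 ≤ O) {F N : X'.Modules}
    (hF' : FlatMod.IsFinLocFree F) (hN' : FlatMod.IsFinLocFree N)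
    (hc : IsIso ((Scheme.Modules.pullbackPushforwardAdjunction b).counit.app F))
    (hF : FlatMod.IsFinLocFree ((Scheme.Modules.pushforward b).obj F))
    (hc' : IsIso ((Scheme.Modules.pullbackPushforwardAdjunction b).counit.app N))
    (hN : FlatMod.IsFinLocFree ((Scheme.Modules.pushforward b).obj N))
    (A : Type u) [CommRing A] [X.Over (Spec (CommRingCat.of A))] [X'.Over (Spec (CommRingCat.of A))]
    (hb : b ≫ (X ↘ Spec (CommRingCat.of A)) = X' ↘ Spec (CommRingCat.of A)) (p : ℕ) :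
    Nonempty (Coh.HH X' (homSheaf F N) p ≃ₗ[A]
      Coh.HH X (homSheaf ((Scheme.Modules.pushforward b).obj F) ((Scheme.Modules.pushforward b).obj N)) p) := by
  have hq : Coh.IsQCoh (homSheaf F N) :=
    CohqB.HomPost.isQCoh_homSheaf_of_isFinLocFree hF' (Ega2.QCohLocal.isQCoh_of_isFinLocFree hN')
  obtain ⟨e⟩ := Leray.nonempty_equiv S hq (HU_hom S hq fun s hs => by
    obtain ⟨U, m, e, hx, he⟩ := (Flat2F.SecBasis.isFinLocFree_iff_basOn _).mp hF s
    obtain ⟨V, n, t, hx', ht⟩ := (Flat2F.SecBasis.isFinLocFree_iff_basOn _).mp hN s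
    obtain ⟨Λ, hΛ⟩ := hsm s hs (U ⊓ V) ⟨hx, hx'⟩
    exact ⟨Λ, m, n, _, _, basOn_of_push hc (he.mono (hΛ.trans inf_le_left)),
      basOn_of_push hc' (ht.mono (hΛ.trans inf_le_right))⟩) A hb p
  have := isIso_push_of_counit (b := b) N hc hF
  exact ⟨e.trans (CurvesA.HHMap.equivOver A (asIso (push b F N)) p)⟩

/-- The frozen sheaf Hom is the concrete one. -/
noncomputable def sheafHomIso {Y : Scheme.{u}} (F : Y.Modules) [ModSite.HasSheafHom (O := Y.sheaf) F] :
    (ModSite.sheafHom (O := Y.sheaf) F : Y.Modules ⥤ Y.Modules) ≅ Dcoh.MonClosed.homFunctor F :=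
  Adjunction.rightAdjointUniq (ModSite.sheafHomAdj (O := Y.sheaf) F) (Dcoh.MonClosed.tensorRightHomAdj F)

end End

end K805.EndSh
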