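import Groth.Agent.SurfBl.K805.Thick
import Groth.Agent.SurfBl.K805.EndSh
import Groth.Agent.CohqB.HLin
import Groth.Agent.S0002
import Groth.Agent.Dix.ProjProper
import Groth.Agent.VarietyA.EulerFinite

/-!
# Dimensions of the sections on infinitesimal neighbourhoods
-/

set_option autoImplicit false
universe u v
open CategoryTheory CategoryTheory.Limits AlgebraicGeometry Opposite TopologicalSpace BlowUp

namespace K805.ThickDim

open Groth.Agent Groth.Agent.Fdesc.LocGen K805.Chart K805.Laurent K805.Gen K805.LF K805.Reg K805.ChartOf K805.Thick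
open Groth.Agent.Sga2.ThickKer Groth.Agent.Dix.IdealModCartier

section Dim

variable (k : Type u) [Field k] {X : Scheme.{u}} [X.Over (Spec (CommRingCat.of k))]

theorem finrank_of_surjective {S : ShortComplex X.Modules} (hS : S.ShortExact)
    [Module.Finite k (Coh.HH X S.X₂ 0)] (hsurj : Function.Surjective (S.g.app ⊤)) :
    Module.finrank k (Coh.HH X S.X₂ 0) = Module.finrank k (Coh.HH X S.X₁ 0) + Module.finrank k (Coh.HH X S.X₃ 0) := by
  let f := CohqB.HLin.HHmapA k S.f 0
  let g := CohqB.HLin.HHmapA k S.g 0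
  have hg : Function.Surjective g := by
    intro z
    obtain ⟨w, hw⟩ := hsurj (CurvesB.HZero.equivAdd S.X₃ z)
    refine ⟨(CurvesB.HZero.equivAdd S.X₂).symm w, ?_⟩
    apply (CurvesB.HZero.equivAdd S.X₃).injective
    have h1 := CurvesB.HZero.equivAdd_map S.g ((CurvesB.HZero.equivAdd S.X₂).symm w)
    rw [AddEquiv.apply_symm_apply, hw] at h1
    exact h1
  have hf : Function.Injective f := CohqB.HLin.HHmap_injective_zero hS
  have hex : Function.Exact f g := CohqB.HLin.HHA_exact₂ k hS 0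
  have h1 := LinearMap.finrank_range_add_finrank_ker g
  rw [LinearMap.range_eq_top.2 hg, finrank_top, hex.linearMap_ker_eq, LinearMap.finrank_range_of_inj hf] at h1
  rw [← h1, add_comm]

end Dim

section Seq

variable {X : Scheme.{u}} {L : X.Modules} {I : X.IdealSheafData}

theorem epi_quotMap {I J : X.IdealSheafData} (h : I ≤ J) : Epi (Lef.quotMap h) := by
  have h1 : ClSub.toSubscheme I ≫ Lef.quotMap h = ClSub.toSubscheme J := by
    ext U s
    exact quotMap_cls h s
  have h2 : Epi (ClSub.toSubscheme J) := (VarietyB.DegCartier.idealSeq_shortExact J).epi_g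
  rw [← h1] at h2
  exact epi_of_epi (ClSub.toSubscheme I) (Lef.quotMap h)

/-- The sequence `0 ⟶ L ⊗ K ⟶ L ⊗ O/I^{n+1} ⟶ L ⊗ O/I^n ⟶ 0`. -/
noncomputable def seq (L : X.Modules) {I J : X.IdealSheafData} (h : I ≤ J) : ShortComplex X.Modules :=
  (ShortComplex.mk (kernel.ι (Lef.quotMap h)) (Lef.quotMap h) (kernel.condition _)).map (DCoh.tensorBi.obj L)

theorem seq_shortExact (hL : PicF.IsInvertible L) {I J : X.IdealSheafData} (h : I ≤ J) : (seq L h).ShortExact := by
  have := epi_quotMap h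
  exact Fga.TwistCoh.shortExact_tensorBi hL _ (VarietyA.StalkCrit.shortExact_kernel (Lef.quotMap h))

/-- Tensoring an isomorphism. -/
noncomputable def tmapIso (L : X.Modules) {M N : X.Modules} (e : M ≅ N) : CohB1.tensorMod L M ≅ CohB1.tensorMod L N :=
  (DCoh.tensorBi.obj L).mapIso e

theorem kernel_iso (hI : IsEffCartierIdeal I) (L : X.Modules) (n : ℕ) (h : I ^ (n + 1) ≤ I ^ n) :
    Nonempty (CohB1.tensorMod L (kernel (Lef.quotMap h)) ≅
      CohB1.tensorMod (CohB1.tensorMod L (ClSub.idealMod (I ^ n))) (ClSub.quotMod I)) := by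
  obtain ⟨e₁⟩ := Sga2.ThickKer.kernel_iso hI (a := 1) (b := n) (add_comm n 1) h
  obtain ⟨e₂⟩ := Sga2.ThickCoh.idealMod_pow hI n
  rw [pow_one] at e₁
  exact ⟨tmapIso L (e₁.symm ≪≫ tmapIso _ e₂ ≪≫ Ega2.Tens.swap _ _) ≪≫ (Ega2.Tens.assoc _ _ _).symm⟩

end Seq

section Main

variable {X X' Z : Scheme.{u}} {b : X' ⟶ X} {J : X.IdealSheafData} {i : Z ⟶ X'}

theorem isProper_of_projective {k : Type u} [Field k] [X.Over (Spec (CommRingCat.of k))]
    (hproj : ∃ (n : ℕ) (ι : X ⟶ CohB1.ProjSpace n k), IsClosedImmersion ι ∧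
      ι ≫ CohB1.ProjSpace.toSpec n k = X ↘ Spec (CommRingCat.of k)) : IsProper (X ↘ Spec (CommRingCat.of k)) := by
  obtain ⟨n, ι, hι, h⟩ := hproj
  have := Dix.ProjProper.isProper_toSpec n k
  rw [← h]
  infer_instance

theorem main (S : SetupR b J i) (k : Type u) [Field k] [X.Over (Spec (CommRingCat.of k))]
    [X'.Over (Spec (CommRingCat.of k))] (hproj : ∃ (n : ℕ) (ι : X ⟶ CohB1.ProjSpace n k), IsClosedImmersion ι ∧
      ι ≫ CohB1.ProjSpace.toSpec n k = X ↘ Spec (CommRingCat.of k))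
    (hb : b ≫ (X ↘ Spec (CommRingCat.of k)) = X' ↘ Spec (CommRingCat.of k))
    (hloc : ∀ s ∈ J.support, ∃ Λ : Loc b J s, ∀ t ∈ Λ.U.1, t ∈ J.support → t = s) (L : X'.Modules)
    (hL : PicF.IsInvertible L) (n : ℕ) (hn : 1 ≤ n) :
    Module.finrank k (Coh.HH X' (CohB1.tensorMod L (ClSub.quotMod ((J.comap b) ^ (n + 1)))) 0) =
      Module.finrank k (Coh.HH X' (CohB1.tensorMod (CohB1.tensorMod L (ClSub.idealMod ((J.comap b) ^ n)))
        (ClSub.quotMod (J.comap b))) 0) +
      Module.finrank k (Coh.HH X' (CohB1.tensorMod L (ClSub.quotMod ((J.comap b) ^ n))) 0) := by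
  have := isProper_of_projective hproj
  have := S.isProper
  have : IsProper (X' ↘ Spec (CommRingCat.of k)) := by rw [← hb]; infer_instance
  have hle : (J.comap b) ^ (n + 1) ≤ (J.comap b) ^ n := by
    rw [pow_succ]
    exact mul_le_of_le_one_right' le_top
  have hS := seq_shortExact hL hle
  have hcoh : Coh.IsCoh (CohB1.tensorMod L (ClSub.quotMod ((J.comap b) ^ (n + 1)))) :=
    VarietyA.EulerFinite.isCoh_of_iso (Ega2.Tens.swap _ _)
      (Fga.TwistCoh.isCoh_tensor (VarietyB.DegCartier.isCoh_quotMod ((J.comap b) ^ (n + 1))) hL)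
  have : Module.Finite k (Coh.HH X' (seq L hle).X₂ 0) := S0002.result k X' _ hcoh 0
  obtain ⟨e⟩ := kernel_iso S.hb.1 L n hle
  have h1 := finrank_of_surjective k hS (fun c => lift_global S.cl hloc hL n hn hle c)
  rw [← (CurvesA.HHMap.equivOver k e 0).finrank_eq]
  exact h1

end Main

end K805.ThickDim
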