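import Groth.Agent.SurfBl.K805.Ample2
import Groth.Agent.SurfBl.K805.ThickDim
import Groth.Agent.CohqB.AmpGeneric

/-!
# Ampleness of `b^* H^N ⊗ ∏ I_i^{a_i}` for blow-ups of smooth projective surfaces
-/

set_option autoImplicit false
universe u v
open CategoryTheory CategoryTheory.Limits AlgebraicGeometry Opposite TopologicalSpace BlowUp

namespace K805.Ample

open Groth.Agent Groth.Agent.Fdesc.LocGen Groth.Agent.Dix.IdealModCartier

theorem tensorList_iso {X : Scheme.{u}} {s : ℕ} (I : Fin s → X.IdealSheafData) (a : Fin s → ℕ)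
    (hI : ∀ i, IsEffCartierIdeal (I i)) :
    Nonempty (ClSub.idealMod (∏ i, I i ^ a i) ≅ FGA.tensorList (List.ofFn fun i => ClSub.idealMod (I i ^ a i))) := by
  rw [← Fga.PicMon.mc_eq_iff, Fga.PicMon.mc_tensorList, List.map_ofFn, List.prod_ofFn,
    Models.H38.TrivGen.mc_idealMod_prod _ _ fun i _ => Divis.EffCartier.isEff_pow (hI i) (a i)]
  rfl

theorem main {k : Type u} [Field k] [IsAlgClosed k] {X X' : Scheme.{u}} [X.Over (Spec (CommRingCat.of k))]
    [SmoothOfRelativeDimension 2 (X ↘ Spec (CommRingCat.of k))]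
    (n : ℕ) (ι : X ⟶ CohB1.ProjSpace n k) [IsClosedImmersion ι]
    (hι : ι ≫ CohB1.ProjSpace.toSpec n k = X ↘ Spec (CommRingCat.of k))
    (s : ℕ) (P : Fin s → X) (hP : Function.Injective P) (hPc : ∀ i, IsClosed ({P i} : Set X))
    (hZ : IsClosed (Set.range P)) (σ : X' ⟶ X)
    (hσ : IsBlowUp σ (Scheme.IdealSheafData.vanishingIdeal ⟨Set.range P, hZ⟩))
    (N : ℕ) (a : Fin s → ℕ) (ha : ∀ i, 0 < a i) (hN : ∑ i, a i < N) :
    CohB1.IsAmple (CohB1.tensorMod
      ((Scheme.Modules.pullback σ).obj (CohB1.tensorPow ((Scheme.Modules.pullback ι).obj (Twist.twistProjSpace n k 1)) N))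
      (FGA.tensorList (List.ofFn fun i : Fin s =>
        ClSub.idealMod ((Scheme.IdealSheafData.vanishingIdeal ⟨{P i}, hPc i⟩).comap σ ^ a i)))) := by
  have hfin : ((⟨Set.range P, hZ⟩ : TopologicalSpace.Closeds X) : Set X).Finite := Set.finite_range P
  have hcl : ∀ t ∈ (⟨Set.range P, hZ⟩ : TopologicalSpace.Closeds X), IsClosed ({t} : Set X) := by
    rintro t ⟨j, rfl⟩
    exact hPc j
  have T := Reg.setupR_smooth (X ↘ Spec (CommRingCat.of k)) ⟨Set.range P, hZ⟩ hfin hcl hσ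
  have := T.isProper
  have hpr : IsProper (X ↘ Spec (CommRingCat.of k)) := ThickDim.isProper_of_projective ⟨n, ι, inferInstance, hι⟩
  have hcpt : CompactSpace X' :=
    (quasiCompact_iff_compactSpace (σ ≫ (X ↘ (Spec (CommRingCat.of k))))).mp inferInstance
  obtain ⟨C⟩ := nonempty_crd ι hι
  have hH : PicF.IsInvertible ((Scheme.Modules.pullback ι).obj (Twist.twistProjSpace n k 1)) :=
    Ega2.H296.PnGen.isInvertible_pullback_twist ι
  have hJ : ∀ i, IsEffCartierIdeal ((Scheme.IdealSheafData.vanishingIdeal ⟨{P i}, hPc i⟩).comap σ) := by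
    intro i
    have h1 : IsEffCartierIdeal (∏ i, (Scheme.IdealSheafData.vanishingIdeal ⟨{P i}, hPc i⟩).comap σ) := by
      rw [← comap_prod, ← vanishing_prod P hP hPc hZ]
      exact hσ.1
    rw [← Finset.mul_prod_erase _ _ (Finset.mem_univ i)] at h1
    exact Divis.BlowUpFormal.isEff_of_mul h1
  obtain ⟨r, rfl⟩ : ∃ r, N = ∑ i, a i + r := ⟨N - ∑ i, a i, by omega⟩
  have h1 := ample C hH P hP hPc hZ σ hσ a ha r (by omega)
  obtain ⟨e⟩ := tensorList_iso (fun i => (Scheme.IdealSheafData.vanishingIdeal ⟨{P i}, hPc i⟩).comap σ) a hJ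
  exact CohqB.AmpCocycle.isAmple_of_iso (ThickDim.tmapIso _ e) h1

end K805.Ample
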