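import Groth.Agent.SurfBl.K805.Chart
import Groth.Agent.Pic13.H958.AffLift
import Groth.Agent.CurvesC.GGSec

/-!
# Restriction to the exceptional divisor in two charts

`D : TC E Ω φ x y`, `i : Z ⟶ B` a closed immersion with ideal `E`, `F` quasi-coherent.
* `sums_of_rest`: if `H¹` of the restriction to `Z` vanishes (for the two charts) then `D.sums F = ⊤`.
* `sumsRest_of_gg`: `H¹` of the restriction vanishes if the restriction is globally generated.
* `span_of_gg`: then the sections over `Ω` generate `F` over the chart.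
* `h0_of_subsingleton`: vanishing of `H⁰(Z, F ⊗ O(-1))` in terms of the charts.
-/

set_option autoImplicit false
universe u
open CategoryTheory CategoryTheory.Limits AlgebraicGeometry Opposite TopologicalSpace Polynomial

namespace K805.Rest

open Groth.Agent.Fdesc Groth.Agent.Fdesc.LocGen K805.Chart Groth.Agent.CurvesC.GGSec

variable {B Z : Scheme.{u}} {E : B.IdealSheafData} (i : Z ⟶ B) [IsClosedImmersion i]

theorem exists_pullSec_eq {F : B.Modules} (hF : Coh.IsQCoh F) {A : B.Opens} (hA : IsAffineOpen A)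
    (t : Γ((Scheme.Modules.pullback i).obj F, i ⁻¹ᵁ A)) : ∃ s : Γ(F, A), pullSec i s = t :=
  (Groth.Agent.Pic13.H958.AffLift.pullSec_aux i hA F hF).1 t

theorem exists_app_eq {A : B.Opens} (hA : IsAffineOpen A) (t : Γ(Z, i ⁻¹ᵁ A)) : ∃ s : Γ(B, A), i.app A s = t :=
  i.app_surjective A hA t

variable {i}

theorem exists_smul_of_pullSec_eq_zero (hi : i.ker = E) {F : B.Modules} (hF : Coh.IsQCoh F) (A : B.affineOpens)
    {f : Γ(B, A.1)} (hf : E.ideal A = Ideal.span {f}) (s : Γ(F, A.1))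
    (hs : (pullSec i s : Γ((Scheme.Modules.pullback i).obj F, i ⁻¹ᵁ A.1)) = 0) : ∃ s' : Γ(F, A.1), s = f • s' := by
  have h1 := (Groth.Agent.Pic13.H958.AffLift.pullSec_aux i A.2 F hF).2 s hs
  have h2 : RingHom.ker (i.app A.1).hom = Ideal.span {f} := by
    rw [← hf, ← hi, Scheme.Hom.ker_apply]
  rw [h2, Submodule.ideal_span_singleton_smul] at h1
  obtain ⟨s', -, hs'⟩ := h1
  exact ⟨s', hs'.symm⟩

lemma pullSec_sub (f : Z ⟶ B) {M : B.Modules} {U : B.Opens} (m n : Γ(M, U)) :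
    pullSec f (m - n) = pullSec f m - pullSec f n :=
  map_sub (((Scheme.Modules.pullbackPushforwardAdjunction f).unit.app M).app U).hom m n

lemma pullSec_sum (f : Z ⟶ B) {M : B.Modules} {U : B.Opens} {ι : Type*} (T : Finset ι) (m : ι → Γ(M, U)) :
    pullSec f (∑ j ∈ T, m j) = ∑ j ∈ T, pullSec f (m j) :=
  map_sum (((Scheme.Modules.pullbackPushforwardAdjunction f).unit.app M).app U).hom m T

variable {Ω : B.Opens} {R : Type u} [CommRing R] {φ : R →+* Γ(B, Ω)} {x y : R} (D : TC E Ω φ x y)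

theorem ideal_W : E.ideal ⟨D.W, D.isAffineOpen_W⟩ = Ideal.span {D.psi x} := by
  rw [← E.map_ideal (U := ⟨D.W, D.isAffineOpen_W⟩) (V := D.U) D.WU, D.idU, Ideal.map_span, Set.image_singleton]
  congr 2
  exact ores_ores D.hU D.WU _

variable (i)

/-- `H¹` of the restriction to `Z` vanishes, in terms of the charts. -/
def SumsRest (F : B.Modules) : Prop :=
  ∀ z : Γ((Scheme.Modules.pullback i).obj F, i ⁻¹ᵁ D.W),
    ∃ (a : Γ((Scheme.Modules.pullback i).obj F, i ⁻¹ᵁ D.U.1)) (b : Γ((Scheme.Modules.pullback i).obj F, i ⁻¹ᵁ D.V.1)),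
      z = res _ (i.preimage_mono D.WU) a + res _ (i.preimage_mono D.WV) b

variable {i}

theorem sums_of_rest (hi : i.ker = E) {F : B.Modules} (hF : Coh.IsQCoh F)
    (hfin : Module.Finite Γ(B, D.V.1) Γ(F, D.V.1)) (h : SumsRest i D F) (z : Γ(F, D.W)) : z ∈ D.sums F := by
  refine D.split hF hfin (fun z => ?_) z
  obtain ⟨a, b, hz⟩ := h (pullSec i z)
  obtain ⟨a, rfl⟩ := exists_pullSec_eq i hF D.U.2 a
  obtain ⟨b, rfl⟩ := exists_pullSec_eq i hF D.V.2 b
  rw [res_pullSec i D.WU, res_pullSec i D.WV, ← pullSec_add, ← sub_eq_zero, ← pullSec_sub] at hz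
  obtain ⟨w, hw⟩ := exists_smul_of_pullSec_eq_zero hi hF ⟨D.W, D.isAffineOpen_W⟩ (ideal_W D) _ hz
  refine ⟨w, D.mem_sums.2 ⟨a, b, ?_⟩⟩
  have hw' : z - (res F D.WU a + res F D.WV b) = D.psi x • w := hw
  rw [← hw']
  abel

section GG

variable {F : B.Modules} {ι : Type u} (e : ι → Γ((Scheme.Modules.pullback i).obj F, (⊤ : Z.Opens)))

/-- The family `e` generates the restriction to `Z` over every affine open. -/
def Gens : Prop := ∀ {A : Z.Opens}, IsAffineOpen A → ∀ s : Γ((Scheme.Modules.pullback i).obj F, A),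
  s ∈ Submodule.span Γ(Z, A) (Set.range fun j => res _ (le_top : A ≤ ⊤) (e j))

omit [IsClosedImmersion i] in
theorem exists_gens (hF : Coh.IsQCoh ((Scheme.Modules.pullback i).obj F))
    (h : Curv2.IsGloballyGenerated ((Scheme.Modules.pullback i).obj F)) :
    ∃ (ι : Type u) (e : ι → Γ((Scheme.Modules.pullback i).obj F, (⊤ : Z.Opens))), Gens e := by
  obtain ⟨ι, e, he⟩ := exists_sections_of_isGloballyGenerated h
  refine ⟨ι, e, fun {A} hA s => ?_⟩
  have h1 := spanOn_eq_top (e := e) hF he hA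
  have h2 : s ∈ spanOn _ e A := by rw [h1]; trivial
  exact h2

variable {e}

/-- Functions over the intersection are sums of functions over the charts. -/
lemma exists_add (g : Γ(B, D.W)) : ∃ (a : Γ(B, D.U.1)) (b : Γ(B, D.V.1)), g = ores D.WU a + ores D.WV b := by
  have hg : g ∈ D.mon := by rw [D.mon_eq_top]; trivial
  unfold TC.mon at hg
  induction hg using AddSubgroup.closure_induction with
  | mem g hg =>
    rcases hg with ⟨r, n, rfl⟩ | ⟨r, n, rfl⟩
    · refine ⟨ores D.hU (φ r) * D.t ^ n, 0, ?_⟩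
      rw [map_mul, map_pow, ores_ores, map_zero, add_zero]
      rfl
    · refine ⟨0, ores D.hV (φ r) * D.s ^ n, ?_⟩
      rw [map_mul, map_pow, ores_ores, map_zero, zero_add]
      rfl
  | zero => exact ⟨0, 0, by rw [map_zero, map_zero, add_zero]⟩
  | add g g' _ _ ih ih' =>
    obtain ⟨a, b, rfl⟩ := ih
    obtain ⟨a', b', rfl⟩ := ih'
    exact ⟨a + a', b + b', by rw [map_add, map_add]; ring⟩
  | neg g _ ih =>
    obtain ⟨a, b, rfl⟩ := ih
    exact ⟨-a, -b, by rw [map_neg, map_neg]; ring⟩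

theorem sumsRest_of_gens (he : Gens e) : SumsRest i D F := by
  intro z
  obtain ⟨c, rfl⟩ : ∃ c : ι →₀ Γ(Z, i ⁻¹ᵁ D.W), z = c.sum fun j r => r • res _ le_top (e j) := by
    obtain ⟨c, hc⟩ := (Finsupp.mem_span_range_iff_exists_finsupp).1 (he (D.isAffineOpen_W.preimage i) z)
    exact ⟨c, hc.symm⟩
  have key : ∀ (r : Γ(Z, i ⁻¹ᵁ D.W)) (j : ι),
      ∃ (a : Γ((Scheme.Modules.pullback i).obj F, i ⁻¹ᵁ D.U.1)) (b : Γ((Scheme.Modules.pullback i).obj F, i ⁻¹ᵁ D.V.1)),
      r • res _ le_top (e j) = res _ (i.preimage_mono D.WU) a + res _ (i.preimage_mono D.WV) b := by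
    intro r j
    obtain ⟨g, rfl⟩ := exists_app_eq i D.isAffineOpen_W r
    obtain ⟨a, b, rfl⟩ := exists_add D g
    refine ⟨i.app D.U.1 a • res _ le_top (e j), i.app D.V.1 b • res _ le_top (e j), ?_⟩
    rw [res_smul, res_smul, res_res, res_res, map_add, add_smul]
    congr 2
    · exact congr($(i.naturality (homOfLE D.WU).op) a)
    · exact congr($(i.naturality (homOfLE D.WV).op) b)
  choose a b hab using key
  refine ⟨c.sum fun j r => a r j, c.sum fun j r => b r j, ?_⟩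
  rw [map_finsuppSum, map_finsuppSum, ← Finsupp.sum_add]
  exact Finsupp.sum_congr fun j _ => hab _ _

/-- Every section over `Z` lifts to `Ω`. -/
theorem exists_lift (hi : i.ker = E) (hF : Coh.IsQCoh F) (hs : ∀ z : Γ(F, D.W), z ∈ D.sums F)
    (s : Γ((Scheme.Modules.pullback i).obj F, i ⁻¹ᵁ Ω)) :
    ∃ c : Γ(F, Ω), pullSec i (res F D.hU c) = res _ (i.preimage_mono D.hU) s := by
  obtain ⟨a, ha⟩ := exists_pullSec_eq i hF D.U.2 (res _ (i.preimage_mono D.hU) s)
  obtain ⟨b, hb⟩ := exists_pullSec_eq i hF D.V.2 (res _ (i.preimage_mono D.hV) s)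
  have h1 : pullSec i (res F D.WU a - res F D.WV b) = 0 := by
    rw [pullSec_sub, ← res_pullSec i D.WU, ← res_pullSec i D.WV, ha, hb, res_res, res_res, sub_self]
  obtain ⟨w, hw⟩ := exists_smul_of_pullSec_eq_zero hi hF ⟨D.W, D.isAffineOpen_W⟩ (ideal_W D) _ h1
  obtain ⟨c, a', b', hc, -⟩ := D.lift hs a b w hw
  refine ⟨c, ?_⟩
  rw [hc, pullSec_sub, ha, sub_eq_self, pullSec_smul]
  have h2 : i.app D.U.1 (ores D.hU (φ x)) = 0 := by
    have h3 : ores D.hU (φ x) ∈ i.ker.ideal D.U := by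
      rw [hi, D.idU]
      exact Ideal.mem_span_singleton_self _
    rw [Scheme.Hom.ker_apply] at h3
    exact h3
  rw [h2, zero_smul]

/-- The sections over `Ω` generate over the first chart. -/
theorem span_of_gens (hi : i.ker = E) (hF : Coh.IsQCoh F) (hfin : Module.Finite Γ(B, D.U.1) Γ(F, D.U.1))
    (hs : ∀ z : Γ(F, D.W), z ∈ D.sums F) (he : Gens e) :
    Submodule.span Γ(B, D.U.1) (Set.range (res F D.hU)) = ⊤ := by
  refine D.span_res_eq_top hF hfin fun m => ?_
  have h1 := he (D.U.2.preimage i) (pullSec i m)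
  suffices h : ∀ t ∈ Submodule.span Γ(Z, i ⁻¹ᵁ D.U.1) (Set.range fun j => res _ (le_top : i ⁻¹ᵁ D.U.1 ≤ ⊤) (e j)),
      ∃ m₁ ∈ Submodule.span Γ(B, D.U.1) (Set.range (res F D.hU)), pullSec i m₁ = t by
    obtain ⟨m₁, hm₁, h2⟩ := h _ h1
    obtain ⟨m', hm'⟩ := exists_smul_of_pullSec_eq_zero hi hF D.U D.idU (m - m₁) (by
      rw [pullSec_sub, h2, sub_self])
    refine ⟨m', ?_⟩
    rw [← hm', sub_sub_cancel]
    exact hm₁
  intro t ht
  induction ht using Submodule.span_induction with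
  | mem t ht =>
    obtain ⟨j, rfl⟩ := ht
    obtain ⟨c, hc⟩ := exists_lift D hi hF hs (res _ le_top (e j))
    exact ⟨res F D.hU c, Submodule.subset_span ⟨c, rfl⟩, hc.trans (res_res _ _ _ _)⟩
  | zero => exact ⟨0, zero_mem _, map_zero (((Scheme.Modules.pullbackPushforwardAdjunction i).unit.app F).app D.U.1).hom⟩
  | add t t' _ _ ih ih' =>
    obtain ⟨m₁, h1, rfl⟩ := ih
    obtain ⟨m₂, h2, rfl⟩ := ih'
    exact ⟨m₁ + m₂, add_mem h1 h2, pullSec_add i _ _⟩
  | smul g t _ ih =>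
    obtain ⟨m₁, h1, rfl⟩ := ih
    obtain ⟨g, rfl⟩ := exists_app_eq i D.U.2 g
    exact ⟨g • m₁, Submodule.smul_mem _ _ h1, pullSec_smul i _ _⟩

end GG

/-- `H⁰(Z, F ⊗ O(-1)) = 0` in terms of the charts. -/
theorem h0_of_subsingleton (hi : i.ker = E) {F L : B.Modules}
    (hFL : Coh.IsQCoh (CohB1.tensorMod F L)) {eU : Γ(L, D.U.1)} {eV : Γ(L, D.V.1)} (hU : IsGen eU) (hV : IsGen eV)
    (h : res L D.WU eU = D.tW • res L D.WV eV)
    (h0 : Subsingleton Γ((Scheme.Modules.pullback i).obj (CohB1.tensorMod F L), i ⁻¹ᵁ Ω))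
    (a : Γ(F, D.U.1)) (b : Γ(F, D.V.1)) (hab : D.tW • res F D.WU a = res F D.WV b) :
    (∃ a', a = ores D.hU (φ x) • a') ∧ ∃ b', b = ores D.hV (φ y) • b' := by
  obtain ⟨c, hcU, hcV⟩ := D.glue (F := CohB1.tensorMod F L) (tmul a eU) (tmul b eV) (by
    rw [res_tmul, res_tmul, h, tmul_smul, ← smul_tmul, hab])
  have h1 : pullSec i c = 0 := Subsingleton.elim _ _
  constructor
  · have h2 : pullSec i (tmul a eU) = 0 := by
      rw [← hcU, ← res_pullSec i D.hU, h1, map_zero]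
    obtain ⟨w, hw⟩ := exists_smul_of_pullSec_eq_zero hi hFL D.U D.idU _ h2
    obtain ⟨a', ha'⟩ := (tmul_right_bijective F hU le_rfl).2 w
    refine ⟨a', (tmul_right_bijective F hU le_rfl).1 ?_⟩
    dsimp only at ha' ⊢
    rw [res_refl] at ha' ⊢
    rw [smul_tmul, ha', hw]
  · have h2 : pullSec i (tmul b eV) = 0 := by
      rw [← hcV, ← res_pullSec i D.hV, h1, map_zero]
    obtain ⟨w, hw⟩ := exists_smul_of_pullSec_eq_zero hi hFL D.V D.idV _ h2
    obtain ⟨b', hb'⟩ := (tmul_right_bijective F hV le_rfl).2 w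
    refine ⟨b', (tmul_right_bijective F hV le_rfl).1 ?_⟩
    dsimp only at hb' ⊢
    rw [res_refl] at hb' ⊢
    rw [smul_tmul, hb', hw]

end K805.Rest
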