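import Groth.Agent.SurfBl.K805.Laurent
import Groth.Agent.SurfBl.K805.Rest
import Groth.Agent.Flat2F.SecBasis2

/-!
# Modules whose restriction to the exceptional divisor is free
-/

set_option autoImplicit false
universe u
open CategoryTheory CategoryTheory.Limits AlgebraicGeometry Opposite TopologicalSpace Polynomial

namespace K805.Triv

open Groth.Agent Groth.Agent.Fdesc Groth.Agent.Fdesc.LocGen K805.Chart K805.Rest K805.Laurent

variable {B Z : Scheme.{u}} {E : B.IdealSheafData} {i : Z ⟶ B} [IsClosedImmersion i]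
variable {Ω : B.Opens} {R : Type u} [CommRing R] {φ : R →+* Γ(B, Ω)} {x y : R} {D : TC E Ω φ x y}

lemma app_eq_zero_iff (hi : i.ker = E) (A : B.affineOpens) {f : Γ(B, A.1)} (hf : E.ideal A = Ideal.span {f}) (g : Γ(B, A.1)) :
    i.app A.1 g = 0 ↔ ∃ g', g = f * g' := by
  have h2 : RingHom.ker (i.app A.1).hom = Ideal.span {f} := by
    rw [← hf, ← hi, Scheme.Hom.ker_apply]
  have h3 : i.app A.1 g = 0 ↔ g ∈ Ideal.span {f} := by rw [← h2]; exact Iff.rfl
  rw [h3, Ideal.mem_span_singleton]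
  exact Iff.rfl

/-- The coefficients with respect to a basis of the restriction. -/
theorem exists_coeff {M : Z.Modules} {A₀ : Z.Opens} {r : ℕ} {e : Fin r → Γ(M, A₀)} (he : Flat2F.SecBasis.BasOn M A₀ e)
    {A : B.Opens} (hA : IsAffineOpen A) (hle : i ⁻¹ᵁ A ≤ A₀) (m : Γ(M, i ⁻¹ᵁ A)) :
    ∃ a : Fin r → Γ(B, A), m = ∑ j, i.app A (a j) • res M hle (e j) := by
  obtain ⟨α, hα⟩ := (he (i ⁻¹ᵁ A) hle).2 m
  choose a ha using fun j => exists_app_eq i hA (α j)
  refine ⟨a, ?_⟩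
  rw [← hα]
  exact Finset.sum_congr rfl fun j _ => by rw [ha]; rfl

theorem coeff_ext {M : Z.Modules} {A₀ : Z.Opens} {r : ℕ} {e : Fin r → Γ(M, A₀)} (he : Flat2F.SecBasis.BasOn M A₀ e)
    {A : Z.Opens} (hle : A ≤ A₀) {α β : Fin r → Γ(Z, A)}
    (h : ∑ j, α j • res M hle (e j) = ∑ j, β j • res M hle (e j)) : α = β :=
  (he A hle).1 h

theorem h0_of_basOn (hinj : InjU D) (hrp : RP x y) (hi : i.ker = E) {F : B.Modules} (hF : Coh.IsQCoh F) {A₀ : Z.Opens}
    (hA₀ : i ⁻¹ᵁ Ω ≤ A₀) {r : ℕ} {e : Fin r → Γ((Scheme.Modules.pullback i).obj F, A₀)}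
    (he : Flat2F.SecBasis.BasOn ((Scheme.Modules.pullback i).obj F) A₀ e)
    (a : Γ(F, D.U.1)) (c : Γ(F, D.V.1)) (hab : D.tW • res F D.WU a = res F D.WV c) :
    (∃ a', a = ores D.hU (φ x) • a') ∧ ∃ c', c = ores D.hV (φ y) • c' := by
  obtain ⟨α, hα⟩ := exists_coeff he D.U.2 ((i.preimage_mono D.hU).trans hA₀) (pullSec i a)
  obtain ⟨γ, hγ⟩ := exists_coeff he D.V.2 ((i.preimage_mono D.hV).trans hA₀) (pullSec i c)
  have h1 : (fun j => i.app D.W (D.tW * ores D.WU (α j))) = fun j => i.app D.W (ores D.WV (γ j)) := by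
    refine coeff_ext he ((i.preimage_mono D.hW).trans hA₀) ?_
    have h2 := congrArg (pullSec i) hab
    rw [pullSec_smul, ← res_pullSec i D.WU, ← res_pullSec i D.WV, hα, hγ, map_sum, map_sum, Finset.smul_sum] at h2
    refine Eq.trans ?_ (h2.trans ?_)
    · refine Finset.sum_congr rfl fun j _ => ?_
      rw [res_smul, res_res, smul_smul, map_mul]
      congr 2
      exact congr($(i.naturality (homOfLE D.WU).op) (α j))
    · refine Finset.sum_congr rfl fun j _ => ?_
      rw [res_smul, res_res]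
      congr 1
      exact (congr($(i.naturality (homOfLE D.WV).op) (γ j))).symm
  have h3 : ∀ j, (∃ A', α j = ores D.hU (φ x) * A') ∧ ∃ C'', γ j = ores D.hV (φ y) * C'' := by
    intro j
    have h4 := congrFun h1 j
    dsimp only at h4
    rw [← sub_eq_zero, ← map_sub, app_eq_zero_iff hi ⟨D.W, D.isAffineOpen_W⟩ (ideal_W D)] at h4
    obtain ⟨g, hg⟩ := h4
    exact laurent hinj hrp Nat.one_pos (α j) (γ j) g (by rw [pow_one]; exact hg)
  constructor
  · refine exists_smul_of_pullSec_eq_zero hi hF D.U D.idU a ?_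
    rw [hα]
    refine Finset.sum_eq_zero fun j _ => ?_
    rw [(app_eq_zero_iff hi D.U D.idU (α j)).2 (h3 j).1, zero_smul]
  · refine exists_smul_of_pullSec_eq_zero hi hF D.V D.idV c ?_
    rw [hγ]
    refine Finset.sum_eq_zero fun j _ => ?_
    rw [(app_eq_zero_iff hi D.V D.idV (γ j)).2 (h3 j).2, zero_smul]

end K805.Triv
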