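import Groth.Agent.SurfBl.K805.Reg
import Groth.Agent.SurfBl.K805.Triv

/-!
# The counit is an isomorphism for modules trivial on the exceptional divisor
-/

set_option autoImplicit false
universe u
open CategoryTheory CategoryTheory.Limits AlgebraicGeometry Opposite TopologicalSpace BlowUp

namespace K805.CounitIso

open Groth.Agent Groth.Agent.Fdesc.LocGen K805.GG K805.LF K805.Laurent K805.Main K805.Chart K805.ChartOf K805.Reg
  K805.FreeReg K805.Triv

variable {X X' Z : Scheme.{u}}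

/-- A finite free module is globally generated. -/
theorem isGloballyGenerated_of_iso {M : Z.Modules} {r : ℕ} (e : M ≅ FlatMod.freeMod Z r) :
    Curv2.IsGloballyGenerated M := by
  let f : (SheafOfModules.free (ULift.{u} (Fin r)) : Z.Modules) ≅ FlatMod.freeMod Z r :=
    Sigma.whiskerEquiv (f := fun _ : ULift.{u} (Fin r) => Coh.structureModule Z)
      (g := fun _ : Fin r => Coh.structureModule Z) Equiv.ulift (fun _ => Iso.refl _)
  exact ⟨ULift.{u} (Fin r), (f ≪≫ e.symm).hom, inferInstance⟩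

theorem exists_basOn_of_iso {M : Z.Modules} {r : ℕ} (e : M ≅ FlatMod.freeMod Z r) :
    ∃ s : Fin r → Γ(M, (⊤ : Z.Opens)), Flat2F.SecBasis.BasOn M ⊤ s :=
  ⟨_, (Flat2F.SecBasis.basOn_freeE (X := Z) r).map_iso e.symm⟩

variable {b : X' ⟶ X} {J : X.IdealSheafData} {i : Z ⟶ X'}

theorem isFinLocFree_push_of_loc (S : SetupR b J i) {F : X'.Modules} (hF : FlatMod.IsFinLocFree F)
    (h : ∀ s ∈ J.support, ∃ Λ : Loc b J s,
      Reg2 Γ(X, Λ.U.1) Γ((Scheme.Modules.pushforward b).obj F, Λ.U.1) Λ.x Λ.y) :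
    FlatMod.IsFinLocFree ((Scheme.Modules.pushforward b).obj F) := by
  have := S.noeth
  have := S.noeth'
  have := S.isProper
  have hcoh' := FormalB.PpFinal.isCoh_push b F (Setup.isCoh hF)
  refine Dcoh.FinLocFree.isFinLocFree_of_local fun s => ?_
  by_cases hs : s ∈ J.support
  · obtain ⟨Λ, hΛ⟩ := h s hs
    obtain ⟨V, n, hsV, ⟨e⟩⟩ := Divis.StalkMod.exists_free_nhd hcoh' s (free_stalk Λ.hs Λ.crd Λ.ideal hcoh' hΛ)
    exact ⟨_, V.ι, inferInstance, by rw [Scheme.Opens.opensRange_ι]; exact hsV,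
      Dcoh.FinLocFree.isFinLocFree_of_iso e.symm (Dcoh.FinLocFree.isFinLocFree_freeMod _ _)⟩
  · obtain ⟨W, hW, hsW⟩ : ∃ W : X.Opens, IsIso (b ∣_ W) ∧ s ∈ W :=
      ⟨J.support.compl, Divis.BlowUpFormal.isIso_morphismRestrict_compl_support S.hb J.support.compl disjoint_compl_left, hs⟩
    exact ⟨_, W.ι, inferInstance, by rw [Scheme.Opens.opensRange_ι]; exact hsW, isFinLocFree_restrict_push W hF⟩

/-- Regularity for modules which are free on the exceptional divisor near `s`. -/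
theorem reg2_of_basOn (S : SetupR b J i) {F : X'.Modules} (hF : FlatMod.IsFinLocFree F) {s : X} (Λ : Loc b J s)
    {A₀ : Z.Opens} (hA₀ : i ⁻¹ᵁ (b ⁻¹ᵁ Λ.U.1) ≤ A₀) {r : ℕ} {e : Fin r → Γ((Scheme.Modules.pullback i).obj F, A₀)}
    (he : Flat2F.SecBasis.BasOn ((Scheme.Modules.pullback i).obj F) A₀ e) :
    Reg2 Γ(X, Λ.U.1) Γ((Scheme.Modules.pushforward b).obj F, Λ.U.1) Λ.x Λ.y := by
  have := S.ci
  have hq := Ega2.QCohLocal.isQCoh_of_isFinLocFree hF
  exact reg2 Λ.D hq hF (h0_of_basOn Λ.inj Λ.rp S.hi hq hA₀ he)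

/-- **Modules trivial on the exceptional divisor come from below.** -/
theorem main (S : SetupR b J i) {F : X'.Modules} (hF : FlatMod.IsFinLocFree F) {r : ℕ}
    (e : (Scheme.Modules.pullback i).obj F ≅ FlatMod.freeMod Z r) :
    FlatMod.IsFinLocFree ((Scheme.Modules.pushforward b).obj F) ∧
      IsIso ((Scheme.Modules.pullbackPushforwardAdjunction b).counit.app F) := by
  obtain ⟨v, hv⟩ := exists_basOn_of_iso e
  have h1 : FlatMod.IsFinLocFree ((Scheme.Modules.pushforward b).obj F) := by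
    refine isFinLocFree_push_of_loc S hF fun s hs => ?_
    obtain ⟨Λ⟩ := S.exists_loc hs
    exact ⟨Λ, reg2_of_basOn S hF Λ le_top hv⟩
  refine ⟨h1, ?_⟩
  have h2 := LF.mono_counit S.hb h1
  have h3 := S.epi_counit hF (isGloballyGenerated_of_iso e)
  exact isIso_of_mono_of_epi _

end K805.CounitIso
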