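import Groth.Agent.SurfBl.K805.CounitIso
import Groth.Agent.Flat2F.SecBasis3

/-!
# Modules trivial on one exceptional curve are trivial near it
-/

set_option autoImplicit false
universe u
open CategoryTheory CategoryTheory.Limits AlgebraicGeometry Opposite TopologicalSpace BlowUp

namespace K805.Near

open Groth.Agent Groth.Agent.Fdesc Groth.Agent.Fdesc.LocGen K805.GG K805.LF K805.Laurent K805.Main K805.Chart K805.ChartOf K805.Reg
  K805.FreeReg K805.Triv K805.Rest

/-- Change of the ideal. -/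
noncomputable def congr {B : Scheme.{u}} {E E' : B.IdealSheafData} {Ω : B.Opens} {R : Type u} [CommRing R]
    {φ : R →+* Γ(B, Ω)} {x y : R} (D : TC E Ω φ x y) (hU : E'.ideal D.U = E.ideal D.U) (hV : E'.ideal D.V = E.ideal D.V) :
    TC E' Ω φ x y where
  U := D.U
  V := D.V
  hU := D.hU
  hV := D.hV
  cov := D.cov
  t := D.t
  s := D.s
  ht := D.ht
  hs := D.hs
  idU := hU.trans D.idU
  idV := hV.trans D.idV
  nzU := D.nzU
  nzV := D.nzV
  nzt := D.nzt
  nzs := D.nzs
  infU := D.infU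
  infV := D.infV
  genU := D.genU
  genV := D.genV

/-- Change of the center away from the chart. -/
noncomputable def congrJ {X X' : Scheme.{u}} {b : X' ⟶ X} {J J' : X.IdealSheafData} {U : X.affineOpens} {x y : Γ(X, U.1)}
    (D : TC (J.comap b) (b ⁻¹ᵁ U.1) (phi b U) x y) (h : J'.ideal U = J.ideal U) :
    TC (J'.comap b) (b ⁻¹ᵁ U.1) (phi b U) x y :=
  congr D (by rw [Divis.IdealComap.ideal_comap J' b U D.U D.hU, Divis.IdealComap.ideal_comap J b U D.U D.hU, h])
    (by rw [Divis.IdealComap.ideal_comap J' b U D.V D.hV, Divis.IdealComap.ideal_comap J b U D.V D.hV, h])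

section Lift

variable {B Z : Scheme.{u}} {E : B.IdealSheafData} {i : Z ⟶ B} [IsClosedImmersion i]
variable {Ω : B.Opens} {R : Type u} [CommRing R] {φ : R →+* Γ(B, Ω)} {x y : R} (D : TC E Ω φ x y)

include D in
/-- Every section over `Z` lifts to `Ω`. -/
theorem exists_lift (hi : i.ker = E) {F : B.Modules} (hF : Coh.IsQCoh F) (hs : ∀ z : Γ(F, D.W), z ∈ D.sums F)
    (s : Γ((Scheme.Modules.pullback i).obj F, i ⁻¹ᵁ Ω)) : ∃ c : Γ(F, Ω), pullSec i c = s := by
  obtain ⟨a, ha⟩ := exists_pullSec_eq i hF D.U.2 (res _ (i.preimage_mono D.hU) s)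
  obtain ⟨b, hb⟩ := exists_pullSec_eq i hF D.V.2 (res _ (i.preimage_mono D.hV) s)
  have h1 : pullSec i (res F D.WU a - res F D.WV b) = 0 := by
    rw [pullSec_sub, ← res_pullSec i D.WU, ← res_pullSec i D.WV, ha, hb, res_res, res_res, sub_self]
  obtain ⟨w, hw⟩ := exists_smul_of_pullSec_eq_zero hi hF ⟨D.W, D.isAffineOpen_W⟩ (ideal_W D) _ h1
  obtain ⟨c, a', b', hcU, hcV⟩ := D.lift hs a b w hw
  have hxU : i.app D.U.1 (ores D.hU (φ x)) = 0 := (app_eq_zero_iff hi D.U D.idU _).2 ⟨1, (mul_one _).symm⟩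
  have hyV : i.app D.V.1 (ores D.hV (φ y)) = 0 := (app_eq_zero_iff hi D.V D.idV _).2 ⟨1, (mul_one _).symm⟩
  refine ⟨c, res_ext _ (fun k : Bool => i ⁻¹ᵁ (bif k then D.U.1 else D.V.1)) (V := i ⁻¹ᵁ Ω)
    (fun k => match k with
      | true => i.preimage_mono D.hU
      | false => i.preimage_mono D.hV) ?_ ?_⟩
  · intro z hz
    have hz' : i z ∈ D.U.1 ⊔ D.V.1 := by rw [D.cov]; exact hz
    rcases hz' with h | h
    · exact Opens.mem_iSup.2 ⟨true, h⟩
    · exact Opens.mem_iSup.2 ⟨false, h⟩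
  · rintro (_ | _)
    · rw [res_pullSec i D.hV, hcV, pullSec_sub, pullSec_smul, hyV, zero_smul, sub_zero, hb]
    · rw [res_pullSec i D.hU, hcU, pullSec_sub, pullSec_smul, hxU, zero_smul, sub_zero, ha]

omit [IsClosedImmersion i] in
/-- A basis generates. -/
theorem gens_of_basOn {F : B.Modules} {r : ℕ} {e : Fin r → Γ((Scheme.Modules.pullback i).obj F, (⊤ : Z.Opens))}
    (he : Flat2F.SecBasis.BasOn ((Scheme.Modules.pullback i).obj F) ⊤ e) : Gens (i := i) (F := F) (fun j : ULift.{u} (Fin r) => e j.down) := by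
  intro A hA s
  obtain ⟨c, hc⟩ := (he A le_top).2 s
  rw [← hc]
  exact sum_mem fun j _ => Submodule.smul_mem _ _ (Submodule.subset_span ⟨ULift.up j, rfl⟩)

end Lift

variable {X X' : Scheme.{u}} {b : X' ⟶ X} {J J' : X.IdealSheafData}

/-- **Modules trivial on an exceptional curve are trivial near it.** -/
theorem main {Z : Scheme.{u}} (i : Z ⟶ X') [IsClosedImmersion i] {s : X} (Λ : Loc b J s)
    (h : J'.ideal Λ.U = J.ideal Λ.U) (hsup : ∀ t ∈ J'.support, t = s) (hi : i.ker = J'.comap b) {F : X'.Modules}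
    (hF : FlatMod.IsFinLocFree F) {r : ℕ} (e : (Scheme.Modules.pullback i).obj F ≅ FlatMod.freeMod Z r) :
    ∃ V : X'.Opens, ((J'.comap b).support : Set X') ⊆ (V : Set X') ∧ Nonempty (F.restrict V.ι ≅ FlatMod.freeMod V r) := by
  obtain ⟨v, hv⟩ := CounitIso.exists_basOn_of_iso e
  let D := congrJ Λ.D h
  have hq := Ega2.QCohLocal.isQCoh_of_isFinLocFree hF
  have hfin := Setup.fin_of_flf hF
  have hs := sums_of_rest D hi hq (hfin _ D.V.2) (sumsRest_of_gens D (gens_of_basOn hv))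
  have key : ∀ j, ∃ c : Γ(F, b ⁻¹ᵁ Λ.U.1), pullSec i c = res _ le_top (v j) := fun j => exists_lift D hi hq hs _
  choose c hc using key
  let V : X'.Opens := ⟨{z : X' | ∃ hx : z ∈ b ⁻¹ᵁ Λ.U.1, Flat2F.SecBasis.BasAt F c z hx}, Flat2F.SecBasis.isOpen_basAt hF c⟩
  have hVle : V ≤ b ⁻¹ᵁ Λ.U.1 := fun z hz => hz.1
  refine ⟨V, ?_, ?_⟩
  · intro z hz
    have hz' : b z = s := by
      have h1 : z ∈ (J'.comap b).support := hz
      rw [Scheme.IdealSheafData.support_comap] at h1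
      exact hsup _ h1
    have hzΩ : z ∈ b ⁻¹ᵁ Λ.U.1 := by
      change b z ∈ Λ.U.1
      rw [hz']
      exact Λ.hs
    obtain ⟨w, rfl⟩ : ∃ w, i w = z := by
      have h1 : z ∈ (i.ker.support : Set X') := by rw [hi]; exact hz
      rw [Scheme.Hom.support_ker, i.isClosedEmbedding.isClosed_range.closure_eq] at h1
      exact h1
    refine ⟨hzΩ, ?_⟩
    obtain ⟨W, n, t, hxW, ht⟩ := (Flat2F.SecBasis.isFinLocFree_iff_basOn F).mp hF (i w)
    have h2 : Flat2F.SecBasis.BasAt ((Scheme.Modules.pullback i).obj F) (fun j => Flat2F.SecBasis.pbs i F (c j)) w hzΩ := by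
      have h3 : (fun j => Flat2F.SecBasis.pbs i F (c j)) = fun j => res _ (le_top : i ⁻¹ᵁ (b ⁻¹ᵁ Λ.U.1) ≤ ⊤) (v j) := by
        funext j
        exact hc j
      rw [h3]
      exact (Flat2F.SecBasis.basAt_res v le_top w hzΩ).2 (hv.basAt w trivial)
    obtain rfl : r = n := by
      have h4 := (ht.basAt (i w) hxW).pullback i (x := w)
      exact Flat2F.BasAlg.IsBas.eq_of_isBas h2 h4
    exact Flat2F.SecBasis.BasAt.of_pullback i (ht.basAt (i w) hxW) h2
  · rw [Flat2F.SecBasis.nonempty_restrict_iso_iff]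
    refine ⟨fun j => res F hVle (c j), Flat2F.SecBasis.basOn_of_basAt fun z hz => ?_⟩
    exact (Flat2F.SecBasis.basAt_res c hVle z hz).2 hz.2

end K805.Near
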