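import Groth.Agent.SurfBl.K805.CounitIso
import Groth.Agent.Flat2F.SecBasis3
import Groth.Agent.VarietyB.HHPush
import Groth.Agent.Flat2D.LocalGlobalH

/-!
# Cohomology of modules on the blow-up acyclic along the fibres; the rank of the direct image
-/

set_option autoImplicit false
universe u
open CategoryTheory CategoryTheory.Limits AlgebraicGeometry Opposite TopologicalSpace BlowUp

namespace K805.Leray

open Groth.Agent Groth.Agent.Fdesc Groth.Agent.Fdesc.LocGen K805.GG K805.LF K805.Laurent K805.Main K805.Chart K805.ChartOf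
  K805.Reg K805.FreeReg K805.Triv K805.Rest

variable {X X' Z : Scheme.{u}} {b : X' ⟶ X} {J : X.IdealSheafData} {i : Z ⟶ X'}

theorem acyc (S : Setup b J i) {F : X'.Modules} (hq : Coh.IsQCoh F) (h : ∀ n : ℕ, 0 < n → ∀ s : X,
    ∃ U : X.Opens, s ∈ U ∧ IsAffineOpen U ∧ Subsingleton (CohTop.HU (X := X'.toTopCat) (Coh.toAb F) n (b ⁻¹ᵁ U))) :
    VarietyB.HHPush.Acyc b F := by
  have := S.isProper
  intro V hV n x
  have h1 : Subsingleton (CohTop.HU (X := X'.toTopCat) (Coh.toAb F) (n + 1) (b ⁻¹ᵁ V)) := by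
    refine Flat2D.LocalGlobalH.HU_of_local b F hq n ⊤ (fun y _ => ?_) V hV le_top
    obtain ⟨U, h1, h2, h3⟩ := h (n + 1) n.succ_pos y
    exact ⟨U, h2, h1, h3⟩
  exact @Subsingleton.elim _ h1 x 0

theorem nonempty_equiv (S : Setup b J i) {F : X'.Modules} (hq : Coh.IsQCoh F) (h : ∀ n : ℕ, 0 < n → ∀ s : X,
    ∃ U : X.Opens, s ∈ U ∧ IsAffineOpen U ∧ Subsingleton (CohTop.HU (X := X'.toTopCat) (Coh.toAb F) n (b ⁻¹ᵁ U)))
    (A : Type u) [CommRing A] [X.Over (Spec (CommRingCat.of A))] [X'.Over (Spec (CommRingCat.of A))]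
    (hb : b ≫ (X ↘ Spec (CommRingCat.of A)) = X' ↘ Spec (CommRingCat.of A)) (p : ℕ) :
    Nonempty (Coh.HH X' F p ≃ₗ[A] Coh.HH X ((Scheme.Modules.pushforward b).obj F) p) := by
  obtain ⟨e⟩ := VarietyB.HHPush.exists_equiv b A hb p F (acyc S hq h)
  exact ⟨(VarietyB.HHLes.toHH A F p).symm.trans (e.symm.trans (VarietyB.HHLes.toHH A _ p))⟩

/-- Decomposition in the charts from the vanishing of `H¹(Z, F|_Z)`. -/
theorem sums_of_h1 (S : Setup b J i) {F : X'.Modules} (hF : FlatMod.IsFinLocFree F)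
    (h1 : Subsingleton (Coh.HH Z ((Scheme.Modules.pullback i).obj F) 1)) (U : X.affineOpens) (x y : Γ(X, U.1))
    (D : TC (J.comap b) (b ⁻¹ᵁ U.1) (phi b U) x y) (z : Γ(F, D.W)) : z ∈ D.sums F := by
  have := S.ci
  have hq := Ega2.QCohLocal.isQCoh_of_isFinLocFree hF
  have h2 := Clopen.HU_clopen S.hi S.fin S.cl U.1 _ 1 h1
  refine sums_of_rest D S.hi hq (Setup.fin_of_flf hF _ D.V.2) (fun w => ?_) z
  have h3 : i ⁻¹ᵁ (b ⁻¹ᵁ U.1) = i ⁻¹ᵁ D.U.1 ⊔ i ⁻¹ᵁ D.V.1 := congrArg (fun A : X'.Opens => i ⁻¹ᵁ A) D.cov.symm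
  rw [h3] at h2
  exact TwoOpen.exists_add _ h2 w

theorem HU_of_h1 (S : Setup b J i) {F : X'.Modules} (hF : FlatMod.IsFinLocFree F)
    (h1 : Subsingleton (Coh.HH Z ((Scheme.Modules.pullback i).obj F) 1)) (n : ℕ) (hn : 0 < n) (s : X) :
    ∃ U : X.Opens, s ∈ U ∧ IsAffineOpen U ∧ Subsingleton (CohTop.HU (X := X'.toTopCat) (Coh.toAb F) n (b ⁻¹ᵁ U)) :=
  HU_of_sums S.hb S.crd.hasCrd (Ega2.QCohLocal.isQCoh_of_isFinLocFree hF)
    (fun U x y _ D => sums_of_h1 S hF h1 U x y D) n hn s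

/-- The rank of the direct image. -/
theorem rank_push [PreirreducibleSpace X] (W₀ : X.Opens) [IsIso (b ∣_ W₀)] (hne : (W₀ : Set X).Nonempty) {F : X'.Modules}
    {r : ℕ} (hF : FlatMod.IsFinLocFreeOfRank r F)
    (hP : FlatMod.IsFinLocFree ((Scheme.Modules.pushforward b).obj F)) :
    FlatMod.IsFinLocFreeOfRank r ((Scheme.Modules.pushforward b).obj F) := by
  intro x
  obtain ⟨V, n, hxV, hV⟩ := hP x
  obtain ⟨v, hv⟩ := (Flat2F.SecBasis.nonempty_restrict_iso_iff _ V).1 hV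
  refine ⟨V, hxV, ?_⟩
  suffices h : r = n by rw [h]; exact hV
  obtain ⟨t, htV, htW⟩ := nonempty_preirreducible_inter V.2 W₀.2 ⟨x, hxV⟩ hne
  obtain ⟨z, hz⟩ := (b ∣_ W₀).surjective ⟨t, htW⟩
  have hz' : b z.1 = t := by
    have := congrArg Subtype.val hz
    rwa [morphismRestrict_base_coe] at this
  have h1 := (hv.pullback b).mono (b.preimage_mono (inf_le_left : V ⊓ W₀ ≤ V))
  have h2 := h1.map ((Scheme.Modules.pullbackPushforwardAdjunction b).counit.app F) (fun A hA =>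
    Off.bijective_counit_app b W₀ F A (hA.trans (b.preimage_mono inf_le_right)))
  obtain ⟨W, hzW, hW⟩ := hF z.1
  obtain ⟨w, hw⟩ := (Flat2F.SecBasis.nonempty_restrict_iso_iff F W).1 hW
  have hzA : z.1 ∈ b ⁻¹ᵁ (V ⊓ W₀) := ⟨by rw [hz']; exact htV, by rw [hz']; exact htW⟩
  exact Flat2F.BasAlg.IsBas.eq_of_isBas (hw.basAt z.1 hzW) (h2.basAt z.1 hzA)

/-- The center is not everything. -/
theorem exists_not_mem_support [IsIntegral X] (S : SetupR b J i) : ∃ s : X, s ∉ J.support := by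
  refine ⟨genericPoint X, fun h => ?_⟩
  have h1 := (S.reg _ h).2
  have h2 : ringKrullDim (X.presheaf.stalk (genericPoint X)) = 0 :=
    ringKrullDim_eq_zero_of_field X.functionField
  rw [h2] at h1
  exact absurd h1 (by norm_num)

theorem rank_push' [IsIntegral X] (S : SetupR b J i) {F : X'.Modules} {r : ℕ} (hF : FlatMod.IsFinLocFreeOfRank r F)
    (hP : FlatMod.IsFinLocFree ((Scheme.Modules.pushforward b).obj F)) :
    FlatMod.IsFinLocFreeOfRank r ((Scheme.Modules.pushforward b).obj F) := by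
  obtain ⟨W, hW, hne⟩ : ∃ W : X.Opens, IsIso (b ∣_ W) ∧ (W : Set X).Nonempty :=
    ⟨J.support.compl, Divis.BlowUpFormal.isIso_morphismRestrict_compl_support S.hb J.support.compl disjoint_compl_left,
      exists_not_mem_support S⟩
  exact rank_push W hne hF hP

theorem flf_of_rank {Y : Scheme.{u}} {F : Y.Modules} {r : ℕ} (hF : FlatMod.IsFinLocFreeOfRank r F) : FlatMod.IsFinLocFree F := by
  intro x
  obtain ⟨U, hx, e⟩ := hF x
  exact ⟨U, r, hx, e⟩

end K805.Leray
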