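import Groth.Agent.SurfBl.K805.Ample1
import Groth.Agent.Ega1.AmpFam
import Groth.Agent.Ega2.H18.PnExist
import Groth.Agent.Ega2.H296.PnGen

/-!
# Ampleness of `b^* H^N ⊗ ∏ I_i^{a_i}` for blow-ups of finitely many points
-/

set_option autoImplicit false
universe u v
open CategoryTheory CategoryTheory.Limits AlgebraicGeometry Opposite TopologicalSpace BlowUp

namespace K805.Ample

open Groth.Agent Groth.Agent.Fdesc.LocGen Groth.Agent.Dix.IdealModCartier

section Points

variable {X : Scheme.{u}}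

theorem vanishing_prod {s : ℕ} (P : Fin s → X) (hP : Function.Injective P) (hPc : ∀ i, IsClosed ({P i} : Set X))
    (hZ : IsClosed (Set.range P)) : Scheme.IdealSheafData.vanishingIdeal ⟨Set.range P, hZ⟩ =
      ∏ i, Scheme.IdealSheafData.vanishingIdeal ⟨{P i}, hPc i⟩ := by
  refine Scheme.IdealSheafData.ext (funext fun U => ?_)
  rw [R1Glob.ideal_prod, Ideal.prod_eq_iInf_of_pairwise_isCoprime]
  · ext f
    rw [CurvesC.DualIdeals.mem_vanishingIdeal_iff]
    simp only [Submodule.mem_iInf, CurvesC.DualIdeals.mem_vanishingIdeal_iff, Finset.mem_univ, forall_true_left,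
      Set.mem_singleton_iff, forall_eq, Set.forall_mem_range]
  · intro i _ j _ hij
    change IsCoprime ((Scheme.IdealSheafData.vanishingIdeal ⟨{P i}, hPc i⟩).ideal U)
      ((Scheme.IdealSheafData.vanishingIdeal ⟨{P j}, hPc j⟩).ideal U)
    by_cases hi : P i ∈ U.1
    · by_cases hj : P j ∈ U.1
      · have h1 : (Scheme.IdealSheafData.vanishingIdeal ⟨{P i}, hPc i⟩).ideal U = _ :=
          Pts.ideal_vanishing ⟨{P i}, hPc i⟩ (P i) U.2 hi rfl fun t _ ht => ht
        have h2 : (Scheme.IdealSheafData.vanishingIdeal ⟨{P j}, hPc j⟩).ideal U = _ :=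
          Pts.ideal_vanishing ⟨{P j}, hPc j⟩ (P j) U.2 hj rfl fun t _ ht => ht
        rw [h1, h2]
        have := Reg.isMaximal_of_closed (hPc i) U.2 hi
        have := Reg.isMaximal_of_closed (hPc j) U.2 hj
        refine Ideal.isCoprime_of_isMaximal fun h => hij (hP ?_)
        have h3 : U.2.primeIdealOf ⟨P i, hi⟩ = U.2.primeIdealOf ⟨P j, hj⟩ := PrimeSpectrum.ext h
        exact (U.2.fromSpec_primeIdealOf ⟨P i, hi⟩).symm.trans
          ((congrArg U.2.fromSpec h3).trans (U.2.fromSpec_primeIdealOf ⟨P j, hj⟩))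
      · rw [R1Glob.ideal_vanishing_top ⟨{P j}, hPc j⟩ U fun t ht ht' => hj (by
          have h1 : t = P j := ht'
          rwa [← h1])]
        rw [← Ideal.one_eq_top]
        exact isCoprime_one_right
    · rw [R1Glob.ideal_vanishing_top ⟨{P i}, hPc i⟩ U fun t ht ht' => hi (by
          have h1 : t = P i := ht'
          rwa [← h1])]
      rw [← Ideal.one_eq_top]
      exact isCoprime_one_left

end Points

/-- Sections of `H` defining a closed immersion to projective space. -/
structure Crd (k : Type u) [Field k] (X : Scheme.{u}) [X.Over (Spec (CommRingCat.of k))] (H : X.Modules) (κ : Type) where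
  c : κ → (Coh.structureModule X ⟶ H)
  U : κ → X.affineOpens
  genLocus_eq : ∀ j, CohB1.genLocus H (c j) = (U j).1
  cov : ∀ x : X, ∃ j, x ∈ (U j).1
  r : ∀ j, κ → Γ(X, (U j).1)
  sec_eq : ∀ j m, sec (c m) (U j).1 = r j m • sec (c j) (U j).1
  surj : ∀ j, Function.Surjective (MvPolynomial.eval₂Hom
    ((ores (le_top : (U j).1 ≤ ⊤)).comp (CurvesB.HZero.gl k X)) (r j))

/-- A prime ideal of a polynomial ring over a field that contains all `X_l - a_l` is generated by them. -/
theorem eq_span_of_mem {σ k : Type*} [Field k] (a : σ → k) (P : Ideal (MvPolynomial σ k)) (hP : P ≠ ⊤)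
    (h : ∀ l, MvPolynomial.X l - MvPolynomial.C (a l) ∈ P) :
    P ≤ Ideal.span (Set.range fun l => MvPolynomial.X l - MvPolynomial.C (a l)) := by
  have key : ∀ p : MvPolynomial σ k, p - MvPolynomial.C (MvPolynomial.eval a p) ∈
      Ideal.span (Set.range fun l => MvPolynomial.X l - MvPolynomial.C (a l)) := by
    intro p
    have h : (Ideal.Quotient.mk (Ideal.span (Set.range fun l => MvPolynomial.X l - MvPolynomial.C (a l)))) =
        (Ideal.Quotient.mk (Ideal.span (Set.range fun l => MvPolynomial.X l - MvPolynomial.C (a l)))).comp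
          (MvPolynomial.C.comp (MvPolynomial.eval a)) := by
      apply MvPolynomial.ringHom_ext
      · intro c
        simp
      · intro l
        rw [RingHom.comp_apply, RingHom.comp_apply, MvPolynomial.eval_X, Ideal.Quotient.eq]
        exact Ideal.subset_span ⟨l, rfl⟩
    rw [← Ideal.Quotient.eq]
    exact congr($h p)
  intro p hp
  have h1 := key p
  have h2 : MvPolynomial.C (MvPolynomial.eval a p) ∈ P := by
    have h3 : p - (p - MvPolynomial.C (MvPolynomial.eval a p)) ∈ P :=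
      P.sub_mem hp (Ideal.span_le.mpr (by rintro _ ⟨l, rfl⟩; exact h l) h1)
    simpa using h3
  have h4 : MvPolynomial.eval a p = 0 := by
    by_contra hne
    apply hP
    rw [Ideal.eq_top_iff_one]
    have := P.mul_mem_left (MvPolynomial.C (MvPolynomial.eval a p)⁻¹) h2
    rwa [← MvPolynomial.C_mul, inv_mul_cancel₀ hne, MvPolynomial.C_1] at this
  rw [h4] at h1
  simpa using h1

section Span

variable {k : Type u} [Field k] [IsAlgClosed k] {X : Scheme.{u}} [X.Over (Spec (CommRingCat.of k))]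
  [LocallyOfFiniteType (X ↘ Spec (CommRingCat.of k))] {H : X.Modules} {κ : Type} (C : Crd k X H κ)

omit [IsAlgClosed k] [LocallyOfFiniteType (X ↘ Spec (CommRingCat.of k))] in
theorem Crd.isGen (C : Crd k X H κ) (j : κ) : IsGen (sec (C.c j) (C.U j).1) :=
  (le_genLocus_iff _ _).1 (C.genLocus_eq j).ge

/-- The ideal of a closed point is generated by the sections of `H` vanishing at the point. -/
theorem ideal_eq_span {P : X} (hP : IsClosed ({P} : Set X)) (j : κ) :
    (Scheme.IdealSheafData.vanishingIdeal ⟨{P}, hP⟩).ideal (C.U j) =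
      Ideal.span {f | ∃ l : Coh.structureModule X ⟶ H, P ∉ CohB1.genLocus H l ∧
        sec l (C.U j).1 = f • sec (C.c j) (C.U j).1} := by
  apply le_antisymm
  · by_cases hPU : P ∈ (C.U j).1
    · have h1 : (Scheme.IdealSheafData.vanishingIdeal ⟨{P}, hP⟩).ideal (C.U j) = _ :=
        Pts.ideal_vanishing ⟨{P}, hP⟩ P (C.U j).2 hPU rfl fun t _ ht => ht
      have hmax : ((Scheme.IdealSheafData.vanishingIdeal ⟨{P}, hP⟩).ideal (C.U j)).IsMaximal := by
        rw [h1]
        exact Reg.isMaximal_of_closed hP (C.U j).2 hPU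
      have hα := R1Glob.bijective_alpha (k := k) (C.U j).2
        ((Scheme.IdealSheafData.vanishingIdeal ⟨{P}, hP⟩).ideal (C.U j))
      choose α hα' using fun m => hα.2 (Ideal.Quotient.mk _ (C.r j m))
      have hmem : ∀ m, C.r j m - ores (le_top : (C.U j).1 ≤ ⊤) (CurvesB.HZero.gl k X (α m)) ∈
          (Scheme.IdealSheafData.vanishingIdeal ⟨{P}, hP⟩).ideal (C.U j) := fun m =>
        (Ideal.Quotient.eq).1 (hα' m).symm
      rw [← Ideal.map_comap_of_surjective _ (C.surj j)
        ((Scheme.IdealSheafData.vanishingIdeal ⟨{P}, hP⟩).ideal (C.U j)), Ideal.map_le_iff_le_comap]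
      have h2 : Ideal.comap (MvPolynomial.eval₂Hom ((ores (le_top : (C.U j).1 ≤ ⊤)).comp (CurvesB.HZero.gl k X)) (C.r j))
          ((Scheme.IdealSheafData.vanishingIdeal ⟨{P}, hP⟩).ideal (C.U j)) ≠ ⊤ := Ideal.comap_ne_top _ hmax.ne_top
      refine (eq_span_of_mem α _ h2 fun m => ?_).trans ?_
      · rw [Ideal.mem_comap, map_sub, MvPolynomial.eval₂Hom_X', MvPolynomial.eval₂Hom_C]
        exact hmem m
      · rw [Ideal.span_le]
        rintro _ ⟨m, rfl⟩
        rw [SetLike.mem_coe, Ideal.mem_comap, map_sub, MvPolynomial.eval₂Hom_X', MvPolynomial.eval₂Hom_C]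
        refine Ideal.subset_span ?_
        have h3 : sec (homOf (sec (C.c m) ⊤ - CurvesB.HZero.gl k X (α m) • sec (C.c j) ⊤)) (C.U j).1 =
            (C.r j m - (ores (le_top : (C.U j).1 ≤ ⊤)).comp (CurvesB.HZero.gl k X) (α m)) • sec (C.c j) (C.U j).1 := by
          rw [sec_homOf, map_sub, res_smul, res_sec, res_sec, C.sec_eq, sub_smul]
          rfl
        refine ⟨homOf (sec (C.c m) ⊤ - CurvesB.HZero.gl k X (α m) • sec (C.c j) ⊤), fun h4 => ?_, h3⟩
        have h5 := (CurvesC.DualIdeals.mem_vanishingIdeal_iff hP (C.U j) _).1 (hmem m) P rfl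
        apply h5
        have h6 := genLocus_inf_eq _ (C.isGen j) h3
        have h7 : P ∈ CohB1.genLocus H (homOf (sec (C.c m) ⊤ - CurvesB.HZero.gl k X (α m) • sec (C.c j) ⊤)) ⊓ (C.U j).1 :=
          ⟨h4, hPU⟩
        rw [h6] at h7
        exact h7
    · have h1 : (1 : Γ(X, (C.U j).1)) ∈ Ideal.span {f | ∃ l : Coh.structureModule X ⟶ H, P ∉ CohB1.genLocus H l ∧
          sec l (C.U j).1 = f • sec (C.c j) (C.U j).1} :=
        Ideal.subset_span ⟨C.c j, by rw [C.genLocus_eq]; exact hPU, by rw [one_smul]⟩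
      rw [(Ideal.eq_top_iff_one _).2 h1]
      exact le_top
  · rw [Ideal.span_le]
    rintro f ⟨l, h1, h2⟩
    refine (CurvesC.DualIdeals.mem_vanishingIdeal_iff hP (C.U j) _).2 fun x hx hx' => h1 ?_
    have h3 : x = P := hx
    rw [← h3]
    have h6 := genLocus_inf_eq _ (C.isGen j) h2
    rw [← h6] at hx'
    exact hx'.1

end Span

section Main

open scoped Pointwise

variable {k : Type u} [Field k] [IsAlgClosed k] {X X' : Scheme.{u}} [X.Over (Spec (CommRingCat.of k))]
  [LocallyOfFiniteType (X ↘ Spec (CommRingCat.of k))] {H : X.Modules} {κ : Type}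

/-- Ampleness on the blow-up of finitely many points. -/
theorem ample (C : Crd k X H κ) (hH : PicF.IsInvertible H) {s : ℕ} (P : Fin s → X) (hP : Function.Injective P)
    (hPc : ∀ i, IsClosed ({P i} : Set X)) (hZ : IsClosed (Set.range P)) (b : X' ⟶ X)
    (hb : IsBlowUp b (Scheme.IdealSheafData.vanishingIdeal ⟨Set.range P, hZ⟩)) [CompactSpace X'] (a : Fin s → ℕ)
    (ha : ∀ i, 0 < a i) (r : ℕ) (hr : 0 < r) :
    CohB1.IsAmple (CohB1.tensorMod ((Scheme.Modules.pullback b).obj (CohB1.tensorPow H (∑ i, a i + r)))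
      (ClSub.idealMod (∏ i, ((Scheme.IdealSheafData.vanishingIdeal ⟨{P i}, hPc i⟩).comap b) ^ a i))) := by
  have hprod := vanishing_prod P hP hPc hZ
  rw [hprod] at hb
  have hJ : ∀ i, IsEffCartierIdeal ((Scheme.IdealSheafData.vanishingIdeal ⟨{P i}, hPc i⟩).comap b) := by
    intro i
    have h1 : IsEffCartierIdeal (∏ i, (Scheme.IdealSheafData.vanishingIdeal ⟨{P i}, hPc i⟩).comap b) := by
      rw [← comap_prod]
      exact hb.1
    rw [← Finset.mul_prod_erase _ _ (Finset.mem_univ i)] at h1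
    exact Divis.BlowUpFormal.isEff_of_mul h1
  have hinv : PicF.IsInvertible (CohB1.tensorMod ((Scheme.Modules.pullback b).obj (CohB1.tensorPow H (∑ i, a i + r)))
      (ClSub.idealMod (∏ i, ((Scheme.IdealSheafData.vanishingIdeal ⟨{P i}, hPc i⟩).comap b) ^ a i))) :=
    isInvertible_tensorMod (isInvertible_pullback b (isInvertible_tensorPow hH _))
      (isInvertible_idealMod (isEff_prod_pow _ a hJ))
  refine ⟨hinv, inferInstance, fun x => ?_⟩
  obtain ⟨j, hj⟩ := C.cov (b x)
  have hspan : (∏ i, Scheme.IdealSheafData.vanishingIdeal ⟨{P i}, hPc i⟩ : X.IdealSheafData).ideal (C.U j) =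
      Ideal.span (∏ i : Fin s, {f | ∃ l : Coh.structureModule X ⟶ H, P i ∉ CohB1.genLocus H l ∧
        sec l (C.U j).1 = f • sec (C.c j) (C.U j).1}) := by
    rw [R1Glob.ideal_prod, ← Ideal.prod_span]
    exact Finset.prod_congr rfl fun i _ => ideal_eq_span C (hPc i) j
  obtain ⟨f', hf', hx⟩ := Divis.BlowChart2.exists_mem_chart_of_span b _ (C.U j) hb.1 hspan x hj
  obtain ⟨f, hf, rfl⟩ := (Set.mem_fintype_prod _ _).1 hf'
  choose l hl hlf using hf
  obtain ⟨t, ht⟩ := genLocus_eq_chart b hH (fun i => Scheme.IdealSheafData.vanishingIdeal ⟨{P i}, hPc i⟩) hJ l (C.c j) a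
    ha r hr (fun i V e g he hg => by
      refine (CurvesC.DualIdeals.mem_vanishingIdeal_iff (hPc i) V _).2 fun y hy hy' => hl i ?_
      have h3 : y = P i := hy
      rw [← h3]
      rw [← genLocus_inf_eq _ he hg] at hy'
      exact hy'.1) (C.U j) (C.genLocus_eq j) f hlf
  refine ⟨0, powHom t 1, ?_, ?_⟩
  · rw [genLocus_powHom hinv, ht]
    exact hx
  · rw [genLocus_powHom hinv, ht]
    refine Divis.BlowChart2.isAffineOpen_chart b _ (C.U j) hb ?_
    rw [hspan]
    exact Ideal.subset_span hf'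

end Main

section Embedding

attribute [local instance] MvPolynomial.gradedAlgebra

variable {k : Type u} [Field k] {X : Scheme.{u}} [X.Over (Spec (CommRingCat.of k))] {n : ℕ}

theorem base_comp {X Y : Scheme.{u}} (f : X ⟶ Y) (q : Y ⟶ Spec (CommRingCat.of k)) (p : X ⟶ Spec (CommRingCat.of k))
    (h : f ≫ q = p) (V : Y.Opens) (c : k) : ores (le_top : f ⁻¹ᵁ V ≤ ⊤) (Coh.toGlobal p c) =
      f.app V (ores (le_top : V ≤ ⊤) (Coh.toGlobal q c)) := by
  subst h
  have h1 : Coh.toGlobal (f ≫ q) c = f.appTop (Coh.toGlobal q c) := by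
    rw [Coh.toGlobal, Coh.toGlobal, Scheme.Hom.comp_appTop]
    rfl
  rw [h1]
  exact congr($(congrArg CommRingCat.Hom.hom (f.naturality (homOfLE (le_top : V ≤ ⊤)).op)) (Coh.toGlobal q c)).symm

/-- The coordinates of a closed subscheme of projective space. -/
theorem nonempty_crd (ι : X ⟶ CohB1.ProjSpace n k) [IsClosedImmersion ι]
    (hι : ι ≫ CohB1.ProjSpace.toSpec n k = X ↘ Spec (CommRingCat.of k)) :
    Nonempty (Crd k X ((Scheme.Modules.pullback ι).obj (Twist.twistProjSpace n k 1)) (Fin (n + 1))) := by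
  let V : Fin (n + 1) → (CohB1.ProjSpace n k).Opens := fun j =>
    Proj.basicOpen (MvPolynomial.homogeneousSubmodule (Fin (n + 1)) k) (MvPolynomial.X j)
  have hVaff : ∀ j, IsAffineOpen (V j) := fun j => VarietyB.ProjStd.isAffineOpen_U (Fin (n + 1)) k j
  let g : ∀ j, Γ(Twist.twistProjSpace n k 1, V j) := fun j => Ega2.VeryAmpleCrit.gen k j
  have hg : ∀ j, IsGen (g j) := fun j => Ega2.VeryAmpleCrit.isGen_gen j
  let ρ : ∀ j, Fin (n + 1) → Γ(CohB1.ProjSpace n k, V j) := fun j m => VarietyB.ProjStd.ratio (Fin (n + 1)) k j m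
  have hρ : ∀ j, ρ j j = 1 := fun j => (VarietyB.ProjStd.stdData (Fin (n + 1)) k).f_self j
  let t : Fin (n + 1) → (Coh.structureModule (CohB1.ProjSpace n k) ⟶ Twist.twistProjSpace n k 1) := fun j =>
    homOf (M := Twist.twistProjSpace n k 1) (ProjUP.coord n k j)
  have ht : ∀ j m, sec (t m) (V j) = ρ j m • g j := fun j m =>
    (sec_homOf _ _).trans (Ega2.H18.PnExist.res_coord n m j)
  have hbo : ∀ j m, (CohB1.ProjSpace n k).basicOpen (ρ j m) = V j ⊓ V m := fun j m =>
    VarietyB.ProjStd.stdData_basicOpen (Fin (n + 1)) k j m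
  have hcov : ⨆ j, V j = ⊤ := (VarietyB.ProjStd.stdData (Fin (n + 1)) k).iSup_U
  have hloc : ∀ j, CohB1.genLocus _ (t j) = V j := by
    intro j
    apply le_antisymm
    · intro x hx
      have h1 : x ∈ ⨆ i, V i := by rw [hcov]; trivial
      obtain ⟨i, hi⟩ := Opens.mem_iSup.1 h1
      have h2 : x ∈ CohB1.genLocus _ (t j) ⊓ V i := ⟨hx, hi⟩
      rw [genLocus_inf_eq _ (hg i) (ht i j), hbo] at h2
      exact h2.2
    · rw [le_genLocus_iff, ht, hρ, one_smul]
      exact hg j
  have hinv : PicF.IsInvertible (Twist.twistProjSpace n k 1) := Ega2.VeryAmpleAmple.isInvertible_twistProjSpace n k 1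
  refine ⟨⟨fun j => pullHom ι (t j), fun j => ⟨ι ⁻¹ᵁ V j, (hVaff j).preimage ι⟩, fun j => ?_, fun x => ?_,
    fun j m => ι.app (V j) (ρ j m), fun j m => ?_, fun j => ?_⟩⟩
  · rw [Ega1.AmpFam.genLocus_pullHom ι hinv, hloc]
  · have h1 : ι x ∈ ⨆ i, V i := by rw [hcov]; trivial
    obtain ⟨i, hi⟩ := Opens.mem_iSup.1 h1
    exact ⟨i, hi⟩
  · change sec (pullHom ι (t m)) (ι ⁻¹ᵁ V j) = _ • sec (pullHom ι (t j)) (ι ⁻¹ᵁ V j)
    rw [sec_pullHom, sec_pullHom, ht, ht j j, hρ, one_smul, pullSec_smul]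
  · obtain ⟨φ, hφ, hφC, hφX⟩ : ∃ φ : MvPolynomial (Fin (n + 1)) k →+* Γ(CohB1.ProjSpace n k, V j),
        Function.Surjective φ ∧ (∀ c, φ (MvPolynomial.C c) =
          ores (le_top : V j ≤ ⊤) (Coh.toGlobal (CohB1.ProjSpace.toSpec n k) c)) ∧
          ∀ m, φ (MvPolynomial.X m) = ρ j m :=
      ⟨(VarietyB.ProjStd.stdData (Fin (n + 1)) k).hom (VarietyB.ProjStd.toSpec (Fin (n + 1)) k) j,
        VarietyB.ProjStd.hom_std_surjective (Fin (n + 1)) k j, fun c => MvPolynomial.eval₂Hom_C _ _ _,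
        fun m => VarietyB.ProjGlue.CoordData.hom_X _ _ _ _⟩
    have h1 : MvPolynomial.eval₂Hom ((ores (le_top : ι ⁻¹ᵁ V j ≤ ⊤)).comp (CurvesB.HZero.gl k X))
        (fun m => ι.app (V j) (ρ j m)) = (ι.app (V j)).hom.comp φ := by
      apply MvPolynomial.ringHom_ext
      · intro c
        rw [MvPolynomial.eval₂Hom_C, RingHom.comp_apply, RingHom.comp_apply, hφC]
        exact base_comp ι _ _ hι (V j) c
      · intro m
        rw [MvPolynomial.eval₂Hom_X', RingHom.comp_apply, hφX]
    change Function.Surjective (MvPolynomial.eval₂Hom ((ores (le_top : ι ⁻¹ᵁ V j ≤ ⊤)).comp (CurvesB.HZero.gl k X))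
        (fun m => ι.app (V j) (ρ j m)))
    rw [h1]
    exact (Scheme.Hom.app_surjective ι (V j) (hVaff j)).comp hφ

end Embedding

end K805.Ample
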