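import Groth.Agent.SurfBl.K805.Mult1
import Groth.Agent.SurfBl.K805.Ample2
import Groth.Agent.Models.H57.PointDeg
import Groth.Agent.VarietyA.RegPoint

/-!
# The degree of a very ample module on a curve is at least the multiplicity at a point
-/

set_option autoImplicit false
universe u v
open CategoryTheory CategoryTheory.Limits AlgebraicGeometry Opposite TopologicalSpace BlowUp

namespace K805.Mult

open Groth.Agent Groth.Agent.Fdesc.LocGen K805.Ample

section Sub

variable {C : Scheme.{u}}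

/-- A closed subscheme supported at one point lies in every open containing the point. -/
theorem preimage_eq_top (D : C.IdealSheafData) {Q : C} (hQ : IsClosed ({Q} : Set C)) (m : ℕ) {W : C.Opens} (hW : Q ∈ W) :
    (D ⊔ Scheme.IdealSheafData.vanishingIdeal ⟨{Q}, hQ⟩ ^ m).subschemeι ⁻¹ᵁ W = ⊤ := by
  rw [eq_top_iff]
  intro z _
  have h1 : (D ⊔ Scheme.IdealSheafData.vanishingIdeal ⟨{Q}, hQ⟩ ^ m).subschemeι z ∈
      (D ⊔ Scheme.IdealSheafData.vanishingIdeal ⟨{Q}, hQ⟩ ^ m).support := by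
    have h2 : (D ⊔ Scheme.IdealSheafData.vanishingIdeal ⟨{Q}, hQ⟩ ^ m).subschemeι z ∈
      Set.range (D ⊔ Scheme.IdealSheafData.vanishingIdeal ⟨{Q}, hQ⟩ ^ m).subschemeι := ⟨z, rfl⟩
    rwa [Scheme.IdealSheafData.range_subschemeι] at h2
  by_contra hz
  have hne : (D ⊔ Scheme.IdealSheafData.vanishingIdeal ⟨{Q}, hQ⟩ ^ m).subschemeι z ≠ Q := by
    intro h
    exact hz (show _ ∈ W by rw [h]; exact hW)
  obtain ⟨V, hV, hzV, hVQ⟩ := exists_isAffineOpen_mem_and_subset (U := (⟨{Q}ᶜ, hQ.isOpen_compl⟩ : C.Opens)) hne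
  rw [Scheme.IdealSheafData.mem_support_iff_of_mem (U := ⟨V, hV⟩) hzV, Scheme.mem_zeroLocus_iff] at h1
  have h3 : (1 : Γ(C, V)) ∈ (D ⊔ Scheme.IdealSheafData.vanishingIdeal ⟨{Q}, hQ⟩ ^ m).ideal ⟨V, hV⟩ := by
    rw [Scheme.IdealSheafData.ideal_sup, Pi.sup_apply, Scheme.IdealSheafData.ideal_pow, Pi.pow_apply,
      R1Glob.ideal_vanishing_top ⟨{Q}, hQ⟩ ⟨V, hV⟩ fun t ht ht' => hVQ ht ht', ← Ideal.one_eq_top, one_pow,
      Ideal.one_eq_top, sup_top_eq]
    trivial
  exact h1 1 h3 (by rw [Scheme.basicOpen_of_isUnit _ isUnit_one]; exact hzV)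

/-- The length of a finite subscheme of a curve at a point, from below. -/
theorem le_finrank_quotMod (k : Type u) [Field k] [C.Over (Spec (CommRingCat.of k))] (D : C.IdealSheafData)
    (hfin : IsFinite (D.subschemeι ≫ (C ↘ (Spec (CommRingCat.of k))))) {Q : C} (hQ : IsClosed ({Q} : Set C))
    (W : C.affineOpens) (hQW : Q ∈ W.1) {A R : Type u} [CommRing A] [CommRing R] [IsLocalRing R] [IsNoetherianRing R]
    (hdim : 2 ≤ ringKrullDim R) [Algebra A R] (M : Ideal A) [M.IsPrime] [IsLocalization.AtPrime R M]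
    (φ : A →+* Γ(C, W.1)) (hφ : Function.Surjective φ) (m : ℕ) (hker : RingHom.ker φ ≤ M ^ m)
    (hM : (Scheme.IdealSheafData.vanishingIdeal ⟨{Q}, hQ⟩).ideal W = M.map φ) {f : A} (hf : f ∈ M)
    (hD : D.ideal W = Ideal.span {φ f}) : m ≤ Module.finrank k (Coh.HH C (ClSub.quotMod D) 0) := by
  rw [Dix.InterNum.finrank_quotMod]
  set K := D ⊔ Scheme.IdealSheafData.vanishingIdeal ⟨{Q}, hQ⟩ ^ m with hK
  have hDK : D ≤ K := le_sup_left
  let i := Scheme.IdealSheafData.inclusion hDK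
  have hi : i ≫ D.subschemeι = K.subschemeι := Scheme.IdealSheafData.inclusion_subschemeι hDK
  have hic : IsClosedImmersion i := by
    have : IsClosedImmersion (i ≫ D.subschemeι) := hi ▸ inferInstance
    exact IsClosedImmersion.of_comp i D.subschemeι
  have haff : IsAffine D.subscheme := isAffine_of_isAffineHom (D.subschemeι ≫ (C ↘ (Spec (CommRingCat.of k))))
  have his : Function.Surjective i.appTop := (IsClosedImmersion.isAffine_surjective_of_isAffine i).2
  let m1 : Module k Γ(D.subscheme, ⊤) :=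
    Module.compHom Γ(D.subscheme, ⊤) (Dix.InterNum.glo (D.subschemeι ≫ (C ↘ (Spec (CommRingCat.of k)))))
  change _ ≤ Module.finrank k Γ(D.subscheme, ⊤)
  have hfin' : Module.Finite k Γ(D.subscheme, ⊤) := by
    have h1 := Scheme.Hom.finite_appTop (D.subschemeι ≫ (C ↘ (Spec (CommRingCat.of k))))
    have h2 : (Scheme.ΓSpecIso (CommRingCat.of k)).inv.hom.Finite :=
      RingHom.Finite.of_surjective _ (ConcreteCategory.bijective_of_isIso (Scheme.ΓSpecIso (CommRingCat.of k)).inv).2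
    exact h1.comp h2
  let a1 : Algebra k Γ(K.subscheme, ⊤) :=
    (Dix.InterNum.glo (K.subschemeι ≫ (C ↘ (Spec (CommRingCat.of k))))).toAlgebra
  let c : Γ(D.subscheme, ⊤) →ₗ[k] Γ(K.subscheme, ⊤) :=
    { toFun := fun z => i.appTop z
      map_add' := fun a b => map_add _ _ _
      map_smul' := fun t z => by
        change i.appTop (Dix.InterNum.glo (D.subschemeι ≫ (C ↘ (Spec (CommRingCat.of k)))) t * z) =
          Dix.InterNum.glo (K.subschemeι ≫ (C ↘ (Spec (CommRingCat.of k)))) t * i.appTop z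
        rw [map_mul]
        congr 1
        rw [← hi, Category.assoc]
        exact (Dix.InterNum.glo_comp i (D.subschemeι ≫ (C ↘ (Spec (CommRingCat.of k)))) t).symm }
  have hcs : Function.Surjective c := his
  have hfinK : Module.Finite k Γ(K.subscheme, ⊤) := Module.Finite.of_surjective c hcs
  refine le_trans ?_ (LinearMap.finrank_le_finrank_of_surjective hcs)
  have hWtop : K.subschemeι ⁻¹ᵁ W.1 = ⊤ := preimage_eq_top D hQ m hQW
  have hρ : Function.Bijective (ores (hWtop.ge : (⊤ : K.subscheme.Opens) ≤ K.subschemeι ⁻¹ᵁ W.1)) := by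
    have h1 : Function.Bijective (K.subscheme.presheaf.map (eqToHom (congrArg op hWtop))) :=
      ConcreteCategory.bijective_of_isIso _
    exact h1
  let θ : A →+* Γ(K.subscheme, ⊤) :=
    ((ores (hWtop.ge : (⊤ : K.subscheme.Opens) ≤ K.subschemeι ⁻¹ᵁ W.1)).comp (K.subschemeι.app W.1).hom).comp φ
  refine le_finrank_of_surjective hdim M θ ((hρ.2.comp (K.subschemeι_app_surjective W)).comp hφ) hf m ?_
  intro x hx
  have h1 : (K.subschemeι.app W.1).hom (φ x) = 0 := by
    apply hρ.1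
    rw [map_zero]
    exact hx
  have h2 : φ x ∈ K.ideal W := by
    rw [← Scheme.IdealSheafData.ker_subschemeι_app]
    exact h1
  have h3 : K.ideal W = Ideal.map φ (Ideal.span {f} ⊔ M ^ m) := by
    rw [hK, Scheme.IdealSheafData.ideal_sup, Pi.sup_apply, Scheme.IdealSheafData.ideal_pow, Pi.pow_apply, hD, hM,
      Ideal.map_sup, Ideal.map_span, Set.image_singleton, Ideal.map_pow]
  have h4 : x ∈ Ideal.comap φ (Ideal.map φ (Ideal.span {f} ⊔ M ^ m)) := by
    rw [Ideal.mem_comap, ← h3]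
    exact h2
  rw [Ideal.comap_map_of_surjective φ hφ] at h4
  have h5 : Ideal.comap φ ⊥ = RingHom.ker φ := rfl
  rw [h5] at h4
  exact (sup_le le_rfl (hker.trans le_sup_right) : Ideal.span {f} ⊔ M ^ m ⊔ RingHom.ker φ ≤ _) h4

end Sub

section Main

variable {k : Type u} [Field k] {X C : Scheme.{u}} [X.Over (Spec (CommRingCat.of k))]
  [C.Over (Spec (CommRingCat.of k))]

/-- The degree as the length of the zero scheme of a nonzero section. -/
theorem exists_zeroScheme [IsIntegral C] (hdimC : topologicalKrullDim C = 1) [IsProper (C ↘ Spec (CommRingCat.of k))]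
    {L : C.Modules} (hL : PicF.IsInvertible L) {s : Γ(L, (⊤ : C.Opens))} (hs : s ≠ 0) :
    ∃ D : C.IdealSheafData, Picfga.ZeroDef.IsZeroIdeal L s D ∧
      IsFinite (D.subschemeι ≫ (C ↘ (Spec (CommRingCat.of k)))) ∧
      Curv2.deg k C L 1 = Module.finrank k (Coh.HH C (ClSub.quotMod D) 0) := by
  obtain ⟨I, hI⟩ := Picfga.ZeroDiv.exists_zeroIdeal hL s
  have hE := Models.H57.PointDeg.isEffCartierIdeal_of_isZeroIdeal hL hs hI
  have hinv : ClSub.IsInverseOf L (ClSub.idealMod I) := Fga.ZeroClass.nonempty_iso hL s hI hE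
  exact ⟨I, hI, (Groth.Agent.S1604.result k C hdimC.le I hE L hL hinv 1 (Coh.structureModule C)
    (Ega2.QCohLocal.isFinLocFreeOfRank_one_iff.2 Fdesc.LocGen.isInvertible_structureModule)).1,
    Dix.InterNum.deg_of_effCartier k C hdimC I hE L hinv⟩

theorem mult_le_deg [IsAlgClosed k] [IsIntegral C] (hdimC : topologicalKrullDim C = 1) (j : C ⟶ X)
    [IsClosedImmersion j] [IsProper (C ↘ Spec (CommRingCat.of k))] [LocallyOfFiniteType (X ↘ Spec (CommRingCat.of k))]
    {H : X.Modules} (hH : PicF.IsInvertible H) {κ : Type} (Cr : Crd k X H κ) {P : X} (hP : IsClosed ({P} : Set X))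
    (hdim : 2 ≤ ringKrullDim (X.presheaf.stalk P)) (m : ℕ)
    (hm : j.ker ≤ Scheme.IdealSheafData.vanishingIdeal ⟨{P}, hP⟩ ^ m) :
    (m : ℤ) ≤ Curv2.deg k C ((Scheme.Modules.pullback j).obj H) 1 := by
  have hL : PicF.IsInvertible ((Scheme.Modules.pullback j).obj H) := isInvertible_pullback j hH
  rcases Nat.eq_zero_or_pos m with rfl | hm0
  · obtain ⟨x⟩ : Nonempty C := inferInstance
    obtain ⟨i, hi⟩ := Cr.cov (j x)
    have hs : sec (pullHom j (Cr.c i)) ⊤ ≠ 0 := by
      intro h0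
      have h1 : IsGen (sec (pullHom j (Cr.c i)) (j ⁻¹ᵁ (Cr.U i).1)) := by
        rw [sec_pullHom]
        exact (Cr.isGen i).pullSec j
      rw [← res_sec _ (le_top : j ⁻¹ᵁ (Cr.U i).1 ≤ ⊤), h0, map_zero] at h1
      have : Nonempty (j ⁻¹ᵁ (Cr.U i).1) := ⟨⟨x, hi⟩⟩
      have h2 : (1 : Γ(C, j ⁻¹ᵁ (Cr.U i).1)) = 0 := h1.ext (by rw [smul_zero, smul_zero])
      exact one_ne_zero h2
    obtain ⟨D, -, -, h3⟩ := exists_zeroScheme (k := k) hdimC hL hs
    rw [h3]
    exact_mod_cast Nat.zero_le _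
  · have hmP : j.ker ≤ Scheme.IdealSheafData.vanishingIdeal ⟨{P}, hP⟩ := by
      refine hm.trans ?_
      obtain ⟨m, rfl⟩ := Nat.exists_eq_succ_of_ne_zero hm0.ne'
      rw [pow_succ]
      exact mul_le_of_le_one_left' le_top
    obtain ⟨Q, rfl⟩ : ∃ Q, j Q = P := by
      have h1 : (P : X) ∈ (Scheme.IdealSheafData.vanishingIdeal ⟨{P}, hP⟩).support := by
        have h2 : P ∈ (((Scheme.IdealSheafData.vanishingIdeal ⟨{P}, hP⟩).support : TopologicalSpace.Closeds X) : Set X) := by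
          rw [Scheme.IdealSheafData.coe_support_vanishingIdeal]
          exact rfl
        exact h2
      have h3 := Scheme.IdealSheafData.support_antitone hmP h1
      have h4 : P ∈ ((j.ker.support : TopologicalSpace.Closeds X) : Set X) := h3
      rw [Scheme.Hom.support_ker, j.isClosedEmbedding.isClosed_range.closure_eq] at h4
      exact h4
    have hQ : IsClosed ({Q} : Set C) := by
      have h1 : j ⁻¹' {j Q} = {Q} := by
        ext x
        exact ⟨fun h => j.isClosedEmbedding.injective h, fun h => congrArg j h⟩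
      rw [← h1]
      exact hP.preimage j.continuous
    obtain ⟨i, hi⟩ := Cr.cov (j Q)
    have hQW : Q ∈ j ⁻¹ᵁ (Cr.U i).1 := hi
    let W : C.affineOpens := ⟨j ⁻¹ᵁ (Cr.U i).1, (Cr.U i).2.preimage j⟩
    have hφ : Function.Surjective (j.app (Cr.U i).1).hom := Scheme.Hom.app_surjective j (Cr.U i).1 (Cr.U i).2
    have hMP : (Scheme.IdealSheafData.vanishingIdeal ⟨{j Q}, hP⟩).ideal (Cr.U i) =
        ((Cr.U i).2.primeIdealOf ⟨j Q, hi⟩).asIdeal :=
      Pts.ideal_vanishing ⟨{j Q}, hP⟩ (j Q) (Cr.U i).2 hi rfl fun t _ ht => ht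
    have hbo : ∀ a : Γ(X, (Cr.U i).1), C.basicOpen ((j.app (Cr.U i).1).hom a) = j ⁻¹ᵁ X.basicOpen a := fun a =>
      (Scheme.preimage_basicOpen j a).symm
    have hM : (Scheme.IdealSheafData.vanishingIdeal ⟨{Q}, hQ⟩).ideal W =
        Ideal.map (j.app (Cr.U i).1).hom ((Cr.U i).2.primeIdealOf ⟨j Q, hi⟩).asIdeal := by
      rw [← hMP]
      apply le_antisymm
      · intro b hb
        obtain ⟨a, rfl⟩ := hφ b
        refine Ideal.mem_map_of_mem _ ((CurvesC.DualIdeals.mem_vanishingIdeal_iff hP _ _).2 fun x hx hx' => ?_)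
        have h1 : x = j Q := hx
        subst h1
        have h2 := (CurvesC.DualIdeals.mem_vanishingIdeal_iff hQ W _).1 hb Q rfl
        apply h2
        rw [hbo]
        exact hx'
      · rw [Ideal.map_le_iff_le_comap]
        intro a ha
        refine (CurvesC.DualIdeals.mem_vanishingIdeal_iff hQ W _).2 fun x hx hx' => ?_
        have h1 : x = Q := hx
        subst h1
        rw [hbo] at hx'
        exact (CurvesC.DualIdeals.mem_vanishingIdeal_iff hP _ _).1 ha _ rfl hx'
    obtain ⟨f, hf, l, hl1, hl2⟩ : ∃ f : Γ(X, (Cr.U i).1), (j.app (Cr.U i).1).hom f ≠ 0 ∧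
        ∃ l : Coh.structureModule X ⟶ H, j Q ∉ CohB1.genLocus H l ∧
        sec l (Cr.U i).1 = f • sec (Cr.c i) (Cr.U i).1 := by
      by_contra hcon
      push Not at hcon
      have h1 : ((Cr.U i).2.primeIdealOf ⟨j Q, hi⟩).asIdeal ≤ RingHom.ker (j.app (Cr.U i).1).hom := by
        rw [← hMP, ideal_eq_span Cr hP i, Ideal.span_le]
        rintro f ⟨l, h2, h3⟩
        by_contra h4
        exact hcon f h4 l h2 h3
      have h2 : (Scheme.IdealSheafData.vanishingIdeal ⟨{Q}, hQ⟩).ideal W = ⊥ := by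
        rw [hM]
        exact (Ideal.map_eq_bot_iff_le_ker _).2 h1
      have hne := VarietyA.RegPoint.ne_genericPoint_of_isClosed hdimC hQ
      have hη : genericPoint C ∈ W.1 :=
        ((genericPoint_spec C).mem_open_set_iff W.1.isOpen).2 ⟨Q, trivial, hQW⟩
      obtain ⟨b, hb, hηb⟩ := W.2.exists_basicOpen_le (V := (⟨{Q}ᶜ, hQ.isOpen_compl⟩ : C.Opens))
        ⟨genericPoint C, fun h => hne h.symm⟩ hη
      have h3 : b ∈ (Scheme.IdealSheafData.vanishingIdeal ⟨{Q}, hQ⟩).ideal W :=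
        (CurvesC.DualIdeals.mem_vanishingIdeal_iff hQ W _).2 fun x hx hx' => hb hx' hx
      rw [h2] at h3
      have h4 : b = 0 := h3
      rw [h4, Scheme.basicOpen_zero] at hηb
      exact hηb
    have he : IsGen (pullSec j (sec (Cr.c i) (Cr.U i).1)) := (Cr.isGen i).pullSec j
    have hres : res _ (le_top : W.1 ≤ ⊤) (sec (pullHom j l) ⊤) =
        (j.app (Cr.U i).1).hom f • pullSec j (sec (Cr.c i) (Cr.U i).1) := by
      rw [res_sec]
      change sec (pullHom j l) (j ⁻¹ᵁ (Cr.U i).1) = _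
      rw [sec_pullHom, hl2, pullSec_smul]
    have hs : sec (pullHom j l) ⊤ ≠ 0 := by
      intro h0
      rw [h0, map_zero] at hres
      exact hf (he.ext (by rw [← hres, zero_smul]))
    obtain ⟨D, hD1, hD2, hD3⟩ := exists_zeroScheme (k := k) hdimC hL hs
    rw [hD3]
    have hfM : f ∈ ((Cr.U i).2.primeIdealOf ⟨j Q, hi⟩).asIdeal := by
      rw [← hMP, ideal_eq_span Cr hP i]
      exact Ideal.subset_span ⟨l, hl1, hl2⟩
    have := LocallyOfFiniteType.isLocallyNoetherian (X ↘ (Spec (CommRingCat.of k)))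
    let _ := TopCat.Presheaf.algebra_section_stalk X.presheaf (⟨j Q, hi⟩ : (Cr.U i).1)
    have hloc : IsLocalization.AtPrime (X.presheaf.stalk (j Q)) ((Cr.U i).2.primeIdealOf ⟨j Q, hi⟩).asIdeal :=
      (Cr.U i).2.isLocalization_stalk ⟨j Q, hi⟩
    have hker : RingHom.ker (j.app (Cr.U i).1).hom ≤ ((Cr.U i).2.primeIdealOf ⟨j Q, hi⟩).asIdeal ^ m := by
      rw [← hMP, ← Scheme.Hom.ker_apply]
      exact hm (Cr.U i)
    exact_mod_cast le_finrank_quotMod k D hD2 hQ W hQW hdim ((Cr.U i).2.primeIdealOf ⟨j Q, hi⟩).asIdeal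
      (j.app (Cr.U i).1).hom hφ m hker hM hfM (hD1 W _ he _ hres)

end Main

end K805.Mult
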