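import Groth.Agent.SurfBl.K805.R1
import Groth.Agent.SurfBl.K805.EndSh
import Groth.Agent.SurfBl.K805.Near
import Groth.Agent.CurvesB.HZero
import Groth.Agent.Models.H38.TrivGen
import Groth.Agent.Fga.SnapperTwist

/-!
# Global sections of the first direct image
-/

set_option autoImplicit false
universe u v
open CategoryTheory CategoryTheory.Limits AlgebraicGeometry Opposite TopologicalSpace BlowUp

namespace K805.R1Glob

open Groth.Agent Groth.Agent.Fdesc.LocGen K805.Chart K805.ChartOf K805.Laurent K805.Gen K805.LF K805.Reg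

section Glue

variable {X : Scheme.{u}} (R : X.Modules)

/-- A module without sections away from finitely many points. -/
theorem bijective_res {s : ℕ} (P : Fin s → X) (hZ : IsClosed (Set.range P)) (U : Fin s → X.Opens)
    (hPU : ∀ i, P i ∈ U i) (hU : ∀ i j, P j ∈ U i → j = i)
    (h0 : ∀ (O : X.Opens), (∀ i, P i ∉ O) → ∀ m : Γ(R, O), m = 0) :
    Function.Bijective (fun (m : Γ(R, (⊤ : X.Opens))) (i : Fin s) => res R (le_top : U i ≤ ⊤) m) := by
  let W : Option (Fin s) → X.Opens := fun o => o.elim ⟨(Set.range P)ᶜ, hZ.isOpen_compl⟩ U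
  have hcov : (⊤ : X.Opens) ≤ ⨆ o, W o := by
    intro x _
    by_cases hx : x ∈ Set.range P
    · obtain ⟨i, rfl⟩ := hx
      exact Opens.mem_iSup.2 ⟨some i, hPU i⟩
    · exact Opens.mem_iSup.2 ⟨none, hx⟩
  constructor
  · intro m m' hmm
    refine res_ext R W (fun o => le_top) hcov fun o => ?_
    cases o with
    | none =>
      have h1 : ∀ i, P i ∉ W none := fun i h => h ⟨i, rfl⟩
      rw [h0 _ h1 (res R _ m), h0 _ h1 (res R _ m')]
    | some i => exact congrFun hmm i
  · intro m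
    obtain ⟨t, ht⟩ := res_glue R W (V := ⊤) (fun o => le_top) hcov
      (fun o => match o with
        | none => (0 : Γ(R, W none))
        | some i => m i) (by
        intro o o'
        cases o with
        | none =>
          have h1 : ∀ i, P i ∉ W none ⊓ W o' := fun i h => h.1 ⟨i, rfl⟩
          rw [h0 _ h1 (res R _ _), h0 _ h1 (res R _ _)]
        | some i =>
          cases o' with
          | none =>
            have h1 : ∀ j, P j ∉ W (some i) ⊓ W none := fun j h => h.2 ⟨j, rfl⟩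
            rw [h0 _ h1 (res R _ _), h0 _ h1 (res R _ _)]
          | some j =>
            by_cases hij : i = j
            · subst hij; rfl
            · have h1 : ∀ l, P l ∉ W (some i) ⊓ W (some j) := fun l h =>
                hij ((hU i l h.1).symm.trans (hU j l h.2))
              rw [h0 _ h1 (res R _ _), h0 _ h1 (res R _ _)])
    exact ⟨t, funext fun i => ht (some i)⟩

theorem finrank_eq (k : Type u) [Field k] [X.Over (Spec (CommRingCat.of k))] {s : ℕ} (P : Fin s → X)
    (hZ : IsClosed (Set.range P)) (U : Fin s → X.Opens) (hPU : ∀ i, P i ∈ U i) (hU : ∀ i j, P j ∈ U i → j = i)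
    (h0 : ∀ (O : X.Opens), (∀ i, P i ∉ O) → ∀ m : Γ(R, O), m = 0) (d : Fin s → ℕ)
    (hd : ∀ i, letI := Module.compHom Γ(R, U i) ((ores (le_top : U i ≤ ⊤)).comp (CurvesB.HZero.gl k X))
      Module.Finite k Γ(R, U i) ∧ Module.finrank k Γ(R, U i) = d i) :
    Module.finrank k (Coh.HH X R 0) = ∑ i, d i := by
  let _ : ∀ i, Module k Γ(R, U i) := fun i =>
    Module.compHom Γ(R, U i) ((ores (le_top : U i ≤ ⊤)).comp (CurvesB.HZero.gl k X))
  let _ := CurvesB.HZero.moduleΓ k R
  have hfin : ∀ i, Module.Finite k Γ(R, U i) := fun i => (hd i).1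
  let Φ : Γ(R, (⊤ : X.Opens)) →ₗ[k] (∀ i, Γ(R, U i)) :=
    { toFun := fun m i => res R (le_top : U i ≤ ⊤) m
      map_add' := fun m m' => funext fun i => map_add _ _ _
      map_smul' := fun c m => funext fun i => res_smul R _ _ _ }
  have hΦ := bijective_res R P hZ U hPU hU h0
  let e := (CurvesB.HZero.equivLin k R).trans (LinearEquiv.ofBijective Φ hΦ)
  rw [e.finrank_eq, Module.finrank_pi_fintype]
  exact Finset.sum_congr rfl fun i _ => (hd i).2

end Glue

section Off

variable {X X' : Scheme.{u}} {b : X' ⟶ X} {J : X.IdealSheafData}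

theorem eq_zero_off (hb : IsBlowUp b J) [QuasiCompact b] [QuasiSeparated b] [HasInjectiveResolutions X'.Modules]
    {F : X'.Modules} (hF : Coh.IsQCoh F) (O : X.Opens) (hO : ∀ x ∈ O, x ∉ J.support)
    (m : Γ((Coh.Rpush b 1).obj F, O)) : m = 0 := by
  apply Ega3B.RpushAff.eq_zero_of_locally
  intro y hy
  obtain ⟨D, hD, hyD, hle⟩ := exists_isAffineOpen_mem_and_subset (U := O) hy
  have : IsIso (b ∣_ O) := Divis.BlowUpFormal.isIso_morphismRestrict_compl_support hb O
    (Set.disjoint_left.2 fun x hx hx' => hO x hx hx')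
  have h1 : IsAffineOpen (b ⁻¹ᵁ D) := Off.isAffineOpen_preimage b O hD hle
  have h2 := (Ega3B.RpushAff.subsingleton_iff b F hF hD 1).2 (Ega3B.RpushAff.subsingleton_HHon F hF h1 1 one_pos)
  exact ⟨D, hle, hyD, Subsingleton.elim _ _⟩

end Off

section Alpha

/-- The residue field at a closed point. -/
theorem bijective_quotient {k A : Type u} [Field k] [IsAlgClosed k] [CommRing A] [Algebra k A]
    [Algebra.FiniteType k A] (m : Ideal A) [m.IsMaximal] : Function.Bijective (algebraMap k (A ⧸ m)) := by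
  let _ := Ideal.Quotient.field m
  have := finite_of_finite_type_of_isJacobsonRing k (A ⧸ m)
  exact IsAlgClosed.algebraMap_bijective_of_isIntegral

theorem bijective_alpha {k : Type u} [Field k] [IsAlgClosed k] {X : Scheme.{u}}
    [X.Over (Spec (CommRingCat.of k))] [LocallyOfFiniteType (X ↘ Spec (CommRingCat.of k))] {V : X.Opens}
    (hV : IsAffineOpen V) (m : Ideal Γ(X, V)) [m.IsMaximal] :
    Function.Bijective ((Ideal.Quotient.mk m).comp ((ores (le_top : V ≤ ⊤)).comp (CurvesB.HZero.gl k X))) := by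
  set χ : k →+* Γ(X, V) := (ores (le_top : V ≤ ⊤)).comp (CurvesB.HZero.gl k X) with hχ
  have hft : χ.FiniteType := by
    have h1 := (X ↘ Spec (CommRingCat.of k)).finiteType_appLE (isAffineOpen_top _) hV (by simp)
    have h2 : ((Scheme.ΓSpecIso (CommRingCat.of k)).inv.hom).FiniteType :=
      RingHom.FiniteType.of_surjective _
        (ConcreteCategory.bijective_of_isIso (Scheme.ΓSpecIso (CommRingCat.of k)).inv).2
    have h3 := h1.comp h2
    have h4 : χ = ((X ↘ Spec (CommRingCat.of k)).appLE ⊤ V (by simp)).hom.comp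
        (Scheme.ΓSpecIso (CommRingCat.of k)).inv.hom := by
      ext c
      simp [hχ, ores, CurvesB.HZero.gl, Coh.toGlobal, Scheme.Hom.appLE]
    rw [h4]
    exact h3
  let _ := χ.toAlgebra
  have : Algebra.FiniteType k Γ(X, V) := hft
  exact bijective_quotient (k := k) m

end Alpha

/-! ### Generators of the twisted module over the two charts -/

section Gens

open Groth.Agent.Dix.IdealModCartier

variable {B : Scheme.{u}} {E : B.IdealSheafData} {Ω : B.Opens} {R : Type u} [CommRing R] {φ : R →+* Γ(B, Ω)} {x y : R}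

/-- The generators of the inverse of the `n`-th power of the ideal over the two charts. -/
theorem exists_gens_pow (D : TC E Ω φ x y) {I : B.IdealSheafData} {n : ℕ}
    (hU : I.ideal D.U = Ideal.span {(ores D.hU (φ x)) ^ n}) (hV : I.ideal D.V = Ideal.span {(ores D.hV (φ y)) ^ n})
    {L : B.Modules} (hL : ClSub.IsInverseOf L (ClSub.idealMod I)) :
    ∃ (eU : Γ(L, D.U.1)) (eV : Γ(L, D.V.1)), IsGen eU ∧ IsGen eV ∧ res L D.WV eV = D.sW ^ n • res L D.WU eU := by
  obtain ⟨ψ⟩ := hL
  obtain ⟨sU, hsU⟩ := exists_val_eq I D.U (hU ▸ Ideal.mem_span_singleton_self _)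
  obtain ⟨sV, hsV⟩ := exists_val_eq I D.V (hV ▸ Ideal.mem_span_singleton_self _)
  have gU : IsGen sU := isGen_of_genOn (by rw [hsU]; exact genOn_of_affine (pow_mem D.nzU n) hU)
  have gV : IsGen sV := isGen_of_genOn (by rw [hsV]; exact genOn_of_affine (pow_mem D.nzV n) hV)
  obtain ⟨eU, heU, hU'⟩ := Inv.exists_dual ψ gU
  obtain ⟨eV, heV, hV'⟩ := Inv.exists_dual ψ gV
  refine ⟨eU, eV, heU, heV, ?_⟩
  have h1 : res _ D.WU sU = D.sW ^ n • res _ D.WV sV := by
    apply val_injective
    rw [val_smul, val_res, val_res, hsU, hsV, map_pow, map_pow, ores_ores, ores_ores, ← mul_pow]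
    exact congrArg (· ^ n) ((mul_comm _ _).trans D.psi_x.symm |>.symm)
  refine (tmul_right_bijective L gV D.WV).1 ?_
  dsimp only
  rw [smul_tmul, ← tmul_smul, ← h1, ← res_tmul, ← res_tmul]
  have hinj : Function.Injective (ψ.hom.app D.W) := by
    intro a b hab
    have := congrArg (ψ.inv.app D.W) hab
    have h2 : ∀ c, ψ.inv.app D.W (ψ.hom.app D.W c) = c := fun c =>
      congrArg (fun f : CohB1.tensorMod L (ClSub.idealMod I) ⟶ _ => f.app D.W c) ψ.hom_inv_id
    rwa [h2, h2] at this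
  apply hinj
  rw [app_res, app_res, hU', hV', res_one, res_one]

theorem ideal_prod {ι : Type*} (s : Finset ι) (I : ι → B.IdealSheafData) (U : B.affineOpens) :
    (∏ j ∈ s, I j).ideal U = ∏ j ∈ s, (I j).ideal U := by
  classical
  induction s using Finset.induction_on with
  | empty => rw [Finset.prod_empty, Finset.prod_empty, Ideal.one_eq_top]; rfl
  | insert a s has ih =>
    rw [Finset.prod_insert has, Finset.prod_insert has, Scheme.IdealSheafData.ideal_mul, Pi.mul_apply, ih]

theorem ideal_prod_pow {s : ℕ} (I : Fin s → B.IdealSheafData) (c : Fin s → ℕ) (U : B.affineOpens) (i : Fin s)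
    (a : Γ(B, U.1)) (hi : (I i).ideal U = Ideal.span {a}) (h : ∀ j, j ≠ i → (I j).ideal U = ⊤) :
    (∏ j, I j ^ c j).ideal U = Ideal.span {a ^ c i} := by
  rw [ideal_prod, Finset.prod_eq_single i]
  · rw [Scheme.IdealSheafData.ideal_pow, Pi.pow_apply, hi, Ideal.span_singleton_pow]
  · intro j _ hj
    rw [Scheme.IdealSheafData.ideal_pow, Pi.pow_apply, h j hj, ← Ideal.one_eq_top, one_pow]
  · intro h
    exact absurd (Finset.mem_univ i) h

end Gens

/-! ### The dimension formula -/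

section Main

variable {X X' : Scheme.{u}}

theorem ideal_vanishing_top (Z : Closeds X) (U : X.affineOpens) (h : ∀ t ∈ U.1, t ∉ Z) :
    (Scheme.IdealSheafData.vanishingIdeal Z).ideal U = ⊤ := by
  have h1 : (Scheme.IdealSheafData.vanishingIdeal Z).ideal U =
      PrimeSpectrum.vanishingIdeal (U.2.fromSpec ⁻¹' (Z : Set X)) := rfl
  have h2 : U.2.fromSpec ⁻¹' (Z : Set X) = ∅ := by
    ext p
    simp only [Set.mem_preimage, Set.mem_empty_iff_false, iff_false]
    intro hp
    refine h _ ?_ hp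
    have : U.2.fromSpec p ∈ Set.range U.2.fromSpec := ⟨p, rfl⟩
    rwa [U.2.range_fromSpec] at this
  exact h1.trans ((congrArg PrimeSpectrum.vanishingIdeal h2).trans PrimeSpectrum.vanishingIdeal_empty)

theorem main {k : Type u} [Field k] [IsAlgClosed k] [X.Over (Spec (CommRingCat.of k))]
    [SmoothOfRelativeDimension 2 (X ↘ Spec (CommRingCat.of k))]
    (s : ℕ) (P : Fin s → X) (hP : Function.Injective P) (hPc : ∀ i, IsClosed ({P i} : Set X))
    (hZ : IsClosed (Set.range P)) (σ : X' ⟶ X)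
    (hσ : IsBlowUp σ (Scheme.IdealSheafData.vanishingIdeal ⟨Set.range P, hZ⟩))
    (M : X.Modules) (hM : PicF.IsInvertible M) (L : Fin s → X'.Modules)
    (hL : ∀ i, ClSub.IsInverseOf (L i) (ClSub.idealMod ((Scheme.IdealSheafData.vanishingIdeal ⟨{P i}, hPc i⟩).comap σ)))
    (b : Fin s → ℕ) [HasInjectiveResolutions X'.Modules] :
    Module.finrank k (Coh.HH X ((Coh.Rpush σ 1).obj
      (CohB1.tensorMod ((Scheme.Modules.pullback σ).obj M) (FGA.multiTwist L b))) 0) =
      ∑ i, (b i).choose 2 := by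
  have hfin : ((⟨Set.range P, hZ⟩ : TopologicalSpace.Closeds X) : Set X).Finite := Set.finite_range P
  have hcl : ∀ t ∈ (⟨Set.range P, hZ⟩ : TopologicalSpace.Closeds X), IsClosed ({t} : Set X) := by
    rintro t ⟨j, rfl⟩
    exact hPc j
  have hsupp : ∀ t, t ∈ (Scheme.IdealSheafData.vanishingIdeal ⟨Set.range P, hZ⟩).support →
      t ∈ (⟨Set.range P, hZ⟩ : TopologicalSpace.Closeds X) := by
    intro t ht
    have h3 : t ∈ (((Scheme.IdealSheafData.vanishingIdeal ⟨Set.range P, hZ⟩).support :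
      TopologicalSpace.Closeds X) : Set X) := ht
    rwa [Scheme.IdealSheafData.coe_support_vanishingIdeal] at h3
  have T := setupR_smooth (X ↘ Spec (CommRingCat.of k)) ⟨Set.range P, hZ⟩ hfin hcl hσ
  have := T.isProper
  have hsm : Smooth (X ↘ Spec (CommRingCat.of k)) := SmoothOfRelativeDimension.smooth 2 _
  have hinv : PicF.IsInvertible (CohB1.tensorMod ((Scheme.Modules.pullback σ).obj M) (FGA.multiTwist L b)) :=
    isInvertible_tensorMod (isInvertible_pullback σ hM) (Fga.SnapperTwist.isInvertible_multiTwist L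
      (fun i => (Dix.IdealModCartier.isInvertible_of_isInverseOf (hL i)).1) b)
  have hq : Coh.IsQCoh (CohB1.tensorMod ((Scheme.Modules.pullback σ).obj M) (FGA.multiTwist L b)) :=
    Ega2.QCohLocal.isQCoh_of_isInvertible hinv
  have hdata : ∀ i, ∃ (Λ : Loc σ (Scheme.IdealSheafData.vanishingIdeal ⟨Set.range P, hZ⟩) (P i))
      (m : Γ(M, Λ.U.1)), IsGen m ∧ ∀ t ∈ Λ.U.1, t ∈ (⟨Set.range P, hZ⟩ : TopologicalSpace.Closeds X) → t = P i := by
    intro i
    obtain ⟨O, m, hPO, hm⟩ := (isInvertible_iff M).1 hM (P i)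
    obtain ⟨W, hW, hW'⟩ := EndSh.exists_isolating _ hfin hcl (P i)
    obtain ⟨Λ, hΛ⟩ := EndSh.exists_loc_le_smooth (X ↘ Spec (CommRingCat.of k)) ⟨Set.range P, hZ⟩ hfin hcl hσ
      (s := P i) ⟨i, rfl⟩ (O ⊓ W) ⟨hPO, hW⟩
    exact ⟨Λ, res M (hΛ.trans inf_le_left) m, hm.res _, fun t ht => hW' t (hΛ ht).2⟩
  choose Λ m hm hiso using hdata
  refine finrank_eq _ k P hZ (fun i => (Λ i).U.1) (fun i => (Λ i).hs) (fun i j h => hP (hiso i _ h ⟨j, rfl⟩))
    (fun O hO => eq_zero_off hσ hq O fun x hx hx' => by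
      obtain ⟨i, rfl⟩ := hsupp x hx'
      exact hO i hx) _ fun i => ?_
  let _ := Module.compHom Γ((Coh.Rpush σ 1).obj
    (CohB1.tensorMod ((Scheme.Modules.pullback σ).obj M) (FGA.multiTwist L b)), (Λ i).U.1)
      ((ores (le_top : (Λ i).U.1 ≤ ⊤)).comp (CurvesB.HZero.gl k X))
  -- the ideal of the point
  have hIi : (Scheme.IdealSheafData.vanishingIdeal ⟨{P i}, hPc i⟩).ideal (Λ i).U =
      (Scheme.IdealSheafData.vanishingIdeal ⟨Set.range P, hZ⟩).ideal (Λ i).U := by
    rw [(Λ i).ideal]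
    exact Pts.ideal_vanishing ⟨{P i}, hPc i⟩ (P i) (Λ i).U.2 (Λ i).hs rfl fun t _ ht => ht
  have hIj : ∀ j, j ≠ i → (Scheme.IdealSheafData.vanishingIdeal ⟨{P j}, hPc j⟩).ideal (Λ i).U = ⊤ := by
    intro j hj
    refine ideal_vanishing_top _ _ fun t ht ht' => hj ?_
    have h1 : t = P j := ht'
    subst h1
    exact hP (hiso i _ ht ⟨j, rfl⟩)
  have hmul : ∀ (A : X'.affineOpens) (hA : A.1 ≤ σ ⁻¹ᵁ (Λ i).U.1) (a : Γ(X', A.1)),
      ((Scheme.IdealSheafData.vanishingIdeal ⟨Set.range P, hZ⟩).comap σ).ideal A = Ideal.span {a} →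
      (∏ j, ((Scheme.IdealSheafData.vanishingIdeal ⟨{P j}, hPc j⟩).comap σ) ^ b j).ideal A =
        Ideal.span {a ^ b i} := by
    intro A hA a ha
    refine ideal_prod_pow _ b A i a ?_ fun j hj => ?_
    · rw [← ha, Divis.IdealComap.ideal_comap _ σ (Λ i).U A hA, Divis.IdealComap.ideal_comap _ σ (Λ i).U A hA, hIi]
    · rw [Divis.IdealComap.ideal_comap _ σ (Λ i).U A hA, hIj j hj, Ideal.map_top]
  obtain ⟨eU, eV, heU, heV, hUV⟩ := exists_gens_pow (Λ i).D (hmul _ (Λ i).D.hU _ (Λ i).D.idU)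
    (hmul _ (Λ i).D.hV _ (Λ i).D.idV) (Models.H38.TrivGen.isInverseOf_multiTwist _ L hL b)
  have hmx : (Ideal.span {(Λ i).x, (Λ i).y}).IsMaximal := by
    rw [← (Λ i).crd.ideal, (Λ i).ideal]
    exact isMaximal_of_closed (hPc i) (Λ i).U.2 (Λ i).hs
  exact R1.finrank_sections (Λ i).D (Λ i).inj (Λ i).rp hq
    (f := tmul (res _ (Λ i).D.hU (pullSec σ (m i))) eU) (((hm i).pullSec σ).res _ |>.tmul heU)
    (g := tmul (res _ (Λ i).D.hV (pullSec σ (m i))) eV) (((hm i).pullSec σ).res _ |>.tmul heV)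
    (by
      rw [res_tmul, res_tmul, hUV, tmul_smul, res_res, res_res])
    ((ores (le_top : (Λ i).U.1 ≤ ⊤)).comp (CurvesB.HZero.gl k X)) (bijective_alpha (Λ i).U.2 _) fun _ _ => rfl

end Main

end K805.R1Glob
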