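import Groth.Agent.SurfBl.K805.R1Glob
import Groth.Agent.Sga2.ThickKer
import Groth.Agent.CurvesC.DualIdeals
import Groth.Agent.Divis.BlowChart2

/-!
# Sections of a pulled back invertible module vanishing along effective Cartier divisors
-/

set_option autoImplicit false
universe u v
open CategoryTheory CategoryTheory.Limits AlgebraicGeometry Opposite TopologicalSpace BlowUp

namespace K805.Ample

open Groth.Agent Groth.Agent.Fdesc.LocGen Groth.Agent.Dix.IdealModCartier

section Lift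

variable {X : Scheme.{u}}

/-- A section of `N` which lies locally in `I N` is a section of `N ⊗ I`. -/
theorem exists_lift {N : X.Modules} (T : Coh.structureModule X ⟶ N) (I : X.IdealSheafData)
    (hcov : ∀ x : X, ∃ (V : X.Opens) (ε : Γ(N, V)) (w : Γ(ClSub.idealMod I, V)), x ∈ V ∧ IsGen ε ∧
      sec T V = val I w • ε) :
    ∃ t : Coh.structureModule X ⟶ CohB1.tensorMod N (ClSub.idealMod I),
      ∀ (V : X.Opens) (ε : Γ(N, V)) (w : Γ(ClSub.idealMod I, V)), IsGen ε → sec T V = val I w • ε →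
        sec t V = tmul ε w := by
  let κ := Σ' (V : X.Opens) (ε : Γ(N, V)) (w : Γ(ClSub.idealMod I, V)), IsGen ε ∧ sec T V = val I w • ε
  obtain ⟨t, ht⟩ := exists_hom_of_family (M := CohB1.tensorMod N (ClSub.idealMod I)) (fun i : κ => i.1)
    (by
      rw [eq_top_iff]
      intro x _
      obtain ⟨V, ε, w, hx, h1, h2⟩ := hcov x
      exact Opens.mem_iSup.2 ⟨⟨V, ε, w, h1, h2⟩, hx⟩) (fun i => tmul i.2.1 i.2.2.1) (by
      rintro ⟨V, ε, w, h1, h2⟩ ⟨V', ε', w', h1', h2'⟩
      dsimp only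
      obtain ⟨v, hv⟩ := (h1'.res (inf_le_right : V ⊓ V' ≤ V')).exists_eq (res N inf_le_left ε)
      rw [res_tmul, res_tmul, hv, smul_tmul, ← tmul_smul]
      congr 1
      apply val_injective
      refine (h1'.res (inf_le_right : V ⊓ V' ≤ V')).ext ?_
      rw [val_smul, val_res, val_res]
      have h3 : res N (inf_le_left : V ⊓ V' ≤ V) (sec T V) = res N (inf_le_right : V ⊓ V' ≤ V') (sec T V') := by
        rw [res_sec, res_sec]
      rw [h2, h2', res_smul, res_smul, hv, smul_smul] at h3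
      rw [mul_comm]
      exact h3)
  exact ⟨t, fun V ε w h1 h2 => ht ⟨V, ε, w, h1, h2⟩⟩

/-- The product of sections, as a section of a power of the module. -/
theorem exists_prod {H : X.Modules} (hH : PicF.IsInvertible H) {s : ℕ} (l : Fin s → (Coh.structureModule X ⟶ H))
    (c : Coh.structureModule X ⟶ H) (a : Fin s → ℕ) (r : ℕ) :
    ∃ T : Coh.structureModule X ⟶ CohB1.tensorPow H (∑ i, a i + r),
      ∀ (V : X.Opens) (e : Γ(H, V)) (f : Fin s → Γ(X, V)) (g : Γ(X, V)), IsGen e → (∀ i, sec (l i) V = f i • e) →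
        sec c V = g • e → sec T V = ((∏ i, f i ^ a i) * g ^ r) • pow e (∑ i, a i + r) := by
  let κ := Σ' (V : X.Opens) (e : Γ(H, V)) (f : Fin s → Γ(X, V)) (g : Γ(X, V)), IsGen e ∧
    (∀ i, sec (l i) V = f i • e) ∧ sec c V = g • e
  obtain ⟨T, hT⟩ := exists_hom_of_family (M := CohB1.tensorPow H (∑ i, a i + r)) (fun i : κ => i.1)
    (by
      rw [eq_top_iff]
      intro x _
      obtain ⟨V, e, hx, he⟩ := (isInvertible_iff H).1 hH x
      choose f hf using fun i => he.exists_eq (sec (l i) V)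
      obtain ⟨g, hg⟩ := he.exists_eq (sec c V)
      exact Opens.mem_iSup.2 ⟨⟨V, e, f, g, he, hf, hg⟩, hx⟩)
    (fun i => ((∏ j, i.2.2.1 j ^ a j) * i.2.2.2.1 ^ r) • pow i.2.1 (∑ i, a i + r)) (by
      rintro ⟨V, e, f, g, he, hf, hg⟩ ⟨V', e', f', g', he', hf', hg'⟩
      dsimp only
      obtain ⟨v, hv⟩ := (he'.res (inf_le_right : V ⊓ V' ≤ V')).exists_eq (res H inf_le_left e)
      have key : ∀ (t : Coh.structureModule X ⟶ H) (f : Γ(X, V)) (f' : Γ(X, V')), sec t V = f • e →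
          sec t V' = f' • e' → ores (inf_le_left : V ⊓ V' ≤ V) f * v = ores (inf_le_right : V ⊓ V' ≤ V') f' := by
        intro t f f' h h'
        refine (he'.res (inf_le_right : V ⊓ V' ≤ V')).ext ?_
        have h3 : res H (inf_le_left : V ⊓ V' ≤ V) (sec t V) = res H (inf_le_right : V ⊓ V' ≤ V') (sec t V') := by
          rw [res_sec, res_sec]
        rw [h, h', res_smul, res_smul, hv, smul_smul] at h3
        exact h3
      rw [res_smul, res_smul, res_pow, res_pow, hv, smul_pow, smul_smul, map_mul, map_mul, map_prod, map_prod]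
      congr 1
      rw [map_pow, map_pow, ← key c g g' hg hg', mul_pow, pow_add, ← Finset.prod_pow_eq_pow_sum]
      have h4 : ∏ j, ores (inf_le_right : V ⊓ V' ≤ V') (f' j ^ a j) =
          (∏ j, ores (inf_le_left : V ⊓ V' ≤ V) (f j ^ a j)) * ∏ j, v ^ a j := by
        rw [← Finset.prod_mul_distrib]
        refine Finset.prod_congr rfl fun j _ => ?_
        rw [map_pow, map_pow, ← key (l j) (f j) (f' j) (hf j) (hf' j), mul_pow]
      rw [h4]
      ring)
  exact ⟨T, fun V e f g he hf hg => hT ⟨V, e, f, g, he, hf, hg⟩⟩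

end Lift

section GenLocus

variable {X X' : Scheme.{u}} (b : X' ⟶ X)

theorem genOn_prod_pow {s : ℕ} (I : Fin s → X'.IdealSheafData) (a : Fin s → ℕ) {V : X'.Opens} (γ : Fin s → Γ(X', V))
    (h : ∀ i, GenOn (I i) (γ i)) : GenOn (∏ i, I i ^ a i) (∏ i, γ i ^ a i) := by
  have key : ∀ t : Finset (Fin s), GenOn (∏ i ∈ t, I i ^ a i) (∏ i ∈ t, γ i ^ a i) := by
    classical
    intro t
    induction t using Finset.induction_on with
    | empty =>
      rw [Finset.prod_empty, Finset.prod_empty]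
      intro W hW
      rw [map_one]
      refine ⟨one_mem _, ?_⟩
      rw [Ideal.span_singleton_one]
      rfl
    | insert j t hj ih =>
      rw [Finset.prod_insert hj, Finset.prod_insert hj]
      exact (Sga2.ThickKer.genOn_pow (h j) (a j)).mul ih
  exact key Finset.univ

theorem isEff_prod_pow {s : ℕ} (I : Fin s → X'.IdealSheafData) (a : Fin s → ℕ)
    (h : ∀ i, IsEffCartierIdeal (I i)) : IsEffCartierIdeal (∏ i, I i ^ a i) :=
  Models.H38.TrivGen.isEff_prod _ _ fun i _ => Divis.EffCartier.isEff_pow (h i) (a i)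

theorem appLE_eq_ores (U : X.Opens) (V : X'.Opens) (hV : V ≤ b ⁻¹ᵁ U) (f : Γ(X, U)) :
    (b.appLE U V hV).hom f = ores hV (b.app U f) := rfl

/-- The section of `b^* (H^N) ⊗ ∏ I_i^{a_i}` given by sections `l_i` of `H` vanishing along the `I_i`. -/
theorem exists_section {H : X.Modules} (hH : PicF.IsInvertible H) {s : ℕ} (J : Fin s → X.IdealSheafData)
    (l : Fin s → (Coh.structureModule X ⟶ H))
    (c : Coh.structureModule X ⟶ H) (a : Fin s → ℕ) (r : ℕ)
    (hl : ∀ i (V : X.affineOpens) (e : Γ(H, V.1)) (f : Γ(X, V.1)), IsGen e → sec (l i) V.1 = f • e → f ∈ (J i).ideal V) :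
    ∃ t : Coh.structureModule X' ⟶ CohB1.tensorMod ((Scheme.Modules.pullback b).obj (CohB1.tensorPow H (∑ i, a i + r)))
        (ClSub.idealMod (∏ i, ((J i).comap b) ^ a i)),
      ∀ (U : X.affineOpens) (e : Γ(H, U.1)) (f : Fin s → Γ(X, U.1)) (g : Γ(X, U.1)) (V : X'.affineOpens)
        (hV : V.1 ≤ b ⁻¹ᵁ U.1) (u γ : Fin s → Γ(X', V.1)), IsGen e → (∀ i, sec (l i) U.1 = f i • e) →
        sec c U.1 = g • e → (∀ i, GenOn ((J i).comap b) (γ i)) → (∀ i, ores hV (b.app U.1 (f i)) = u i * γ i) →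
        CohB1.genLocus _ t ⊓ V.1 = X'.basicOpen ((∏ i, u i ^ a i) * (ores hV (b.app U.1 g)) ^ r) := by
  obtain ⟨T, hT⟩ := exists_prod hH l c a r
  have hT' : ∀ (U : X.affineOpens) (e : Γ(H, U.1)) (f : Fin s → Γ(X, U.1)) (g : Γ(X, U.1)) (V : X'.affineOpens)
      (hV : V.1 ≤ b ⁻¹ᵁ U.1), IsGen e → (∀ i, sec (l i) U.1 = f i • e) → sec c U.1 = g • e →
      sec (pullHom b T) V.1 = ((∏ i, ores hV (b.app U.1 (f i)) ^ a i) * ores hV (b.app U.1 g) ^ r) •
        res _ hV (pullSec b (pow e (∑ i, a i + r))) := by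
    intro U e f g V hV he hf hg
    rw [← res_sec _ hV, sec_pullHom, hT U.1 e f g he hf hg, pullSec_smul, res_smul, map_mul, map_mul, map_prod, map_prod,
      map_pow, map_pow]
    congr 2
    refine Finset.prod_congr rfl fun i _ => ?_
    rw [map_pow, map_pow]
  obtain ⟨t, ht⟩ := exists_lift (pullHom b T) (∏ i, ((J i).comap b) ^ a i) (by
    intro x
    obtain ⟨U₀, e₀, hx, he₀⟩ := (isInvertible_iff H).1 hH (b x)
    obtain ⟨U, hxU, hU⟩ := exists_affine_mem_le U₀ (b x) hx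
    obtain ⟨V, hxV, hV⟩ := exists_affine_mem_le (b ⁻¹ᵁ U.1) x hxU
    have he := he₀.res hU
    choose f hf using fun i => he.exists_eq (sec (l i) U.1)
    obtain ⟨g, hg⟩ := he.exists_eq (sec c U.1)
    have hmem : (∏ i, ores hV (b.app U.1 (f i)) ^ a i) * ores hV (b.app U.1 g) ^ r ∈
        (∏ i, ((J i).comap b) ^ a i).ideal V := by
      refine Ideal.mul_mem_right _ _ ?_
      rw [R1Glob.ideal_prod]
      refine Ideal.prod_mem_prod fun i _ => ?_
      rw [Scheme.IdealSheafData.ideal_pow, Pi.pow_apply]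
      refine Ideal.pow_mem_pow ?_ _
      rw [Divis.IdealComap.ideal_comap _ b U V hV]
      exact Ideal.mem_map_of_mem _ (hl i U _ _ he (hf i))
    obtain ⟨w, hw⟩ := exists_val_eq _ V hmem
    refine ⟨V.1, _, w, hxV, ((he.pow (∑ i, a i + r)).pullSec b).res hV, ?_⟩
    rw [hw]
    exact hT' U _ f g V hV he hf hg)
  refine ⟨t, fun U e f g V hV u γ he hf hg hγ hu => ?_⟩
  have hΓ := genOn_prod_pow (fun i => (J i).comap b) a γ hγ
  obtain ⟨w, hw⟩ := exists_val_eq (∏ i, ((J i).comap b) ^ a i) V (by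
    rw [(hΓ V le_rfl).2, ores_refl]
    exact Ideal.mem_span_singleton_self _)
  have hgw : IsGen w := isGen_of_genOn (by rw [hw]; exact hΓ)
  have hε := ((he.pow (∑ i, a i + r)).pullSec b).res hV
  have h1 := ht V.1 _ (((∏ i, u i ^ a i) * (ores hV (b.app U.1 g)) ^ r) • w) hε (by
    rw [hT' U e f g V hV he hf hg, val_smul, hw]
    congr 1
    have h2 : ∏ i, ores hV (b.app U.1 (f i)) ^ a i = (∏ i, u i ^ a i) * ∏ i, γ i ^ a i := by
      rw [← Finset.prod_mul_distrib]
      exact Finset.prod_congr rfl fun i _ => by rw [hu, mul_pow]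
    rw [h2]
    ring)
  rw [tmul_smul] at h1
  exact genLocus_inf_eq t (hε.tmul hgw) h1

end GenLocus

section Chart

variable {X X' : Scheme.{u}} (b : X' ⟶ X)

theorem exists_affine_genOn {s : ℕ} (I : Fin s → X'.IdealSheafData) (h : ∀ i, IsEffCartierIdeal (I i)) (x : X')
    (O : X'.Opens) (hx : x ∈ O) : ∃ (V : X'.affineOpens) (γ : Fin s → Γ(X', V.1)), x ∈ V.1 ∧ V.1 ≤ O ∧
      ∀ i, GenOn (I i) (γ i) := by
  have key : ∀ t : Finset (Fin s), ∃ V : X'.affineOpens, x ∈ V.1 ∧ V.1 ≤ O ∧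
      ∀ i ∈ t, ∃ γ : Γ(X', V.1), GenOn (I i) γ := by
    classical
    intro t
    induction t using Finset.induction_on with
    | empty =>
      obtain ⟨V, h1, h2⟩ := exists_affine_mem_le O x hx
      exact ⟨V, h1, h2, fun i hi => absurd hi (Finset.notMem_empty i)⟩
    | insert j t hj ih =>
      obtain ⟨V, h1, h2, h3⟩ := ih
      obtain ⟨W, α, h4, h5⟩ := exists_genOn (h j) x
      obtain ⟨V', h6, h7⟩ := exists_affine_mem_le (V.1 ⊓ W.1) x ⟨h1, h4⟩
      refine ⟨V', h6, h7.trans (inf_le_left.trans h2), fun i hi => ?_⟩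
      rcases Finset.mem_insert.1 hi with rfl | hi
      · exact ⟨_, h5.res (h7.trans inf_le_right)⟩
      · obtain ⟨γ, hγ⟩ := h3 i hi
        exact ⟨_, hγ.res (h7.trans inf_le_left)⟩
  obtain ⟨V, h1, h2, h3⟩ := key Finset.univ
  choose γ hγ using fun i => h3 i (Finset.mem_univ i)
  exact ⟨V, γ, h1, h2, hγ⟩

theorem comap_prod {s : ℕ} (J : Fin s → X.IdealSheafData) : (∏ i, J i).comap b = ∏ i, (J i).comap b := by
  have key : ∀ t : Finset (Fin s), (∏ i ∈ t, J i).comap b = ∏ i ∈ t, (J i).comap b := by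
    classical
    intro t
    induction t using Finset.induction_on with
    | empty =>
      rw [Finset.prod_empty, Finset.prod_empty]
      exact Scheme.IdealSheafData.comap_top b
    | insert j t hj ih =>
      rw [Finset.prod_insert hj, Finset.prod_insert hj, Divis.IdealComap.comap_mul, ih]
  exact key Finset.univ

/-- Membership in the chart, in terms of local generators. -/
theorem mem_chart_iff {s : ℕ} (J : Fin s → X.IdealSheafData) (U : X.affineOpens) (f : Fin s → Γ(X, U.1))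
    (V : X'.affineOpens) (hV : V.1 ≤ b ⁻¹ᵁ U.1) (u γ : Fin s → Γ(X', V.1)) (hγ : ∀ i, GenOn ((J i).comap b) (γ i))
    (hu : ∀ i, ores hV (b.app U.1 (f i)) = u i * γ i) (x : X') (hx : x ∈ V.1) :
    x ∈ Divis.BlowChart2.chart b (∏ i, J i) U (∏ i, f i) ↔ x ∈ X'.basicOpen (∏ i, u i) := by
  have hΓ : GenOn ((∏ i, J i).comap b) (∏ i, γ i) := by
    have h1 := genOn_prod_pow (fun i => (J i).comap b) (fun _ => 1) γ hγ
    simp only [pow_one] at h1
    rwa [comap_prod]
  have hprod : ores hV (b.app U.1 (∏ i, f i)) = (∏ i, u i) * ∏ i, γ i := by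
    rw [map_prod, map_prod, ← Finset.prod_mul_distrib]
    exact Finset.prod_congr rfl fun i _ => hu i
  have hle : ∀ (W : X'.affineOpens) (hW : W.1 ≤ V.1), (b.appLE U.1 W.1 (hW.trans hV)).hom (∏ i, f i) =
      ores hW (∏ i, u i) * ores hW (∏ i, γ i) := by
    intro W hW
    rw [← map_mul, ← hprod, ores_ores]
    rfl
  rw [Divis.BlowChart2.mem_chart_iff]
  constructor
  · rintro ⟨W, hW, hxW, h⟩
    obtain ⟨W', hxW', hW'⟩ := exists_affine_mem_le (V.1 ⊓ W.1) x ⟨hx, hxW⟩
    have h1 : ((∏ i, J i).comap b).ideal W' =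
        Ideal.span {(b.appLE U.1 W'.1 ((hW'.trans inf_le_left).trans hV)).hom (∏ i, f i)} := by
      rw [← ((∏ i, J i).comap b).map_ideal (U := W') (V := W) (hW'.trans inf_le_right), h, Ideal.map_span,
        Set.image_singleton]
      congr 2
      exact congr($(congrArg CommRingCat.Hom.hom (Scheme.Hom.appLE_map b hW
        (homOfLE (hW'.trans inf_le_right : W'.1 ≤ W.1)).op)) (∏ i, f i))
    have h2 := hΓ W' (hW'.trans inf_le_left)
    have h3 : ores (hW'.trans inf_le_left) (∏ i, γ i) ∈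
        Ideal.span {(b.appLE U.1 W'.1 ((hW'.trans inf_le_left).trans hV)).hom (∏ i, f i)} := by
      rw [← h1, h2.2]
      exact Ideal.mem_span_singleton_self _
    rw [hle W' (hW'.trans inf_le_left)] at h3
    obtain ⟨v, hv⟩ := Ideal.mem_span_singleton.1 h3
    have h4 : (ores (hW'.trans inf_le_left) (∏ i, u i) * v) * ores (hW'.trans inf_le_left) (∏ i, γ i) =
        1 * ores (hW'.trans inf_le_left) (∏ i, γ i) := by
      rw [one_mul]
      conv_rhs => rw [hv]
      ring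
    have h5 := (mul_cancel_right_mem_nonZeroDivisors h2.1).1 h4
    have h6 : IsUnit (ores (hW'.trans inf_le_left : W'.1 ≤ V.1) (∏ i, u i)) := IsUnit.of_mul_eq_one _ h5
    rw [X'.mem_basicOpen _ _ hx]
    have h7 := h6.map (X'.presheaf.germ W'.1 x hxW').hom
    have h8 : (X'.presheaf.germ W'.1 x hxW') (ores (hW'.trans inf_le_left : W'.1 ≤ V.1) (∏ i, u i)) =
        X'.presheaf.germ V.1 x hx (∏ i, u i) :=
      TopCat.Presheaf.germ_res_apply X'.presheaf (homOfLE (hW'.trans inf_le_left : W'.1 ≤ V.1)) x hxW' _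
    rwa [← h8]
  · intro hx'
    let W : X'.affineOpens := ⟨X'.basicOpen (∏ i, u i), V.2.basicOpen _⟩
    have hW : W.1 ≤ V.1 := X'.basicOpen_le _
    refine ⟨W, hW.trans hV, hx', ?_⟩
    rw [(hΓ W hW).2, hle W hW]
    have h1 : IsUnit (ores hW (∏ i, u i)) := X'.toRingedSpace.isUnit_res_basicOpen (∏ i, u i)
    exact (Ideal.span_singleton_mul_left_unit h1 _).symm

/-- The locus where the section of `exists_section` generates is a chart of the blow-up. -/
theorem genLocus_eq_chart {H : X.Modules} (hH : PicF.IsInvertible H) {s : ℕ} (J : Fin s → X.IdealSheafData)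
    (hJ : ∀ i, IsEffCartierIdeal ((J i).comap b)) (l : Fin s → (Coh.structureModule X ⟶ H))
    (c : Coh.structureModule X ⟶ H) (a : Fin s → ℕ) (ha : ∀ i, 0 < a i) (r : ℕ) (hr : 0 < r)
    (hl : ∀ i (V : X.affineOpens) (e : Γ(H, V.1)) (f : Γ(X, V.1)), IsGen e → sec (l i) V.1 = f • e → f ∈ (J i).ideal V)
    (U : X.affineOpens) (hU : CohB1.genLocus H c = U.1) (f : Fin s → Γ(X, U.1))
    (hf : ∀ i, sec (l i) U.1 = f i • sec c U.1) :
    ∃ t : Coh.structureModule X' ⟶ CohB1.tensorMod ((Scheme.Modules.pullback b).obj (CohB1.tensorPow H (∑ i, a i + r)))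
        (ClSub.idealMod (∏ i, ((J i).comap b) ^ a i)),
      CohB1.genLocus _ t = Divis.BlowChart2.chart b (∏ i, J i) U (∏ i, f i) := by
  obtain ⟨t, ht⟩ := exists_section b hH J l c a r hl
  refine ⟨t, ?_⟩
  have hgc : IsGen (sec c U.1) := (le_genLocus_iff c U.1).1 hU.ge
  have hdiv : ∀ (U' : X.affineOpens) (e : Γ(H, U'.1)) (f' : Fin s → Γ(X, U'.1)) (V : X'.affineOpens)
      (hV : V.1 ≤ b ⁻¹ᵁ U'.1) (γ : Fin s → Γ(X', V.1)), IsGen e → (∀ i, sec (l i) U'.1 = f' i • e) →
      (∀ i, GenOn ((J i).comap b) (γ i)) → ∃ u : Fin s → Γ(X', V.1), ∀ i, ores hV (b.app U'.1 (f' i)) = u i * γ i := by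
    intro U' e f' V hV γ he hf' hγ
    have : ∀ i, ∃ u : Γ(X', V.1), ores hV (b.app U'.1 (f' i)) = u * γ i := by
      intro i
      have h1 : ores hV (b.app U'.1 (f' i)) ∈ ((J i).comap b).ideal V := by
        rw [Divis.IdealComap.ideal_comap _ b U' V hV]
        exact Ideal.mem_map_of_mem _ (hl i U' _ _ he (hf' i))
      rw [(hγ i V le_rfl).2, ores_refl] at h1
      obtain ⟨u, hu⟩ := Ideal.mem_span_singleton.1 h1
      exact ⟨u, by rw [hu, mul_comm]⟩
    exact ⟨fun i => (this i).choose, fun i => (this i).choose_spec⟩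
  ext x
  change x ∈ CohB1.genLocus _ t ↔ x ∈ Divis.BlowChart2.chart b (∏ i, J i) U (∏ i, f i)
  by_cases hx : x ∈ b ⁻¹ᵁ U.1
  · obtain ⟨V, γ, hxV, hV, hγ⟩ := exists_affine_genOn (fun i => (J i).comap b) hJ x _ hx
    obtain ⟨u, hu⟩ := hdiv U _ f V hV γ hgc hf hγ
    have h1 := ht U (sec c U.1) f 1 V hV u γ hgc hf (by rw [one_smul]) hγ hu
    rw [mem_chart_iff b J U f V hV u γ hγ hu x hxV]
    have h2 : x ∈ CohB1.genLocus _ t ↔ x ∈ CohB1.genLocus _ t ⊓ V.1 := ⟨fun h => ⟨h, hxV⟩, fun h => h.1⟩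
    rw [h2, h1, X'.mem_basicOpen _ _ hxV, X'.mem_basicOpen _ _ hxV, map_one, map_one, one_pow, mul_one, map_prod,
      map_prod, IsUnit.prod_univ_iff, IsUnit.prod_univ_iff]
    refine forall_congr' fun i => ?_
    rw [map_pow, isUnit_pow_iff (ha i).ne']
  · refine iff_of_false (fun h => ?_) fun h => hx (Divis.BlowChart2.chart_le b _ U _ h)
    obtain ⟨U₀, e₀, hxU₀, he₀⟩ := (isInvertible_iff H).1 hH (b x)
    obtain ⟨U', hxU', hU'⟩ := exists_affine_mem_le U₀ (b x) hxU₀
    have he := he₀.res hU'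
    choose f' hf' using fun i => he.exists_eq (sec (l i) U'.1)
    obtain ⟨g', hg'⟩ := he.exists_eq (sec c U'.1)
    obtain ⟨V, γ, hxV, hV, hγ⟩ := exists_affine_genOn (fun i => (J i).comap b) hJ x (b ⁻¹ᵁ U'.1) hxU'
    obtain ⟨u, hu⟩ := hdiv U' _ f' V hV γ he hf' hγ
    have h1 := ht U' _ f' g' V hV u γ he hf' hg' hγ hu
    have h2 : x ∈ X'.basicOpen ((∏ i, u i ^ a i) * (ores hV (b.app U'.1 g')) ^ r) := by
      rw [← h1]
      exact ⟨h, hxV⟩
    rw [Scheme.basicOpen_mul, Scheme.basicOpen_pow _ _ hr] at h2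
    have h3 := h2.2
    have h4 : X'.basicOpen (ores hV (b.app U'.1 g')) = V.1 ⊓ b ⁻¹ᵁ (X.basicOpen g') := by
      rw [Scheme.preimage_basicOpen]
      exact Scheme.basicOpen_res X' _ (homOfLE hV).op
    rw [h4, ← genLocus_inf_eq c he hg', hU] at h3
    exact hx h3.2.1

end Chart

end K805.Ample
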