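import Groth.Agent.Fdesc.LocGenGlue
import Groth.Agent.Fdesc.QCohStalk
import Mathlib.Algebra.Polynomial.Eval.Defs
import Mathlib.RingTheory.Nakayama
import Mathlib.AlgebraicGeometry.IdealSheaf.Basic

/-!
# Two charts

`TC E Ω φ x y`: an open `Ω` of `B` covered by two affine opens `U`, `V` on which the ideal `E` is generated by the
functions `x`, resp. `y` coming from a ring `R`, with `y = x t` on `U`, `x = y s` on `V`, `U ∩ V = D(t) = D(s)`, and the
rings of `U`, `V` generated over `R` by `t`, `s`.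
* `TC.nilp`: `x ^ K` kills `Γ(U ∩ V, F) / (Γ(U, F) + Γ(V, F))` for `F` quasi-coherent with `Γ(V, F)` finite.
* `TC.split`: if `Γ(U ∩ V, F) = Γ(U, F) + Γ(V, F) + x Γ(U ∩ V, F)` then the last summand can be omitted.
-/

set_option autoImplicit false
universe u
open CategoryTheory CategoryTheory.Limits AlgebraicGeometry Opposite TopologicalSpace Polynomial

namespace K805.Chart

open Groth.Agent.Fdesc Groth.Agent.Fdesc.LocGen

variable {B : Scheme.{u}}

/-- Two-chart data. -/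
structure TC (E : B.IdealSheafData) (Ω : B.Opens) {R : Type u} [CommRing R] (φ : R →+* Γ(B, Ω)) (x y : R) where
  U : B.affineOpens
  V : B.affineOpens
  hU : U.1 ≤ Ω
  hV : V.1 ≤ Ω
  cov : U.1 ⊔ V.1 = Ω
  t : Γ(B, U.1)
  s : Γ(B, V.1)
  ht : ores hU (φ y) = ores hU (φ x) * t
  hs : ores hV (φ x) = ores hV (φ y) * s
  idU : E.ideal U = Ideal.span {ores hU (φ x)}
  idV : E.ideal V = Ideal.span {ores hV (φ y)}
  nzU : ores hU (φ x) ∈ nonZeroDivisors Γ(B, U.1)
  nzV : ores hV (φ y) ∈ nonZeroDivisors Γ(B, V.1)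
  nzt : t ∈ nonZeroDivisors Γ(B, U.1)
  nzs : s ∈ nonZeroDivisors Γ(B, V.1)
  infU : U.1 ⊓ V.1 = B.basicOpen t
  infV : U.1 ⊓ V.1 = B.basicOpen s
  genU : ∀ g : Γ(B, U.1), ∃ P : R[X], g = P.eval₂ ((ores hU).comp φ) t
  genV : ∀ g : Γ(B, V.1), ∃ P : R[X], g = P.eval₂ ((ores hV).comp φ) s

namespace TC

variable {E : B.IdealSheafData} {Ω : B.Opens} {R : Type u} [CommRing R] {φ : R →+* Γ(B, Ω)} {x y : R}

/-- Exchange of the two charts. -/
noncomputable def symm (D : TC E Ω φ x y) : TC E Ω φ y x where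
  U := D.V
  V := D.U
  hU := D.hV
  hV := D.hU
  cov := (sup_comm _ _).trans D.cov
  t := D.s
  s := D.t
  ht := D.hs
  hs := D.ht
  idU := D.idV
  idV := D.idU
  nzU := D.nzV
  nzV := D.nzU
  nzt := D.nzs
  nzs := D.nzt
  infU := (inf_comm _ _).trans D.infV
  infV := (inf_comm _ _).trans D.infU
  genU := D.genV
  genV := D.genU

variable (D : TC E Ω φ x y)

/-- The intersection of the charts. -/
abbrev W : B.Opens := D.U.1 ⊓ D.V.1

lemma WU : D.W ≤ D.U.1 := inf_le_left
lemma WV : D.W ≤ D.V.1 := inf_le_right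
lemma hW : D.W ≤ Ω := D.WU.trans D.hU

lemma isAffineOpen_W : IsAffineOpen D.W := by
  rw [W, D.infU]
  exact D.U.2.basicOpen _

/-- `t` on the intersection. -/
noncomputable def tW : Γ(B, D.W) := ores D.WU D.t
/-- `s` on the intersection. -/
noncomputable def sW : Γ(B, D.W) := ores D.WV D.s
/-- functions from `R` on the intersection. -/
noncomputable def psi : R →+* Γ(B, D.W) := (ores D.hW).comp φ

lemma psi_apply (r : R) : D.psi r = ores D.hW (φ r) := rfl

lemma ores_mem_nzd {A A' : B.Opens} (hA : IsAffineOpen A) (h : A' ≤ A) (f : Γ(B, A)) (hf : A' = B.basicOpen f)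
    {g : Γ(B, A)} (hg : g ∈ nonZeroDivisors Γ(B, A)) : ores h g ∈ nonZeroDivisors Γ(B, A') := by
  subst hf
  have h1 : IsLocalization.Away f Γ(B, B.basicOpen f) := hA.isLocalization_basicOpen f
  exact IsLocalization.map_nonZeroDivisors_le (Submonoid.powers f) Γ(B, B.basicOpen f) ⟨g, hg, rfl⟩

lemma psi_x_nzd : D.psi x ∈ nonZeroDivisors Γ(B, D.W) := by
  have := ores_mem_nzd D.U.2 D.WU D.t D.infU D.nzU
  rwa [ores_ores] at this

lemma psi_y_nzd : D.psi y ∈ nonZeroDivisors Γ(B, D.W) := by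
  have := ores_mem_nzd D.V.2 D.WV D.s D.infV D.nzV
  rwa [ores_ores] at this

lemma psi_y : D.psi y = D.psi x * D.tW := by
  have := congrArg (ores D.WU) D.ht
  rw [map_mul, ores_ores, ores_ores] at this
  exact this

lemma psi_x : D.psi x = D.psi y * D.sW := by
  have := congrArg (ores D.WV) D.hs
  rw [map_mul, ores_ores, ores_ores] at this
  exact this

lemma tW_mul_sW : D.tW * D.sW = 1 := by
  have h : D.psi x * (D.tW * D.sW) = D.psi x * 1 := by
    rw [← mul_assoc, ← D.psi_y, ← D.psi_x, mul_one]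
  exact (mul_cancel_left_mem_nonZeroDivisors D.psi_x_nzd).1 h

lemma sW_mul_tW : D.sW * D.tW = 1 := by rw [mul_comm, D.tW_mul_sW]

lemma exists_ores_of_eq {A A' : B.Opens} (hA : IsAffineOpen A) (h : A' ≤ A) (f : Γ(B, A)) (hf : A' = B.basicOpen f)
    (g : Γ(B, A')) : ∃ (n : ℕ) (a : Γ(B, A)), ores h a = ores h f ^ n * g := by
  subst hf
  have h1 : IsLocalization.Away f Γ(B, B.basicOpen f) := hA.isLocalization_basicOpen f
  obtain ⟨n, a, h⟩ := IsLocalization.Away.surj f g
  exact ⟨n, a, h.symm.trans (mul_comm _ _)⟩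

lemma exists_res_of_eq {F : B.Modules} (hF : Coh.IsQCoh F) {A A' : B.Opens} (hA : IsAffineOpen A) (h : A' ≤ A)
    (f : Γ(B, A)) (hf : A' = B.basicOpen f) (m : Γ(F, A')) :
    ∃ (n : ℕ) (a : Γ(F, A)), res F h a = ores h f ^ n • m := by
  subst hf
  exact QCohStalk.exists_map_eq_pow_smul F hA hF f m

lemma exists_kill_of_eq {F : B.Modules} (hF : Coh.IsQCoh F) {A A' : B.Opens} (hA : IsAffineOpen A) (h : A' ≤ A)
    (f : Γ(B, A)) (hf : A' = B.basicOpen f) (a : Γ(F, A)) (ha : res F h a = 0) :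
    ∃ n : ℕ, f ^ n • a = 0 := by
  subst hf
  exact QCohStalk.exists_pow_smul_eq_zero F hA hF f a ha

lemma tW_pow_mul_sW_pow (n : ℕ) : D.tW ^ n * D.sW ^ n = 1 := by rw [← mul_pow, D.tW_mul_sW, one_pow]
lemma sW_pow_mul_tW_pow (n : ℕ) : D.sW ^ n * D.tW ^ n = 1 := by rw [← mul_pow, D.sW_mul_tW, one_pow]

/-- The additive group generated by the monomials `r t ^ n`, `r s ^ n`. -/
def mon : AddSubgroup Γ(B, D.W) :=
  AddSubgroup.closure ({g | ∃ (r : R) (n : ℕ), g = D.psi r * D.tW ^ n} ∪ {g | ∃ (r : R) (n : ℕ), g = D.psi r * D.sW ^ n})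

lemma mul_sW_mem {g : Γ(B, D.W)} (hg : g ∈ D.mon) : D.sW * g ∈ D.mon := by
  unfold mon at hg ⊢
  induction hg using AddSubgroup.closure_induction with
  | mem g hg =>
    rcases hg with ⟨r, n, rfl⟩ | ⟨r, n, rfl⟩
    · cases n with
      | zero => exact AddSubgroup.subset_closure (Or.inr ⟨r, 1, by ring⟩)
      | succ n =>
        refine AddSubgroup.subset_closure (Or.inl ⟨r, n, ?_⟩)
        calc D.sW * (D.psi r * D.tW ^ (n + 1)) = (D.sW * D.tW) * (D.psi r * D.tW ^ n) := by ring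
          _ = _ := by rw [D.sW_mul_tW, one_mul]
    · exact AddSubgroup.subset_closure (Or.inr ⟨r, n + 1, by ring⟩)
  | zero => rw [mul_zero]; exact zero_mem _
  | add a b _ _ iha ihb => rw [mul_add]; exact add_mem iha ihb
  | neg a _ iha => rw [mul_neg]; exact neg_mem iha

lemma mon_eq_top : D.mon = ⊤ := by
  rw [eq_top_iff]
  intro g _
  obtain ⟨n, a, ha⟩ := exists_ores_of_eq D.U.2 D.WU D.t D.infU g
  obtain ⟨P, hP⟩ := D.genU a
  have h1 : ores D.WU a ∈ D.mon := by
    rw [hP, Polynomial.hom_eval₂, Polynomial.eval₂_eq_sum_range]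
    refine sum_mem fun i _ => AddSubgroup.subset_closure (Or.inl ⟨P.coeff i, i, ?_⟩)
    congr 1
    exact ores_ores D.hU D.WU _
  have h2 : ∀ k : ℕ, D.sW ^ k * ores D.WU a ∈ D.mon := by
    intro k
    induction k with
    | zero => rwa [pow_zero, one_mul]
    | succ k ih => rw [pow_succ', mul_assoc]; exact D.mul_sW_mem ih
  have h3 := h2 n
  rw [ha, ← mul_assoc] at h3
  have h4 : D.sW ^ n * ores D.WU D.t ^ n = 1 := D.sW_pow_mul_tW_pow n
  rwa [h4, one_mul] at h3

section Mod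

variable {F : B.Modules}

/-- Sums of sections over `U` and `V`. -/
noncomputable def sums (F : B.Modules) : AddSubgroup Γ(F, D.W) :=
  (res F D.WU).range ⊔ (res F D.WV).range

lemma mem_sums {z : Γ(F, D.W)} : z ∈ D.sums F ↔ ∃ (a : Γ(F, D.U.1)) (b : Γ(F, D.V.1)), z = res F D.WU a + res F D.WV b := by
  unfold sums
  rw [AddSubgroup.mem_sup]
  constructor
  · rintro ⟨_, ⟨a, rfl⟩, _, ⟨b, rfl⟩, rfl⟩; exact ⟨a, b, rfl⟩
  · rintro ⟨a, b, rfl⟩; exact ⟨_, ⟨a, rfl⟩, _, ⟨b, rfl⟩, rfl⟩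

lemma resU_mem (a : Γ(F, D.U.1)) : res F D.WU a ∈ D.sums F := AddSubgroup.mem_sup_left ⟨a, rfl⟩
lemma resV_mem (b : Γ(F, D.V.1)) : res F D.WV b ∈ D.sums F := AddSubgroup.mem_sup_right ⟨b, rfl⟩

lemma psi_smul_mem (r : R) {z : Γ(F, D.W)} (hz : z ∈ D.sums F) : D.psi r • z ∈ D.sums F := by
  obtain ⟨a, b, rfl⟩ := D.mem_sums.1 hz
  refine D.mem_sums.2 ⟨ores D.hU (φ r) • a, ores D.hV (φ r) • b, ?_⟩
  rw [res_smul, res_smul, ores_ores, ores_ores, smul_add]
  rfl

/-- Every section over the intersection is a combination of the restrictions of generators over `V`. -/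
lemma exists_sum (hF : Coh.IsQCoh F) {ι : Type*} [Fintype ι] (v : ι → Γ(F, D.V.1))
    (hv : Submodule.span Γ(B, D.V.1) (Set.range v) = ⊤) (z : Γ(F, D.W)) :
    ∃ c : ι → Γ(B, D.W), z = ∑ i, c i • res F D.WV (v i) := by
  obtain ⟨n, b, hb⟩ := exists_res_of_eq hF D.V.2 D.WV D.s D.infV z
  have h1 : b ∈ Submodule.span Γ(B, D.V.1) (Set.range v) := by rw [hv]; trivial
  obtain ⟨c, rfl⟩ := (Submodule.mem_span_range_iff_exists_fun _).1 h1
  refine ⟨fun i => D.tW ^ n * ores D.WV (c i), ?_⟩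
  have h2 : D.tW ^ n • (D.sW ^ n • z) = z := by rw [smul_smul, D.tW_pow_mul_sW_pow, one_smul]
  have h3 : D.sW ^ n • z = res F D.WV (∑ i, c i • v i) := hb.symm
  rw [← h2, h3, map_sum, Finset.smul_sum]
  refine Finset.sum_congr rfl fun i _ => ?_
  rw [res_smul, smul_smul]

/-- **Nilpotency.** -/
theorem nilp (hF : Coh.IsQCoh F) (hfin : Module.Finite Γ(B, D.V.1) Γ(F, D.V.1)) :
    ∃ K : ℕ, ∀ z : Γ(F, D.W), D.psi x ^ K • z ∈ D.sums F := by
  obtain ⟨q, v, hv⟩ := Module.Finite.exists_fin (R := Γ(B, D.V.1)) (M := Γ(F, D.V.1))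
  choose k m hm using fun j => exists_res_of_eq hF D.U.2 D.WU D.t D.infU (res F D.WV (v j))
  let K := Finset.univ.sup k
  have hK : ∀ j, k j ≤ K := fun j => Finset.le_sup (Finset.mem_univ j)
  refine ⟨K, fun z => ?_⟩
  have key : ∀ (j : Fin q) (c : Γ(B, D.W)), D.psi x ^ K • (c • res F D.WV (v j)) ∈ D.sums F := by
    intro j c
    have hc : c ∈ D.mon := by rw [D.mon_eq_top]; trivial
    unfold mon at hc
    induction hc using AddSubgroup.closure_induction with
    | mem g hg =>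
      rcases hg with ⟨r, n, rfl⟩ | ⟨r, n, rfl⟩
      · rw [smul_smul, mul_left_comm, mul_smul]
        refine D.psi_smul_mem r ?_
        by_cases h : k j ≤ n
        · have h1 : (D.psi x ^ K * D.tW ^ n) • res F D.WV (v j) =
              res F D.WU ((ores D.hU (φ x) ^ K * D.t ^ (n - k j)) • m j) := by
            rw [res_smul, hm j, map_mul, map_pow, map_pow, ores_ores, smul_smul]
            congr 1
            rw [mul_assoc, ← pow_add, Nat.sub_add_cancel h]
            rfl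
          rw [h1]
          exact D.resU_mem _
        · have hn : n ≤ K := (Nat.le_of_lt (Nat.lt_of_not_le h)).trans (hK j)
          have h1 : D.psi x ^ K * D.tW ^ n = ores D.WV (ores D.hV (φ x) ^ (K - n) * ores D.hV (φ y) ^ n) := by
            rw [map_mul, map_pow, map_pow, ores_ores, ores_ores]
            have h2 : D.psi x ^ K = D.psi x ^ (K - n) * D.psi x ^ n := by rw [← pow_add, Nat.sub_add_cancel hn]
            rw [h2, mul_assoc, ← mul_pow, ← D.psi_y]
            rfl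
          rw [h1, ← res_smul]
          exact D.resV_mem _
      · have h1 : (D.psi x ^ K * (D.psi r * D.sW ^ n)) =
            ores D.WV (ores D.hV (φ x) ^ K * (ores D.hV (φ r) * D.s ^ n)) := by
          rw [map_mul, map_pow, map_mul, map_pow, ores_ores, ores_ores]
          rfl
        rw [smul_smul, h1, ← res_smul]
        exact D.resV_mem _
    | zero => rw [zero_smul, smul_zero]; exact zero_mem _
    | add a b _ _ iha ihb => rw [add_smul, smul_add]; exact add_mem iha ihb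
    | neg a _ iha => rw [neg_smul, smul_neg]; exact neg_mem iha
  obtain ⟨c, rfl⟩ := D.exists_sum hF v hv z
  rw [Finset.smul_sum]
  exact sum_mem fun j _ => key j (c j)

/-- If `Γ(U ∩ V, F) = Γ(U, F) + Γ(V, F) + x Γ(U ∩ V, F)` then the last summand can be omitted. -/
theorem split (hF : Coh.IsQCoh F) (hfin : Module.Finite Γ(B, D.V.1) Γ(F, D.V.1))
    (h : ∀ z : Γ(F, D.W), ∃ w : Γ(F, D.W), z - D.psi x • w ∈ D.sums F) (z : Γ(F, D.W)) : z ∈ D.sums F := by
  obtain ⟨K, hK⟩ := D.nilp hF hfin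
  have key : ∀ n : ℕ, ∀ z : Γ(F, D.W), ∃ w : Γ(F, D.W), z - D.psi x ^ n • w ∈ D.sums F := by
    intro n
    induction n with
    | zero => exact fun z => ⟨z, by rw [pow_zero, one_smul, sub_self]; exact zero_mem _⟩
    | succ n ih =>
      intro z
      obtain ⟨w, hw⟩ := ih z
      obtain ⟨w', hw'⟩ := h w
      refine ⟨w', ?_⟩
      have h1 := D.psi_smul_mem (x ^ n) hw'
      rw [map_pow] at h1
      have h2 := add_mem hw h1
      convert h2 using 1
      rw [smul_sub, smul_smul, ← pow_succ]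
      abel
  obtain ⟨w, hw⟩ := key K z
  have := add_mem hw (hK w)
  rwa [sub_add_cancel] at this

/-- Gluing. -/
lemma glue (a : Γ(F, D.U.1)) (b : Γ(F, D.V.1)) (h : res F D.WU a = res F D.WV b) :
    ∃ c : Γ(F, Ω), res F D.hU c = a ∧ res F D.hV c = b := by
  have hc : Ω ≤ ⨆ i : Bool, (bif i then D.U.1 else D.V.1) := by
    refine D.cov.ge.trans ?_
    exact sup_le (le_iSup (fun i : Bool => (bif i then D.U.1 else D.V.1)) true)
      (le_iSup (fun i : Bool => (bif i then D.U.1 else D.V.1)) false)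
  let sec : ∀ i : Bool, Γ(F, (bif i then D.U.1 else D.V.1 : B.Opens)) := fun i =>
    match i with
    | true => a
    | false => b
  obtain ⟨c, hc⟩ := res_glue F (fun i : Bool => (bif i then D.U.1 else D.V.1)) (V := Ω)
    (fun i => match i with
      | true => D.hU
      | false => D.hV) hc sec (by
      rintro (_ | _) (_ | _)
      · rfl
      · have h2 := congrArg (res F (show D.V.1 ⊓ D.U.1 ≤ D.U.1 ⊓ D.V.1 from (inf_comm _ _).le)) h
        rw [res_res, res_res] at h2
        exact h2.symm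
      · exact h
      · rfl)
  exact ⟨c, hc true, hc false⟩

lemma ext_of_res {c c' : Γ(F, Ω)} (hU : res F D.hU c = res F D.hU c') (hV : res F D.hV c = res F D.hV c') : c = c' := by
  refine res_ext F (fun i : Bool => (bif i then D.U.1 else D.V.1)) (V := Ω)
    (fun i => match i with
      | true => D.hU
      | false => D.hV) ?_ ?_
  · refine D.cov.ge.trans ?_
    exact sup_le (le_iSup (fun i : Bool => (bif i then D.U.1 else D.V.1)) true)
      (le_iSup (fun i : Bool => (bif i then D.U.1 else D.V.1)) false)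
  · rintro (_ | _)
    · exact hV
    · exact hU

/-- Lifting of sections from the exceptional divisor. -/
theorem lift (hs : ∀ z : Γ(F, D.W), z ∈ D.sums F) (a : Γ(F, D.U.1)) (b : Γ(F, D.V.1)) (z : Γ(F, D.W))
    (h : res F D.WU a - res F D.WV b = D.psi x • z) :
    ∃ (c : Γ(F, Ω)) (a' : Γ(F, D.U.1)) (b' : Γ(F, D.V.1)), res F D.hU c = a - ores D.hU (φ x) • a' ∧
      res F D.hV c = b - ores D.hV (φ y) • b' := by
  obtain ⟨a', b', rfl⟩ := D.mem_sums.1 (hs z)
  obtain ⟨c, hc1, hc2⟩ := D.glue (a - ores D.hU (φ x) • a') (b + ores D.hV (φ y) • (D.s • b')) (by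
    rw [map_sub, map_add, res_smul, res_smul, res_smul, ores_ores, ores_ores, smul_smul]
    have h1 : ores (D.WV.trans D.hV) (φ y) * ores D.WV D.s = D.psi x := D.psi_x.symm
    rw [h1]
    rw [smul_add] at h
    have h2 : ores (D.WU.trans D.hU) (φ x) = D.psi x := rfl
    rw [h2, sub_eq_iff_eq_add, ← sub_eq_iff_eq_add'.2 (sub_eq_iff_eq_add.1 h)]
    abel)
  refine ⟨c, a', -(D.s • b'), hc1, ?_⟩
  rw [hc2, smul_neg, sub_neg_eq_add]

/-- Sections over `U` extend to `Ω` after multiplication by a power of `x`. -/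
lemma exists_pow_smul_extend (hF : Coh.IsQCoh F) (m : Γ(F, D.U.1)) :
    ∃ (k : ℕ) (c : Γ(F, Ω)), res F D.hU c = ores D.hU (φ x) ^ k • m := by
  obtain ⟨k, b, hb⟩ := exists_res_of_eq hF D.V.2 D.WV D.s D.infV (res F D.WU m)
  obtain ⟨c, hc, -⟩ := D.glue (ores D.hU (φ x) ^ k • m) (ores D.hV (φ y) ^ k • b) (by
    rw [res_smul, res_smul, hb, map_pow, map_pow, ores_ores, ores_ores, smul_smul]
    have h1 : ores (D.WV.trans D.hV) (φ y) ^ k * ores D.WV D.s ^ k = D.psi x ^ k := by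
      rw [← mul_pow]
      congr 1
      exact D.psi_x.symm
    rw [h1]
    rfl)
  exact ⟨k, c, hc⟩

/-- Sections over `Ω` generate over `U` as soon as they do so modulo `x`. -/
theorem span_res_eq_top (hF : Coh.IsQCoh F) (hfin : Module.Finite Γ(B, D.U.1) Γ(F, D.U.1))
    (h : ∀ m : Γ(F, D.U.1), ∃ m' : Γ(F, D.U.1), m - ores D.hU (φ x) • m' ∈
      Submodule.span Γ(B, D.U.1) (Set.range (res F D.hU))) :
    Submodule.span Γ(B, D.U.1) (Set.range (res F D.hU)) = ⊤ := by
  set N := Submodule.span Γ(B, D.U.1) (Set.range (res F D.hU)) with hN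
  have h1 : (⊤ : Submodule Γ(B, D.U.1) Γ(F, D.U.1)) ≤ N ⊔ Ideal.span {ores D.hU (φ x)} • ⊤ := by
    intro m _
    obtain ⟨m', hm'⟩ := h m
    rw [← sub_add_cancel m (ores D.hU (φ x) • m')]
    exact add_mem (Submodule.mem_sup_left hm')
      (Submodule.mem_sup_right (Submodule.smul_mem_smul (Ideal.mem_span_singleton_self _) trivial))
  obtain ⟨r, hr, hr'⟩ := Submodule.exists_sub_one_mem_and_smul_le_of_fg_of_le_sup hfin.1 le_top h1
  rw [eq_top_iff]
  intro m _
  obtain ⟨k, c, hc⟩ := D.exists_pow_smul_extend hF m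
  obtain ⟨g, hg⟩ := Ideal.mem_span_singleton'.1 hr
  have h2 : IsCoprime r (ores D.hU (φ x)) := ⟨1, -g, by rw [one_mul, neg_mul, hg]; ring⟩
  obtain ⟨u, v, huv⟩ := h2.pow_right (n := k)
  have h3 : m = u • (r • m) + v • (ores D.hU (φ x) ^ k • m) := by
    rw [smul_smul, smul_smul, ← add_smul, huv, one_smul]
  rw [h3]
  refine add_mem (N.smul_mem _ (hr' (Submodule.smul_mem_pointwise_smul m r ⊤ trivial))) (N.smul_mem _ ?_)
  rw [← hc]
  exact Submodule.subset_span ⟨c, rfl⟩

/-- Torsion-freeness along the two charts. -/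
structure TF (F : B.Modules) : Prop where
  rx : ∀ m : Γ(F, D.U.1), ores D.hU (φ x) • m = 0 → m = 0
  ry : ∀ m : Γ(F, D.V.1), ores D.hV (φ y) • m = 0 → m = 0
  rs : ∀ m : Γ(F, D.V.1), D.s • m = 0 → m = 0
  rw : ∀ m : Γ(F, D.W), D.psi x • m = 0 → m = 0

variable {D} in
lemma TF.wy (h : D.TF F) (m : Γ(F, D.W)) (hm : D.psi y • m = 0) : m = 0 := by
  apply h.rw
  rw [D.psi_x, mul_comm, mul_smul, hm, smul_zero]

variable {D} in
/-- `x` is regular on `Γ(Ω, F)`. -/
theorem TF.x_regular (h : D.TF F) (m : Γ(F, Ω)) (hm : φ x • m = 0) : m = 0 := by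
  refine D.ext_of_res ?_ ?_
  · rw [map_zero]
    apply h.rx
    rw [← res_smul, hm, map_zero]
  · rw [map_zero]
    apply h.rs
    apply h.ry
    rw [smul_smul, ← D.hs, ← res_smul, hm, map_zero]

variable {D} in
/-- `y` is regular on `Γ(Ω, F) / x`, if `F` has no sections on the exceptional divisor after twisting by `-1`. -/
theorem TF.y_regular (h : D.TF F) (h0 : ∀ (a : Γ(F, D.U.1)) (b : Γ(F, D.V.1)),
    D.tW • res F D.WU a = res F D.WV b →
      (∃ a', a = ores D.hU (φ x) • a') ∧ ∃ b', b = ores D.hV (φ y) • b')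
    (m m' : Γ(F, Ω)) (hm : φ y • m = φ x • m') : ∃ m'', m = φ x • m'' := by
  have h1 : D.tW • res F D.WU (res F D.hU m) = res F D.WV (res F D.hV m') := by
    rw [res_res, res_res]
    rw [← sub_eq_zero]
    apply h.rw
    have h2 := congrArg (res F D.hW) hm
    rw [res_smul, res_smul] at h2
    have h3 : D.psi x • (D.tW • res F D.hW m) = D.psi x • res F D.hW m' := by
      rw [smul_smul, ← D.psi_y]
      exact h2
    rw [smul_sub, sub_eq_zero]
    exact h3
  obtain ⟨⟨a', ha'⟩, ⟨b', hb'⟩⟩ := h0 _ _ h1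
  obtain ⟨c, hc1, hc2⟩ := D.glue a' b' (by
    rw [← sub_eq_zero]
    apply h.wy
    rw [smul_sub, sub_eq_zero]
    rw [ha', hb', res_smul, res_smul, ores_ores, ores_ores, smul_smul] at h1
    have h2 : D.tW * ores (D.WU.trans D.hU) (φ x) = D.psi y := by
      rw [mul_comm]; exact D.psi_y.symm
    rw [h2] at h1
    exact h1)
  refine ⟨c, D.ext_of_res ?_ ?_⟩
  · rw [res_smul, hc1, ha']
  · rw [res_smul, hc2, ← sub_eq_zero]
    apply h.ry
    rw [smul_sub, sub_eq_zero, ← res_smul, hm, res_smul, hb', smul_smul, smul_smul, mul_comm]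

end Mod

end TC

end K805.Chart
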