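import Groth.Agent.SurfBl.K805.Frame
import Groth.Agent.SurfBl.K805.EndSh

/-!
# The dimension of `H¹` of the multiples of the exceptional divisor, in the charts

`Γ(U ∩ V, O) / (Γ(U, O) + s ^ n Γ(V, O))` has dimension `n choose 2`.
-/

set_option autoImplicit false
universe u v
open CategoryTheory CategoryTheory.Limits AlgebraicGeometry Opposite TopologicalSpace Polynomial

namespace K805.ChartH1

open Groth.Agent Groth.Agent.Fdesc.LocGen K805.Chart K805.Laurent K805.Gen K805.LF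

variable {B : Scheme.{u}} {E : B.IdealSheafData} {Ω : B.Opens} {R : Type u} [CommRing R] {φ : R →+* Γ(B, Ω)} {x y : R}
  (D : TC E Ω φ x y) {k : Type v} [Field k] (α : k →+* R) [Module k Γ(B, D.W)]
  (hmod : ∀ (c : k) (z : Γ(B, D.W)), c • z = D.psi (α c) * z)

/-- `Γ(U, O) + s ^ n Γ(V, O)`. -/
def N (n : ℕ) : Submodule k Γ(B, D.W) where
  carrier := {z | ∃ (a : Γ(B, D.U.1)) (b : Γ(B, D.V.1)), z = ores D.WU a + D.sW ^ n * ores D.WV b}
  zero_mem' := ⟨0, 0, by simp⟩
  add_mem' := by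
    rintro _ _ ⟨a, b, rfl⟩ ⟨a', b', rfl⟩
    exact ⟨a + a', b + b', by rw [map_add, map_add]; ring⟩
  smul_mem' := by
    rintro c _ ⟨a, b, rfl⟩
    refine ⟨ores D.hU (φ (α c)) * a, ores D.hV (φ (α c)) * b, ?_⟩
    rw [hmod, map_mul, map_mul, ores_ores, ores_ores]
    change D.psi (α c) * _ = D.psi (α c) * _ + _ * (D.psi (α c) * _)
    ring

theorem mem_N (n : ℕ) (z : Γ(B, D.W)) : z ∈ N D α hmod n ↔
    ∃ (a : Γ(B, D.U.1)) (b : Γ(B, D.V.1)), z = ores D.WU a + D.sW ^ n * ores D.WV b := Iff.rfl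

/-- Multiplication by a function. -/
def mulL (g : Γ(B, D.W)) : Γ(B, D.W) →ₗ[k] Γ(B, D.W) where
  toFun z := g * z
  map_add' := mul_add g
  map_smul' c z := by
    simp only [hmod, RingHom.id_apply]
    ring

theorem N_zero (z : Γ(B, D.W)) : z ∈ N D α hmod 0 := by
  obtain ⟨a, b, rfl⟩ := EndSh.exists_add_fun D z
  exact ⟨a, b, by rw [pow_zero, one_mul]⟩

theorem mul_mem (n : ℕ) {z : Γ(B, D.W)} (hz : z ∈ N D α hmod n) : D.psi x * z ∈ N D α hmod (n + 1) := by
  obtain ⟨a, b, rfl⟩ := hz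
  refine ⟨ores D.hU (φ x) * a, ores D.hV (φ y) * b, ?_⟩
  rw [map_mul, map_mul, ores_ores, ores_ores]
  change D.psi x * _ = D.psi x * _ + D.sW ^ (n + 1) * (D.psi y * _)
  rw [D.psi_y]
  linear_combination (-(D.sW ^ n * D.psi x * ores D.WV b)) * D.tW_mul_sW

variable {D} in
theorem mem_of_mul_mem (hi : InjU D) (h : RP x y) (n : ℕ) {z : Γ(B, D.W)} (hz : D.psi x * z ∈ N D α hmod (n + 1)) :
    z ∈ N D α hmod n := by
  obtain ⟨a, b, hab⟩ := hz
  obtain ⟨⟨a', ha'⟩, c, hc⟩ := laurent hi h (show 0 < n + 1 from n.succ_pos) a (-b) (D.tW ^ (n + 1) * z) (by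
    rw [map_neg]
    linear_combination (-(D.tW ^ (n + 1))) * hab - ores D.WV b * D.tW_pow_mul_sW_pow (n + 1))
  refine ⟨a', -c, ?_⟩
  have h1 : D.psi x * (z - (ores D.WU a' + D.sW ^ n * ores D.WV (-c))) = 0 := by
    have h2 := congrArg (ores D.WU) ha'
    have h3 := congrArg (ores D.WV) hc
    rw [map_mul, ores_ores] at h2 h3
    rw [map_neg] at h3
    have h4 : ores (D.WU.trans D.hU) (φ x) = D.psi x := rfl
    have h5 : ores (D.WV.trans D.hV) (φ y) = D.psi x * D.tW := D.psi_y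
    rw [h4] at h2
    rw [h5] at h3
    rw [map_neg]
    linear_combination hab + h2 - (D.sW ^ (n + 1)) * h3 - (D.psi x * D.sW ^ n * ores D.WV c) * D.tW_mul_sW
  exact sub_eq_zero.1 ((mul_left_mem_nonZeroDivisors_eq_zero_iff D.psi_x_nzd).1 h1)

/-- The map `Q_n × k ^ n ⟶ Q_{n+1}`. -/
noncomputable def Psi (n : ℕ) : ((Γ(B, D.W) ⧸ N D α hmod n) × (Fin n → k)) →ₗ[k] (Γ(B, D.W) ⧸ N D α hmod (n + 1)) :=
  LinearMap.coprod (Submodule.mapQ (N D α hmod n) (N D α hmod (n + 1)) (mulL D α hmod (D.psi x))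
      (fun _ hz => mul_mem D α hmod n hz))
    (LinearMap.lsum k (fun _ : Fin n => k) k fun j =>
      LinearMap.toSpanSingleton k _ (Submodule.Quotient.mk (D.sW ^ (j.1 + 1))))

theorem Psi_apply (n : ℕ) (q : Γ(B, D.W)) (c : Fin n → k) :
    Psi D α hmod n (Submodule.Quotient.mk q, c) =
      Submodule.Quotient.mk (D.psi x * q + ∑ j, D.psi (α (c j)) * D.sW ^ (j.1 + 1)) := by
  have h1 : Psi D α hmod n (Submodule.Quotient.mk q, c) =
      Submodule.Quotient.mk (D.psi x * q) + ∑ j, c j • Submodule.Quotient.mk (D.sW ^ (j.1 + 1)) := by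
    simp [Psi, LinearMap.lsum_apply, mulL]
  rw [h1, Submodule.Quotient.mk_add]
  congr 1
  have h2 : (∑ j, D.psi (α (c j)) * D.sW ^ (j.1 + 1)) = ∑ j, c j • D.sW ^ (j.1 + 1) := by
    simp only [hmod]
  rw [h2]
  simp only [← Submodule.mkQ_apply, map_sum, map_smul]

theorem surjective_Psi (hα : Function.Surjective ((Ideal.Quotient.mk (Ideal.span {x, y})).comp α)) (n : ℕ) :
    Function.Surjective (Psi D α hmod n) := by
  have key : ∀ z ∈ D.mon, ∃ (q : Γ(B, D.W)) (c : Fin n → k) (w : Γ(B, D.W)), w ∈ N D α hmod (n + 1) ∧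
      z = D.psi x * q + ∑ j, D.psi (α (c j)) * D.sW ^ (j.1 + 1) + w := by
    intro z hz
    unfold TC.mon at hz
    induction hz using AddSubgroup.closure_induction with
    | mem z hz =>
      rcases hz with ⟨r, i, rfl⟩ | ⟨r, i, rfl⟩
      · refine ⟨0, 0, _, ⟨ores D.hU (φ r) * D.t ^ i, 0, rfl⟩, ?_⟩
        rw [map_mul, map_pow, ores_ores, map_zero, mul_zero, mul_zero, add_zero, zero_add]
        simp only [Pi.zero_apply, map_zero, zero_mul, Finset.sum_const_zero, zero_add]
        rfl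
      · obtain ⟨c, hc⟩ := hα (Ideal.Quotient.mk _ r)
        rw [RingHom.comp_apply, Ideal.Quotient.eq] at hc
        obtain ⟨κ, hκ⟩ := Frame.exists_psi_eq D hc
        rw [map_sub] at hκ
        by_cases hi0 : i = 0
        · subst hi0
          refine ⟨0, 0, _, ⟨ores D.hU (φ r), 0, rfl⟩, ?_⟩
          rw [ores_ores, map_zero, mul_zero, mul_zero, add_zero, zero_add, pow_zero, mul_one]
          simp only [Pi.zero_apply, map_zero, zero_mul, Finset.sum_const_zero, zero_add]
          rfl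
        by_cases hi : i ≤ n
        · let j₀ : Fin n := ⟨i - 1, by omega⟩
          refine ⟨-(κ * D.sW ^ i), Pi.single j₀ c, 0, zero_mem _, ?_⟩
          rw [Finset.sum_eq_single j₀]
          · rw [Pi.single_eq_same, add_zero]
            have : j₀.1 + 1 = i := by simp only [j₀]; omega
            rw [this]
            linear_combination (-(D.sW ^ i)) * hκ
          · intro j _ hj
            rw [Pi.single_eq_of_ne hj, map_zero, map_zero, zero_mul]
          · simp
        · obtain ⟨e, rfl⟩ : ∃ e, i = n + 1 + e := ⟨i - (n + 1), by omega⟩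
          refine ⟨0, 0, _, ⟨0, ores D.hV (φ r) * D.s ^ e, rfl⟩, ?_⟩
          rw [map_mul, map_pow, ores_ores, map_zero, mul_zero, zero_add, zero_add]
          simp only [Pi.zero_apply, map_zero, zero_mul, Finset.sum_const_zero, zero_add]
          change D.psi r * D.sW ^ (n + 1 + e) = D.sW ^ (n + 1) * (D.psi r * D.sW ^ e)
          rw [pow_add]
          ring
    | zero => exact ⟨0, 0, 0, zero_mem _, by simp⟩
    | add a b _ _ iha ihb =>
      obtain ⟨q, c, w, hw, h1⟩ := iha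
      obtain ⟨q', c', w', hw', h2⟩ := ihb
      refine ⟨q + q', c + c', w + w', add_mem hw hw', ?_⟩
      have h3 : (∑ j, D.psi (α ((c + c') j)) * D.sW ^ (j.1 + 1)) = (∑ j, D.psi (α (c j)) * D.sW ^ (j.1 + 1)) +
          ∑ j, D.psi (α (c' j)) * D.sW ^ (j.1 + 1) := by
        rw [← Finset.sum_add_distrib]
        exact Finset.sum_congr rfl fun j _ => by rw [Pi.add_apply, map_add, map_add, add_mul]
      rw [h3, h1, h2]
      ring
    | neg a _ iha =>
      obtain ⟨q, c, w, hw, h1⟩ := iha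
      refine ⟨-q, -c, -w, neg_mem hw, ?_⟩
      have h3 : (∑ j, D.psi (α ((-c) j)) * D.sW ^ (j.1 + 1)) = -(∑ j, D.psi (α (c j)) * D.sW ^ (j.1 + 1)) := by
        rw [← Finset.sum_neg_distrib]
        exact Finset.sum_congr rfl fun j _ => by rw [Pi.neg_apply, map_neg, map_neg, neg_mul]
      rw [h3, h1]
      ring
  intro z
  obtain ⟨z, rfl⟩ := Submodule.Quotient.mk_surjective _ z
  obtain ⟨q, c, w, hw, h1⟩ := key z (by rw [D.mon_eq_top]; trivial)
  refine ⟨(Submodule.Quotient.mk q, c), ?_⟩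
  rw [Psi_apply, Submodule.Quotient.eq]
  have h2 : D.psi x * q + ∑ j, D.psi (α (c j)) * D.sW ^ (j.1 + 1) - z = -w := by rw [h1]; ring
  rw [h2]
  exact neg_mem hw

variable {D} in
theorem injective_Psi (hi : InjU D) (h : RP x y)
    (hα : Function.Injective ((Ideal.Quotient.mk (Ideal.span {x, y})).comp α)) (n : ℕ) :
    Function.Injective (Psi D α hmod n) := by
  rw [injective_iff_map_eq_zero]
  rintro ⟨q, c⟩ hqc
  obtain ⟨q, rfl⟩ := Submodule.Quotient.mk_surjective _ q
  rw [Psi_apply, Submodule.Quotient.mk_eq_zero] at hqc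
  -- the coefficients vanish
  have hc : c = 0 := by
    obtain ⟨a, b, hab⟩ := hqc
    obtain ⟨P, hP⟩ := D.genU a
    let P₀ : R[X] := ∑ j : Fin n, C (α (c j)) * X ^ (n - 1 - j.1)
    have h1 : ores D.WU ((P₀ - X ^ n * P).eval₂ ((ores D.hU).comp φ) D.t) =
        (∑ j : Fin n, D.psi (α (c j)) * D.tW ^ (n - 1 - j.1)) - D.tW ^ n * ores D.WU a := by
      rw [eval₂_sub, map_sub, eval₂_mul, eval₂_X_pow, map_mul, map_pow, ← hP, eval₂_finsetSum, map_sum]
      congr 1
      refine Finset.sum_congr rfl fun j _ => ?_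
      rw [eval₂_mul, eval₂_C, eval₂_X_pow, map_mul, map_pow, RingHom.comp_apply, ores_ores]
      rfl
    have h2 : D.tW ^ 1 * ores D.WU ((P₀ - X ^ n * P).eval₂ ((ores D.hU).comp φ) D.t) - ores D.WV b =
        D.psi x * (-(D.tW ^ (n + 1) * q)) := by
      have h3 : D.tW ^ (n + 1) * (∑ j : Fin n, D.psi (α (c j)) * D.sW ^ (j.1 + 1)) =
          D.tW * ∑ j : Fin n, D.psi (α (c j)) * D.tW ^ (n - 1 - j.1) := by
        rw [Finset.mul_sum, Finset.mul_sum]
        refine Finset.sum_congr rfl fun j _ => ?_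
        have h4 : n + 1 = (j.1 + 1) + 1 + (n - 1 - j.1) := by have := j.2; omega
        have h5 : D.tW ^ (n + 1) = D.tW ^ (j.1 + 1) * D.tW * D.tW ^ (n - 1 - j.1) := by
          conv_lhs => rw [h4]
          ring
        rw [h5]
        linear_combination (D.tW * D.tW ^ (n - 1 - j.1) * D.psi (α (c j))) * D.tW_pow_mul_sW_pow (j.1 + 1)
      rw [h1]
      linear_combination (-1 : Γ(B, D.W)) * h3 + (D.tW ^ (n + 1)) * hab + ores D.WV b * D.tW_pow_mul_sW_pow (n + 1)
    obtain ⟨⟨A', hA'⟩, -⟩ := laurent hi h Nat.one_pos _ _ _ h2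
    have h4 := h.coeff_mem (φ := (ores D.hU).comp φ) (t := D.t) D.ht hi D.genU _ _ hA'
    funext j
    have h5 := h4 (n - 1 - j.1)
    have hj := j.2
    rw [coeff_sub, coeff_X_pow_mul', if_neg (by omega), sub_zero, finsetSum_coeff, Finset.sum_eq_single j] at h5
    · rw [coeff_C_mul, coeff_X_pow, if_pos rfl, mul_one, ← Ideal.Quotient.eq_zero_iff_mem] at h5
      rw [Pi.zero_apply]
      exact (injective_iff_map_eq_zero _).1 hα _ h5
    · intro l _ hl
      rw [coeff_C_mul, coeff_X_pow, if_neg (by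
        intro h6
        apply hl
        ext
        have := l.2
        omega), mul_zero]
    · simp
  subst hc
  simp only [Pi.zero_apply, map_zero, zero_mul, Finset.sum_const_zero, add_zero] at hqc
  have h1 := mem_of_mul_mem α hmod hi h n hqc
  rw [Prod.mk_eq_zero]
  exact ⟨(Submodule.Quotient.mk_eq_zero _).2 h1, rfl⟩

variable {D} in
/-- **The dimension.** -/
theorem finrank_quot (hi : InjU D) (h : RP x y)
    (hα : Function.Bijective ((Ideal.Quotient.mk (Ideal.span {x, y})).comp α)) (n : ℕ) :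
    Module.Finite k (Γ(B, D.W) ⧸ N D α hmod n) ∧ Module.finrank k (Γ(B, D.W) ⧸ N D α hmod n) = n.choose 2 := by
  induction n with
  | zero =>
    have h1 : Subsingleton (Γ(B, D.W) ⧸ N D α hmod 0) := by
      refine subsingleton_of_forall_eq 0 fun z => ?_
      obtain ⟨z, rfl⟩ := Submodule.Quotient.mk_surjective _ z
      exact (Submodule.Quotient.mk_eq_zero _).2 (N_zero D α hmod z)
    exact ⟨inferInstance, Module.finrank_zero_of_subsingleton⟩
  | succ n ih =>
    obtain ⟨h1, h2⟩ := ih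
    let e := LinearEquiv.ofBijective (Psi D α hmod n) ⟨injective_Psi α hmod hi h hα.1 n, surjective_Psi D α hmod hα.2 n⟩
    refine ⟨Module.Finite.equiv e, ?_⟩
    rw [← e.finrank_eq, Module.finrank_prod, h2, Module.finrank_fin_fun, Nat.choose_succ_succ' n 1, Nat.choose_one_right,
      add_comm]

end K805.ChartH1
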