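import Groth.Agent.SurfBl.K805.Chart
import Groth.Agent.Krr.H470.ChartInf

/-!
# The two-chart data of a blow-up in an ideal with two generators
-/

set_option autoImplicit false
universe u
open CategoryTheory CategoryTheory.Limits AlgebraicGeometry Opposite TopologicalSpace Polynomial BlowUp

namespace K805.ChartOf

open Groth.Agent.Fdesc.LocGen K805.Chart Groth.Agent.Divis.BlowChart2 Groth.Agent.Krr.H470.ChartInf

variable {X X' : Scheme.{u}} (b : X' ⟶ X) (J : X.IdealSheafData) (U : X.affineOpens)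

/-- functions on `U` as functions on `b ⁻¹ U`. -/
noncomputable abbrev phi : Γ(X, U.1) →+* Γ(X', b ⁻¹ᵁ U.1) := (b.app U.1).hom

lemma ores_phi {W : X'.Opens} (h : W ≤ b ⁻¹ᵁ U.1) (a : Γ(X, U.1)) : ores h (phi b U a) = pb b U W h a := rfl

variable {b J U}

lemma appLE_injective (hb : IsBlowUp b J) {a : Γ(X, U.1)} (ha : a ∈ J.ideal U) (ha0 : a ∈ nonZeroDivisors Γ(X, U.1)) :
    Function.Injective (pb b U (chart b J U a) (chart_le b J U a)) := by
  obtain ⟨θ, hθ⟩ := exists_ringEquiv_chart b J U hb ha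
  rw [injective_iff_map_eq_zero]
  intro c hc
  rw [← hθ, map_eq_zero_iff _ θ.injective] at hc
  have h1 := congrArg Subtype.val hc
  have h2 : algebraMap Γ(X, U.1) (Localization.Away a) c = 0 := h1
  have h3 := IsLocalization.injective (Localization.Away a) (M := Submonoid.powers a)
    (by rw [Submonoid.powers_le]; exact ha0)
  exact h3 (h2.trans (map_zero _).symm)

lemma pb_mem_nonZeroDivisors (hb : IsBlowUp b J) {a c : Γ(X, U.1)} (ha : a ∈ J.ideal U)
    (ha0 : a ∈ nonZeroDivisors Γ(X, U.1)) (hc0 : c ∈ nonZeroDivisors Γ(X, U.1)) :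
    pb b U (chart b J U a) (chart_le b J U a) c ∈ nonZeroDivisors Γ(X', chart b J U a) := by
  rw [mem_nonZeroDivisors_iff_right]
  intro g hg
  obtain ⟨n, m, -, h⟩ := exists_pow_mul_eq_appLE b J U hb ha g
  have h1 : pb b U (chart b J U a) (chart_le b J U a) (m * c) = 0 := by
    rw [map_mul]
    refine (congrArg (· * pb b U (chart b J U a) (chart_le b J U a) c) h.symm).trans ?_
    rw [mul_assoc, hg, mul_zero]
  have h2 : m * c = 0 := appLE_injective hb ha ha0 (h1.trans (map_zero _).symm)
  have h3 : m = 0 := (mul_right_mem_nonZeroDivisors_eq_zero_iff hc0).1 h2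
  rw [h3, map_zero] at h
  have h4 : pb b U (chart b J U a) (chart_le b J U a) a ^ n ∈ nonZeroDivisors _ :=
    pow_mem (appLE_chart_mem_nonZeroDivisors b J U hb ha) n
  exact (mul_left_mem_nonZeroDivisors_eq_zero_iff h4).1 h

lemma exists_poly {R A : Type*} [CommRing R] [CommRing A] (φ : R →+* A) {x y : R} {t : A} (ht : φ y = φ x * t) (n : ℕ) :
    ∀ m ∈ (Ideal.span {x, y} : Ideal R) ^ n, ∃ P : R[X], φ m = φ x ^ n * P.eval₂ φ t := by
  induction n with
  | zero => exact fun m _ => ⟨C m, by simp⟩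
  | succ n ih =>
    intro m hm
    rw [pow_succ] at hm
    induction hm using Submodule.mul_induction_on' with
    | mem_mul_mem a ha c hc =>
      obtain ⟨P, hP⟩ := ih a ha
      obtain ⟨r, r', rfl⟩ := Ideal.mem_span_pair.1 hc
      refine ⟨P * (C r + C r' * X), ?_⟩
      rw [map_mul, map_add, map_mul, map_mul, hP, ht]
      simp only [eval₂_mul, eval₂_add, eval₂_C, eval₂_X]
      ring
    | add a _ c _ iha ihc =>
      obtain ⟨P, hP⟩ := iha
      obtain ⟨Q, hQ⟩ := ihc
      exact ⟨P + Q, by rw [map_add, hP, hQ, eval₂_add, mul_add]⟩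

lemma exists_poly_chart (hb : IsBlowUp b J) {x y : Γ(X, U.1)} (hJ : J.ideal U = Ideal.span {x, y})
    (t : Γ(X', chart b J U x)) (ht : ores (chart_le b J U x) (phi b U y) = ores (chart_le b J U x) (phi b U x) * t)
    (g : Γ(X', chart b J U x)) : ∃ P : (Γ(X, U.1) : Type u)[X], g = P.eval₂ ((ores (chart_le b J U x)).comp (phi b U)) t := by
  have hx : x ∈ J.ideal U := by rw [hJ]; exact Ideal.subset_span (by simp)
  obtain ⟨n, m, hm, h⟩ := exists_pow_mul_eq_appLE b J U hb hx g
  rw [hJ] at hm
  obtain ⟨P, hP⟩ := exists_poly ((ores (chart_le b J U x)).comp (phi b U)) ht n m hm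
  refine ⟨P, ?_⟩
  have h4 : pb b U (chart b J U x) (chart_le b J U x) x ^ n ∈ nonZeroDivisors _ :=
    pow_mem (appLE_chart_mem_nonZeroDivisors b J U hb hx) n
  refine (mul_cancel_left_mem_nonZeroDivisors h4).1 ?_
  exact h.trans hP

lemma mem_nzd_right {A : Type*} [CommRing A] {a c : A} (h : a * c ∈ nonZeroDivisors A) : c ∈ nonZeroDivisors A :=
  (mul_mem_nonZeroDivisors.1 h).2

variable (b J U)

/-- The two charts of the blow-up. -/
theorem exists_tc (hb : IsBlowUp b J) (x y : Γ(X, U.1)) (hJ : J.ideal U = Ideal.span {x, y})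
    (hx0 : x ∈ nonZeroDivisors Γ(X, U.1)) (hy0 : y ∈ nonZeroDivisors Γ(X, U.1)) :
    Nonempty (TC (J.comap b) (b ⁻¹ᵁ U.1) (phi b U) x y) := by
  have hx : x ∈ J.ideal U := by rw [hJ]; exact Ideal.subset_span (by simp)
  have hy : y ∈ J.ideal U := by rw [hJ]; exact Ideal.subset_span (by simp)
  have hJ' : J.ideal U = Ideal.span {y, x} := by rw [Set.pair_comm, hJ]
  obtain ⟨t, ht⟩ := exists_quot b J U hb hx hy
  obtain ⟨s, hs⟩ := exists_quot b J U hb hy hx
  have nt : t ∈ nonZeroDivisors Γ(X', chart b J U x) := by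
    have := pb_mem_nonZeroDivisors hb hx hx0 hy0
    rw [ht] at this
    exact mem_nzd_right this
  have ns : s ∈ nonZeroDivisors Γ(X', chart b J U y) := by
    have := pb_mem_nonZeroDivisors hb hy hy0 hx0
    rw [hs] at this
    exact mem_nzd_right this
  exact ⟨{
    U := ⟨chart b J U x, isAffineOpen_chart b J U hb hx⟩
    V := ⟨chart b J U y, isAffineOpen_chart b J U hb hy⟩
    hU := chart_le b J U x
    hV := chart_le b J U y
    cov := by
      apply le_antisymm
      · exact sup_le (chart_le b J U x) (chart_le b J U y)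
      · intro z hz
        obtain ⟨a, ha, hza⟩ := exists_mem_chart_of_span b J U hb.1 hJ z hz
        rcases ha with rfl | rfl
        · exact Or.inl hza
        · exact Or.inr hza
    t := t
    s := s
    ht := ht
    hs := hs
    idU := ideal_chart b J U x _
    idV := ideal_chart b J U y _
    nzU := appLE_chart_mem_nonZeroDivisors b J U hb hx
    nzV := appLE_chart_mem_nonZeroDivisors b J U hb hy
    nzt := nt
    nzs := ns
    infU := chart_inf b J U hb hx hy t ht
    infV := (inf_comm _ _).trans (chart_inf b J U hb hy hx s hs)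
    genU := exists_poly_chart hb hJ t ht
    genV := exists_poly_chart hb hJ' s hs }⟩

end K805.ChartOf
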