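import Groth.Agent.SurfBl.K805.Laurent
import Groth.Agent.SurfBl.K805.ChartOf

/-!
# The two charts of a blow-up, with injectivity
-/

set_option autoImplicit false
universe u
open CategoryTheory CategoryTheory.Limits AlgebraicGeometry Opposite TopologicalSpace Polynomial BlowUp

namespace K805.ChartInj

open Groth.Agent.Fdesc.LocGen K805.Chart K805.ChartOf K805.Laurent Groth.Agent.Divis.BlowChart2 Groth.Agent.Krr.H470.ChartInf

variable {X X' : Scheme.{u}} {b : X' ⟶ X} {J : X.IdealSheafData} {U : X.affineOpens}

/-- The two charts of the blow-up, with `Γ(X, U)` injecting into the functions on the first chart. -/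
theorem exists_tc (hb : IsBlowUp b J) (x y : Γ(X, U.1)) (hJ : J.ideal U = Ideal.span {x, y})
    (hx0 : x ∈ nonZeroDivisors Γ(X, U.1)) (hy0 : y ∈ nonZeroDivisors Γ(X, U.1)) :
    ∃ D : TC (J.comap b) (b ⁻¹ᵁ U.1) (phi b U) x y, InjU D ∧ InjU D.symm := by
  have hx : x ∈ J.ideal U := by rw [hJ]; exact Ideal.subset_span (by simp)
  have hy : y ∈ J.ideal U := by rw [hJ]; exact Ideal.subset_span (by simp)
  have hJ' : J.ideal U = Ideal.span {y, x} := by rw [Set.pair_comm, hJ]
  obtain ⟨t, ht⟩ := exists_quot b J U hb hx hy
  obtain ⟨s, hs⟩ := exists_quot b J U hb hy hx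
  have nt : t ∈ nonZeroDivisors Γ(X', chart b J U x) := by
    have := pb_mem_nonZeroDivisors hb hx hx0 hy0
    rw [ht] at this
    exact mem_nzd_right this
  have ns : s ∈ nonZeroDivisors Γ(X', chart b J U y) := by
    have := pb_mem_nonZeroDivisors hb hy hy0 hx0
    rw [hs] at this
    exact mem_nzd_right this
  exact ⟨{
    U := ⟨chart b J U x, isAffineOpen_chart b J U hb hx⟩
    V := ⟨chart b J U y, isAffineOpen_chart b J U hb hy⟩
    hU := chart_le b J U x
    hV := chart_le b J U y
    cov := by
      apply le_antisymm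
      · exact sup_le (chart_le b J U x) (chart_le b J U y)
      · intro z hz
        obtain ⟨a, ha, hza⟩ := exists_mem_chart_of_span b J U hb.1 hJ z hz
        rcases ha with rfl | rfl
        · exact Or.inl hza
        · exact Or.inr hza
    t := t
    s := s
    ht := ht
    hs := hs
    idU := ideal_chart b J U x _
    idV := ideal_chart b J U y _
    nzU := appLE_chart_mem_nonZeroDivisors b J U hb hx
    nzV := appLE_chart_mem_nonZeroDivisors b J U hb hy
    nzt := nt
    nzs := ns
    infU := chart_inf b J U hb hx hy t ht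
    infV := (inf_comm _ _).trans (chart_inf b J U hb hy hx s hs)
    genU := exists_poly_chart hb hJ t ht
    genV := exists_poly_chart hb hJ' s hs }, appLE_injective hb hx hx0, appLE_injective hb hy hy0⟩

end K805.ChartInj
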