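import Groth.Agent.SurfBl.K805.Gen

/-!
# Invertible modules in the charts: frames modulo the exceptional divisor

* `exists_frame`.
* `Frame.key`: sections modulo `I ^ n` lift to sections modulo `I ^ (n + 1)`, for `n ≥ 1`.
-/

set_option autoImplicit false
universe u v
open CategoryTheory CategoryTheory.Limits AlgebraicGeometry Opposite TopologicalSpace Polynomial

namespace K805.Frame

open Groth.Agent Groth.Agent.Fdesc.LocGen K805.Chart K805.Laurent K805.Gen K805.LF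

variable {B : Scheme.{u}} {E : B.IdealSheafData} {Ω : B.Opens} {R : Type u} [CommRing R] {φ : R →+* Γ(B, Ω)} {x y : R}
  {D : TC E Ω φ x y} {F : B.Modules}

theorem exists_eq_pow_smul (hq : Coh.IsQCoh F) (z : Γ(F, D.W)) :
    ∃ (n : ℕ) (u : Γ(F, D.U.1)), z = D.sW ^ n • res F D.WU u := by
  obtain ⟨n, u, hu⟩ := TC.exists_res_of_eq hq D.U.2 D.WU D.t D.infU z
  refine ⟨n, u, ?_⟩
  rw [hu, smul_smul]
  have h1 : D.sW ^ n * ores D.WU D.t ^ n = 1 := D.sW_pow_mul_tW_pow n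
  rw [h1, one_smul]

theorem exists_frame (hi : InjU D) (hi' : InjU D.symm) (h : RP x y) (h' : RP y x) (hm : (Ideal.span {x, y}).IsMaximal)
    (hF : PicF.IsInvertible F) : Nonempty (Frame D F) := by
  have hflf := Leray.flf_of_rank (Ega2.QCohLocal.isFinLocFreeOfRank_one_iff.2 hF)
  have hq := Ega2.QCohLocal.isQCoh_of_isFinLocFree hflf
  have hm' : (Ideal.span {y, x}).IsMaximal := by rwa [Set.pair_comm]
  have := Picfga.LineInv.invertible_sections hF D.U.2
  have := Picfga.LineInv.invertible_sections hF D.V.2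
  obtain ⟨f, hf1, hf2⟩ := exists_gen (φ := (ores D.hU).comp φ) h D.ht hi D.genU hm Γ(F, D.U.1)
  obtain ⟨g, hg1, hg2⟩ := exists_gen (φ := (ores D.hV).comp φ) h' D.hs hi' D.genV hm' Γ(F, D.V.1)
  obtain ⟨N₀, u, hu⟩ := TC.exists_res_of_eq hq D.U.2 D.WU D.t D.infU (res F D.WV g)
  obtain ⟨M₀, v, hv⟩ := TC.exists_res_of_eq hq D.V.2 D.WV D.s D.infV (res F D.WU f)
  obtain ⟨a, u', rfl⟩ := hf1 u
  obtain ⟨b, v', rfl⟩ := hg1 v
  obtain ⟨m, b₁, hb₁⟩ := TC.exists_ores_of_eq D.U.2 D.WU D.t D.infU (ores D.WV b)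
  have ht1 : ores D.WU D.t = D.tW := rfl
  have hs1 : ores D.WV D.s = D.sW := rfl
  rw [ht1] at hu hb₁
  rw [hs1] at hv
  rw [map_add, res_smul, res_smul] at hu hv
  have hpx : ores D.WU (((ores D.hU).comp φ) x) = D.psi x := by
    rw [RingHom.comp_apply, ores_ores]; rfl
  have hpy : ores D.WV (((ores D.hV).comp φ) y) = D.psi x * D.tW := by
    rw [RingHom.comp_apply, ores_ores]
    exact D.psi_y
  rw [hpx] at hu
  rw [hpy] at hv
  -- the relation on the intersection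
  set F' : Γ(F, D.W) := res F D.WU f with hF'
  set G' : Γ(F, D.W) := res F D.WV g with hG'
  set t : Γ(B, D.W) := D.tW with ht
  set s : Γ(B, D.W) := D.sW with hs
  have hts : ∀ k : ℕ, t ^ k * s ^ k = 1 := D.tW_pow_mul_sW_pow
  have key : (t ^ (N₀ + m) - t ^ M₀ * ores D.WU b₁ * ores D.WU a) • F' =
      D.psi x • (t ^ M₀ • (ores D.WU b₁ • res F D.WU u' + t ^ (N₀ + m + 1) • res F D.WV v')) := by
    linear_combination (norm := (simp only [pow_add]; module)) (-(t ^ (M₀ + N₀ + m))) • hv -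
      (t ^ M₀ * ores D.WU b₁) • hu - (hts M₀) • (t ^ (N₀ + m) • F') - (t ^ (M₀ + N₀)) • (hb₁ • G')
  obtain ⟨n, u₀, hu₀⟩ := exists_eq_pow_smul (D := D) hq
    (t ^ M₀ • (ores D.WU b₁ • res F D.WU u' + t ^ (N₀ + m + 1) • res F D.WV v'))
  rw [hu₀, ← hs] at key
  have key2 : (D.t ^ n * (D.t ^ (N₀ + m) - D.t ^ M₀ * b₁ * a)) • f = ores D.hU (φ x) • u₀ := by
    apply res_injective hF
    have hpx' : ores D.WU (ores D.hU (φ x)) = D.psi x := hpx
    rw [res_smul, res_smul, hpx', map_mul, map_sub, map_pow, map_pow, map_mul, map_mul, map_pow, ht1, ← hF']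
    linear_combination (norm := module) (t ^ n) • key + (hts n) • (D.psi x • res F D.WU u₀)
  obtain ⟨α₁, hα₁⟩ := hf2 _ _ key2
  obtain ⟨α', hα'⟩ := t_pow_cancel (φ := (ores D.hU).comp φ) h D.ht hi D.genU hα₁
  obtain ⟨j, c, c', d, hc, hacd⟩ := exists_monomial (φ := (ores D.hU).comp φ) h D.ht hi D.genU hm (a := a)
    (a' := D.t ^ M₀ * b₁) (b := -α') (n := N₀ + m) (by rw [mul_neg, ← hα']; ring)
  have hpc : ores D.WU (((ores D.hU).comp φ) c) = D.psi c := by
    rw [RingHom.comp_apply, ores_ores]; rfl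
  have hacd' := congrArg (ores D.WU) hacd
  rw [map_add, map_mul, map_mul, map_pow, ht1, hpx, hpc] at hacd'
  refine ⟨{ f := f, g := g, j := j, N := N₀, c := c, c' := c', hc := hc, genU := hf1, genV := hg1, relU := hf2, relV := hg2,
            w := s ^ N₀ • (ores D.WU d • F' + res F D.WU u'), hw := ?_ }⟩
  change G' = (D.psi c * t ^ j * s ^ N₀) • F' + D.psi x • (s ^ N₀ • (ores D.WU d • F' + res F D.WU u'))
  linear_combination (norm := module) (-(s ^ N₀)) • hu + s ^ N₀ • (hacd' • F') - (hts N₀) • G'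

section Key

variable (T : K805.Gen.Frame D F)

include T in
theorem relW (hq : Coh.IsQCoh F) (hF : PicF.IsInvertible F) (α : Γ(B, D.W)) (w : Γ(F, D.W))
    (h : α • res F D.WU T.f = D.psi x • w) : ∃ α', α = D.psi x * α' := by
  obtain ⟨k, α₁, hα₁⟩ := TC.exists_ores_of_eq D.U.2 D.WU D.t D.infU α
  obtain ⟨n, u₀, rfl⟩ := exists_eq_pow_smul (D := D) hq w
  have ht1 : ores D.WU D.t = D.tW := rfl
  rw [ht1] at hα₁
  have key : (D.t ^ n * α₁) • T.f = ores D.hU (φ x) • (D.t ^ k • u₀) := by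
    apply res_injective hF
    have hpx' : ores D.WU (ores D.hU (φ x)) = D.psi x := by rw [ores_ores]; rfl
    rw [res_smul, res_smul, res_smul, hpx', map_mul, map_pow, map_pow, ht1, hα₁]
    linear_combination (norm := module) (D.tW ^ (n + k)) • h +
      (D.tW_pow_mul_sW_pow n) • (D.psi x • D.tW ^ k • res F D.WU u₀)
  obtain ⟨β, hβ⟩ := T.relU _ _ key
  refine ⟨D.sW ^ (n + k) * ores D.WU β, ?_⟩
  have h2 := congrArg (ores D.WU) hβ
  rw [map_mul, map_mul, map_pow, ht1, hα₁, ores_ores] at h2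
  have h3 : ores (D.WU.trans D.hU) (φ x) = D.psi x := rfl
  rw [h3] at h2
  linear_combination D.sW ^ (n + k) * h2 - α * D.sW_pow_mul_tW_pow (n + k)

theorem exists_psi_eq (D : TC E Ω φ x y) {a : R} (ha : a ∈ Ideal.span {x, y}) : ∃ κ, D.psi a = D.psi x * κ := by
  obtain ⟨α, β, rfl⟩ := Ideal.mem_span_pair.1 ha
  refine ⟨D.psi α + D.psi β * D.tW, ?_⟩
  rw [map_add, map_mul, map_mul, D.psi_y]
  ring

/-- The inverse transition function. -/
theorem rel' : ∃ w₀, res F D.WU T.f = (D.psi T.c' * D.sW ^ T.j * D.tW ^ T.N) • res F D.WV T.g + D.psi x • w₀ := by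
  obtain ⟨κ, hκ⟩ := exists_psi_eq D T.hc
  rw [map_sub, map_mul, map_one] at hκ
  refine ⟨-(κ • res F D.WU T.f) - (D.psi T.c' * D.sW ^ T.j * D.tW ^ T.N) • T.w, ?_⟩
  linear_combination (norm := module) (-(D.psi T.c' * D.sW ^ T.j * D.tW ^ T.N)) • T.hw - hκ • res F D.WU T.f -
    (D.tW_pow_mul_sW_pow T.j) • ((D.psi T.c * D.psi T.c' * (D.tW ^ T.N * D.sW ^ T.N)) • res F D.WU T.f) -
    (D.tW_pow_mul_sW_pow T.N) • ((D.psi T.c * D.psi T.c') • res F D.WU T.f)

/-- Decomposition modulo `x`, in small degree. -/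
theorem decomp (hq : Coh.IsQCoh F) (n : ℕ) (hN : T.N ≤ T.j + n + 1) (z : Γ(F, D.W)) :
    ∃ (u : Γ(F, D.U.1)) (v : Γ(F, D.V.1)) (w : Γ(F, D.W)),
      z = res F D.WU u + D.tW ^ n • res F D.WV v + D.psi x • w := by
  -- multiples of the generator
  have hsub : ∀ h ∈ D.mon, ∃ (u : Γ(F, D.U.1)) (v : Γ(F, D.V.1)) (w : Γ(F, D.W)),
      h • res F D.WU T.f = res F D.WU u + D.tW ^ n • res F D.WV v + D.psi x • w := by
    intro h hh
    unfold TC.mon at hh
    induction hh using AddSubgroup.closure_induction with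
    | mem h hh =>
      rcases hh with ⟨r, i, rfl⟩ | ⟨r, i, rfl⟩
      · refine ⟨(ores D.hU (φ r) * D.t ^ i) • T.f, 0, 0, ?_⟩
        rw [map_zero, smul_zero, smul_zero, add_zero, add_zero, res_smul, map_mul, map_pow, ores_ores]
        rfl
      · rcases Nat.eq_zero_or_pos i with rfl | hi
        · refine ⟨(ores D.hU (φ r)) • T.f, 0, 0, ?_⟩
          rw [map_zero, smul_zero, smul_zero, add_zero, add_zero, res_smul, ores_ores, pow_zero, mul_one]
          rfl
        · obtain ⟨w₀, hw₀⟩ := rel' T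
          obtain ⟨e, he⟩ : ∃ e, i + T.j + n = T.N + e := ⟨i + T.j + n - T.N, by omega⟩
          refine ⟨0, (ores D.hV (φ (r * T.c')) * D.s ^ e) • T.g, (D.psi r * D.sW ^ i) • w₀, ?_⟩
          have h1 : ores D.WV (ores D.hV (φ (r * T.c'))) = D.psi r * D.psi T.c' := by
            rw [ores_ores, map_mul, map_mul]; rfl
          have h2 : ores D.WV D.s = D.sW := rfl
          have h3 : D.sW ^ (i + T.j + n) = D.sW ^ T.N * D.sW ^ e := by rw [he, pow_add]
          have h4 : D.sW ^ (i + T.j) * D.tW ^ T.N = D.tW ^ n * D.sW ^ e := by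
            have h5 : D.sW ^ (i + T.j + n) = D.sW ^ (i + T.j) * D.sW ^ n := by rw [pow_add]
            linear_combination (D.tW ^ n * D.tW ^ T.N) * h3 - (D.tW ^ n * D.tW ^ T.N) * h5 -
              (D.sW ^ (i + T.j) * D.tW ^ T.N) * D.tW_pow_mul_sW_pow n + (D.tW ^ n * D.sW ^ e) * D.tW_pow_mul_sW_pow T.N
          rw [map_zero, zero_add, res_smul, map_mul, map_pow, h1, h2]
          linear_combination (norm := (simp only [pow_add]; module)) (D.psi r * D.sW ^ i) • hw₀ +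
            h4 • ((D.psi r * D.psi T.c') • res F D.WV T.g)
    | zero => exact ⟨0, 0, 0, by simp⟩
    | add a b _ _ iha ihb =>
      obtain ⟨u, v, w, h1⟩ := iha
      obtain ⟨u', v', w', h2⟩ := ihb
      refine ⟨u + u', v + v', w + w', ?_⟩
      rw [add_smul, h1, h2, map_add, map_add]
      module
    | neg a _ iha =>
      obtain ⟨u, v, w, h1⟩ := iha
      refine ⟨-u, -v, -w, ?_⟩
      rw [neg_smul, h1, map_neg, map_neg]
      module
  -- the general case
  obtain ⟨m, u, rfl⟩ := exists_eq_pow_smul (D := D) hq z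
  obtain ⟨a, u', rfl⟩ := T.genU u
  obtain ⟨u₁, v₁, w₁, h1⟩ := hsub (D.sW ^ m * ores D.WU a) (by rw [D.mon_eq_top]; trivial)
  refine ⟨u₁, v₁, w₁ + D.sW ^ m • res F D.WU u', ?_⟩
  have h2 : ores D.WU (ores D.hU (φ x)) = D.psi x := by rw [ores_ores]; rfl
  rw [map_add, res_smul, res_smul, h2]
  linear_combination (norm := module) h1

/-- No sections modulo `x` in negative degree. -/
theorem no_sections (hi : InjU D) (h : RP x y) (hq : Coh.IsQCoh F) (hF : PicF.IsInvertible F) (k : ℕ)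
    (hN : T.j + k + 1 ≤ T.N) (u : Γ(F, D.U.1)) (v : Γ(F, D.V.1)) (w : Γ(F, D.W))
    (huv : res F D.WU u - D.tW ^ k • res F D.WV v = D.psi x • w) :
    (∃ u', u = ores D.hU (φ x) • u') ∧ ∃ v', v = ores D.hV (φ y) • v' := by
  obtain ⟨a, u', rfl⟩ := T.genU u
  obtain ⟨b, v', rfl⟩ := T.genV v
  have hpx : ores D.WU (ores D.hU (φ x)) = D.psi x := by rw [ores_ores]; rfl
  have hpy : ores D.WV (ores D.hV (φ y)) = D.psi x * D.tW := by
    rw [ores_ores]
    exact D.psi_y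
  rw [map_add, map_add, res_smul, res_smul, res_smul, res_smul, hpx, hpy] at huv
  have h1 : (ores D.WU a - D.tW ^ k * ores D.WV b * (D.psi T.c * D.tW ^ T.j * D.sW ^ T.N)) • res F D.WU T.f =
      D.psi x • (w - res F D.WU u' + (D.tW ^ k * D.tW) • res F D.WV v' + (D.tW ^ k * ores D.WV b) • T.w) := by
    linear_combination (norm := module) huv + (D.tW ^ k * ores D.WV b) • T.hw
  obtain ⟨α, hα⟩ := relW T hq hF _ _ h1
  obtain ⟨e, he⟩ : ∃ e, T.N = T.j + k + (e + 1) := ⟨T.N - (T.j + k + 1), by omega⟩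
  have h2 : D.tW ^ (e + 1) * ores D.WU a - ores D.WV (ores D.hV (φ T.c) * b) = D.psi x * (D.tW ^ (e + 1) * α) := by
    have h3 : ores D.WV (ores D.hV (φ T.c)) = D.psi T.c := by rw [ores_ores]; rfl
    have h4 := D.tW_pow_mul_sW_pow T.N
    have h5 : D.tW ^ T.N = D.tW ^ T.j * D.tW ^ k * D.tW ^ (e + 1) := by rw [he]; ring
    rw [map_mul, h3]
    linear_combination (D.tW ^ (e + 1)) * hα + (ores D.WV b * D.psi T.c) * h4 - (ores D.WV b * D.psi T.c * D.sW ^ T.N) * h5
  obtain ⟨⟨a', ha'⟩, b', hb'⟩ := laurent hi h e.succ_pos a _ _ h2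
  constructor
  · exact ⟨a' • T.f + u', by rw [ha', smul_add, smul_smul]⟩
  · -- divide by `c`
    obtain ⟨β, γ, hβγ⟩ := Ideal.mem_span_pair.1 T.hc
    have h3 : ores D.hV (φ T.c) * ores D.hV (φ T.c') - 1 =
        ores D.hV (φ y) * (ores D.hV (φ β) * D.s + ores D.hV (φ γ)) := by
      have h4 := congrArg (fun r => ores D.hV (φ r)) hβγ
      simp only [map_add, map_sub, map_mul, map_one] at h4
      linear_combination -h4 + (ores D.hV (φ β)) * D.hs
    refine ⟨(ores D.hV (φ T.c') * b' - (ores D.hV (φ β) * D.s + ores D.hV (φ γ)) * b) • T.g + v', ?_⟩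
    linear_combination (norm := module) (ores D.hV (φ T.c')) • (hb' • T.g) - (h3 • (b • T.g))

include T in
/-- **Lifting.** -/
theorem key (hi : InjU D) (h : RP x y) (hF : PicF.IsInvertible F) (n : ℕ) (hn : 1 ≤ n) (u : Γ(F, D.U.1)) (v : Γ(F, D.V.1))
    (w : Γ(F, D.W)) (huv : res F D.WU u - res F D.WV v = D.psi x ^ n • w) :
    ∃ (u' : Γ(F, D.U.1)) (v' : Γ(F, D.V.1)) (w' : Γ(F, D.W)),
      res F D.WU (u + ores D.hU (φ x) ^ n • u') - res F D.WV (v + ores D.hV (φ y) ^ n • v') = D.psi x ^ (n + 1) • w' := by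
  have hflf := Leray.flf_of_rank (Ega2.QCohLocal.isFinLocFreeOfRank_one_iff.2 hF)
  have hq := Ega2.QCohLocal.isQCoh_of_isFinLocFree hflf
  have hpx : ores D.WU (ores D.hU (φ x)) = D.psi x := by rw [ores_ores]; rfl
  have hpy : ores D.WV (ores D.hV (φ y)) = D.psi x * D.tW := by
    rw [ores_ores]
    exact D.psi_y
  rcases Nat.lt_or_ge (T.j + n + 1) T.N with hN | hN
  · -- no sections
    have hind : ∀ k : ℕ, k ≤ n → ∃ (u₁ : Γ(F, D.U.1)) (v₁ : Γ(F, D.V.1)), u = ores D.hU (φ x) ^ k • u₁ ∧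
        v = ores D.hV (φ y) ^ k • v₁ := by
      intro k
      induction k with
      | zero => exact fun _ => ⟨u, v, by rw [pow_zero, one_smul], by rw [pow_zero, one_smul]⟩
      | succ k ih =>
        intro hk
        obtain ⟨u₁, v₁, hu₁, hv₁⟩ := ih (by omega)
        obtain ⟨e, rfl⟩ : ∃ e, n = k + (e + 1) := ⟨n - (k + 1), by omega⟩
        have h1 : D.psi x ^ k • (res F D.WU u₁ - D.tW ^ k • res F D.WV v₁ - D.psi x ^ (e + 1) • w) = 0 := by
          rw [hu₁, hv₁, res_smul, res_smul, map_pow, map_pow, hpx, hpy] at huv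
          linear_combination (norm := (simp only [pow_add]; module)) huv
        have h2 : res F D.WU u₁ - D.tW ^ k • res F D.WV v₁ - D.psi x ^ (e + 1) • w = 0 := by
          have h3 := eq_zero_of_nzd hq hflf D.isAffineOpen_W (pow_mem D.psi_x_nzd k) _ h1
          exact h3
        obtain ⟨⟨u₂, hu₂⟩, v₂, hv₂⟩ := no_sections T hi h hq hF k (by omega) u₁ v₁ (D.psi x ^ e • w) (by
          rw [sub_eq_zero] at h2
          rw [h2, smul_smul, pow_succ'])
        exact ⟨u₂, v₂, by rw [hu₁, hu₂, smul_smul, pow_succ], by rw [hv₁, hv₂, smul_smul, pow_succ]⟩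
    obtain ⟨u₁, v₁, hu₁, hv₁⟩ := hind n le_rfl
    refine ⟨-u₁, -v₁, 0, ?_⟩
    rw [hu₁, hv₁, smul_neg, smul_neg, add_neg_cancel, add_neg_cancel, map_zero, map_zero, sub_zero, smul_zero]
  · obtain ⟨u₁, v₁, w₁, hw₁⟩ := decomp T hq n hN w
    refine ⟨-u₁, v₁, w₁, ?_⟩
    rw [map_add, map_add, res_smul, res_smul, map_pow, map_pow, hpx, hpy, map_neg]
    linear_combination (norm := module) huv + (D.psi x ^ n) • hw₁

end Key

end K805.Frame
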