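import Groth.Agent.Ega4A.ProjDimLocal
import Mathlib.RingTheory.Ideal.Operations

/-!
# Freeness from a regular sequence generating the maximal ideal
-/

set_option autoImplicit false
universe u

namespace K805.FreeReg

variable {A : Type u} [CommRing A] {M : Type u} [AddCommGroup M] [Module A M]

/-- `x, y` is a (weakly) regular sequence on `M`. -/
structure Reg2 (A M : Type u) [CommRing A] [AddCommGroup M] [Module A M] (x y : A) : Prop where
  hx : ∀ m : M, x • m = 0 → m = 0
  hy : ∀ m m' : M, y • m = x • m' → ∃ m'', m = x • m''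

/-- A finite module over a local ring on which generators `x, y` of the maximal ideal form a regular sequence is free. -/
theorem Reg2.free [IsLocalRing A] [IsNoetherianRing A] [Module.Finite A M] {x y : A}
    (hm : IsLocalRing.maximalIdeal A = Ideal.span {x, y}) (h : Reg2 A M x y) : Module.Free A M := by
  obtain ⟨n, f, hf, hker⟩ := Groth.Agent.Ega4A.ProjDimLocal.exists_minimal_presentation (R := A) M
  have h1 : LinearMap.ker f ≤ IsLocalRing.maximalIdeal A • LinearMap.ker f := by
    intro k hk
    have h2 := hker hk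
    rw [hm, Ideal.span_insert, Submodule.sup_smul, Submodule.mem_sup] at h2
    obtain ⟨a', ha', b', hb', rfl⟩ := h2
    rw [Submodule.ideal_span_singleton_smul] at ha' hb'
    obtain ⟨a, -, rfl⟩ := ha'
    obtain ⟨b, -, rfl⟩ := hb'
    have hk' : x • f a + y • f b = 0 := by
      have := LinearMap.mem_ker.1 hk
      simpa using this
    obtain ⟨c', hc'⟩ := h.hy (f b) (- f a) (by rw [smul_neg]; exact eq_neg_of_add_eq_zero_right hk')
    obtain ⟨c, rfl⟩ := hf c'
    have hk1 : b - x • c ∈ LinearMap.ker f := by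
      rw [LinearMap.mem_ker, map_sub, map_smul, hc', sub_self]
    have hk2 : a + y • c ∈ LinearMap.ker f := by
      rw [LinearMap.mem_ker, map_add, map_smul]
      apply h.hx
      rw [smul_add, smul_comm x y, ← hc', hk']
    have h3 : x • a + y • b = x • (a + y • c) + y • (b - x • c) := by
      rw [smul_add, smul_sub, smul_comm x y c]; abel
    change x • a + y • b ∈ _
    rw [h3]
    exact add_mem (Submodule.smul_mem_smul (by rw [hm]; exact Ideal.subset_span (by simp)) hk2)
      (Submodule.smul_mem_smul (by rw [hm]; exact Ideal.subset_span (by simp)) hk1)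
  have h2 : LinearMap.ker f = ⊥ :=
    Submodule.eq_bot_of_le_smul_of_le_jacobson_bot (IsLocalRing.maximalIdeal A) _ (IsNoetherian.noetherian _) h1
      (IsLocalRing.maximalIdeal_le_jacobson _)
  exact Module.Free.of_equiv (LinearEquiv.ofBijective f ⟨LinearMap.ker_eq_bot.1 h2, hf⟩)

lemma smul_eq_zero_loc {S : Submonoid A} {M' : Type u} [AddCommGroup M'] [Module A M'] (l : M →ₗ[A] M')
    [IsLocalizedModule S l] {c : A} (hc : c ∈ S) {m : M'} (h : c • m = 0) : m = 0 := by
  apply IsLocalizedModule.smul_injective l (⟨c, hc⟩ : S)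
  change c • m = c • (0 : M')
  rw [h, smul_zero]

/-- Regular sequences localize. -/
theorem Reg2.localize (S : Submonoid A) {M' : Type u} [AddCommGroup M'] [Module A M'] (l : M →ₗ[A] M')
    [IsLocalizedModule S l] {A' : Type u} [CommRing A'] [Algebra A A']
    [Module A' M'] [IsScalarTower A A' M'] {x y : A} (h : Reg2 A M x y) :
    Reg2 A' M' (algebraMap A A' x) (algebraMap A A' y) where
  hx := by
    intro m' hm
    rw [algebraMap_smul] at hm
    obtain ⟨⟨m, s, hsS⟩, hs⟩ := IsLocalizedModule.surj S l m'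
    change s • m' = l m at hs
    have h1 : l (x • m) = 0 := by
      rw [map_smul, ← hs, smul_comm, hm, smul_zero]
    obtain ⟨⟨c, hcS⟩, hc⟩ := (IsLocalizedModule.eq_zero_iff S l).1 h1
    change c • x • m = 0 at hc
    rw [smul_comm] at hc
    have h2 := h.hx _ hc
    have h3 : (c * s) • m' = 0 := by
      rw [mul_smul, hs, ← map_smul, h2, map_zero]
    exact smul_eq_zero_loc l (mul_mem hcS hsS) h3
  hy := by
    intro m' n' hmn
    rw [algebraMap_smul, algebraMap_smul] at hmn
    obtain ⟨⟨m, s, hsS⟩, hs⟩ := IsLocalizedModule.surj S l m'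
    obtain ⟨⟨n, t, htS⟩, ht⟩ := IsLocalizedModule.surj S l n'
    change s • m' = l m at hs
    change t • n' = l n at ht
    have h1 : l (y • t • m - x • s • n) = 0 := by
      rw [map_sub, map_smul, map_smul, map_smul, map_smul, ← hs, ← ht, sub_eq_zero]
      calc y • t • s • m' = (t * s) • (y • m') := by rw [smul_smul, smul_smul, smul_smul]; congr 1; ring
        _ = (t * s) • (x • n') := by rw [hmn]
        _ = _ := by rw [smul_smul, smul_smul, smul_smul]; congr 1; ring
    obtain ⟨⟨c, hcS⟩, hc⟩ := (IsLocalizedModule.eq_zero_iff S l).1 h1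
    change c • (y • t • m - x • s • n) = 0 at hc
    rw [smul_sub, sub_eq_zero] at hc
    have hc' : y • (c • t • m) = x • (c • s • n) := by
      rw [smul_comm y c, smul_comm x c]; exact hc
    obtain ⟨k, hk⟩ := h.hy _ _ hc'
    obtain ⟨u, hu⟩ : ∃ u : M', (c * t * s) • u = l k :=
      ⟨IsLocalizedModule.mk' l k (⟨c * t * s, mul_mem (mul_mem hcS htS) hsS⟩ : S),
        IsLocalizedModule.mk'_cancel' l k (⟨c * t * s, mul_mem (mul_mem hcS htS) hsS⟩ : S)⟩
    refine ⟨u, ?_⟩
    rw [algebraMap_smul, ← sub_eq_zero]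
    refine smul_eq_zero_loc l (mul_mem (mul_mem hcS htS) hsS) ?_
    rw [smul_sub, smul_comm _ x, hu, ← map_smul, ← hk, sub_eq_zero, map_smul, map_smul, ← hs, smul_smul, smul_smul]

end K805.FreeReg
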