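import Groth.Agent.Fga.CounitRestrict
import Groth.Agent.CurvesC.Gen
import Groth.Agent.Sga67.FlatPre
import Groth.Agent.Fdesc.LocGenPullback
import Groth.Agent.Ega2.GlobGenCrit
import Groth.Agent.CohqA.ModSec
import Groth.Agent.Divis.BlowUpFormal
import Groth.Agent.Ega3B.LocFree

/-!
# The counit `b^* b_* F ⟶ F` on sections

* `bijective_counit_app`: over opens above an open over which `b` is an isomorphism.
* `surjective_counit_app`: over an affine open where sections over a larger open from below generate.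
* `epi_counit`, `mono_of_off`.
-/

set_option autoImplicit false
universe u
open CategoryTheory CategoryTheory.Limits AlgebraicGeometry Opposite TopologicalSpace

namespace K805.Off

open Groth.Agent Groth.Agent.Fdesc.LocGen

variable {X X' : Scheme.{u}} (b : X' ⟶ X)

/-- Over opens above an open over which `b` is an isomorphism the counit is an isomorphism. -/
theorem bijective_counit_app (W : X.Opens) [IsIso (b ∣_ W)] (L : X'.Modules) (A : X'.Opens) (hA : A ≤ b ⁻¹ᵁ W) :
    Function.Bijective (((Scheme.Modules.pullbackPushforwardAdjunction b).counit.app L).app A) := by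
  refine (CurvesC.Gen.isIso_restrict_iff _ (b ⁻¹ᵁ W)).1 ?_ A hA
  exact Fga.CounitRestrict.isIso_restrict_counit b W L (Sga67.FlatPre.isIso_counit (b ∣_ W) _)

theorem isAffineOpen_preimage (W : X.Opens) [IsIso (b ∣_ W)] {U : X.Opens} (hU : IsAffineOpen U) (hUW : U ≤ W) :
    IsAffineOpen (b ⁻¹ᵁ U) := by
  have h1 : IsAffineOpen (W.ι ⁻¹ᵁ U) := by
    apply (W.ι.isAffineOpen_iff_of_isOpenImmersion).1
    rwa [Scheme.Hom.image_preimage_eq_opensRange_inf, Scheme.Opens.opensRange_ι, inf_eq_right.2 hUW]
  have h2 : IsAffineOpen ((b ∣_ W) ⁻¹ᵁ (W.ι ⁻¹ᵁ U)) := h1.preimage _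
  have h3 : (b ∣_ W) ⁻¹ᵁ (W.ι ⁻¹ᵁ U) = (b ⁻¹ᵁ W).ι ⁻¹ᵁ (b ⁻¹ᵁ U) := by
    rw [← Scheme.Hom.comp_preimage, ← Scheme.Hom.comp_preimage, morphismRestrict_ι]
  rw [h3] at h2
  have h4 := ((b ⁻¹ᵁ W).ι.isAffineOpen_iff_of_isOpenImmersion).2 h2
  rwa [Scheme.Hom.image_preimage_eq_opensRange_inf, Scheme.Opens.opensRange_ι,
    inf_eq_right.2 (b.preimage_mono hUW)] at h4

/-- The counit sends the pullback of a section to the section. -/
lemma counit_app_pullSec (F : X'.Modules) (W : X.Opens) (m : Γ(F, b ⁻¹ᵁ W)) :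
    ((Scheme.Modules.pullbackPushforwardAdjunction b).counit.app F).app (b ⁻¹ᵁ W)
      (pullSec b (M := (Scheme.Modules.pushforward b).obj F) (U := W) m) = m := by
  have h := (Scheme.Modules.pullbackPushforwardAdjunction b).right_triangle_components F
  exact congrArg (fun φ : (Scheme.Modules.pushforward b).obj F ⟶ (Scheme.Modules.pushforward b).obj F =>
        φ.app W m) h

theorem surjective_counit_app (F : X'.Modules) (W : X.Opens) (A : X'.Opens) (h : A ≤ b ⁻¹ᵁ W)
    (hs : Submodule.span Γ(X', A) (Set.range (res F h)) = ⊤) :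
    Function.Surjective (((Scheme.Modules.pullbackPushforwardAdjunction b).counit.app F).app A) := by
  intro m
  have hm : m ∈ Submodule.span Γ(X', A) (Set.range (res F h)) := by rw [hs]; trivial
  induction hm using Submodule.span_induction with
  | mem m hm =>
    obtain ⟨m, rfl⟩ := hm
    refine ⟨res _ h (pullSec b (M := (Scheme.Modules.pushforward b).obj F) (U := W) m), ?_⟩
    rw [app_res, counit_app_pullSec]
    rfl
  | zero => exact ⟨0, map_zero (((Scheme.Modules.pullbackPushforwardAdjunction b).counit.app F).app A).hom⟩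
  | add m m' _ _ ih ih' =>
    obtain ⟨n, hn⟩ := ih
    obtain ⟨n', hn'⟩ := ih'
    exact ⟨n + n', by
      rw [← hn, ← hn']
      exact map_add (((Scheme.Modules.pullbackPushforwardAdjunction b).counit.app F).app A).hom _ _⟩
  | smul a m _ ih =>
    obtain ⟨n, hn⟩ := ih
    exact ⟨a • n, by rw [Scheme.Modules.Hom.app_smul, hn]⟩

/-- A morphism out of a finite locally free module which is injective on sections over opens contained in the
complement of an effective Cartier divisor is mono. -/
theorem mono_of_off {P Q : X'.Modules} (hq : Coh.IsQCoh P) (hP : FlatMod.IsFinLocFree P) (φ : P ⟶ Q)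
    (h : ∀ x : X', ∃ (A : X'.Opens) (e : Γ(X', A)), x ∈ A ∧ IsAffineOpen A ∧ e ∈ nonZeroDivisors Γ(X', A) ∧
      ∀ A' : X'.Opens, A' ≤ X'.basicOpen e → Function.Injective (φ.app A')) : Mono φ := by
  rw [CohqA.ModSec.mono_iff_injective]
  intro U
  rw [injective_iff_map_eq_zero]
  intro m hm
  have key : ∀ x : U, ∃ V : X'.Opens, x.1 ∈ V ∧ ∃ hV : V ≤ U, res P hV m = 0 := by
    intro x
    obtain ⟨A, e, hxA, hA, he, hinj⟩ := h x.1
    obtain ⟨g, hg, hxg⟩ := hA.exists_basicOpen_le ⟨x.1, x.2⟩ hxA
    have hgA : X'.basicOpen g ≤ A := X'.basicOpen_le g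
    have hD : IsAffineOpen (X'.basicOpen g) := hA.basicOpen g
    have he' : ores hgA e ∈ nonZeroDivisors Γ(X', X'.basicOpen g) := by
      have h1 : IsLocalization.Away g Γ(X', X'.basicOpen g) := hA.isLocalization_basicOpen g
      exact IsLocalization.map_nonZeroDivisors_le (Submonoid.powers g) Γ(X', X'.basicOpen g) ⟨e, he, rfl⟩
    refine ⟨X'.basicOpen g, hxg, hg, ?_⟩
    have hle : X'.basicOpen (ores hgA e) ≤ X'.basicOpen e := by
      have : X'.basicOpen (X'.presheaf.map (homOfLE hgA).op e) = X'.basicOpen g ⊓ X'.basicOpen e :=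
        X'.basicOpen_res e (homOfLE hgA).op
      exact this.le.trans inf_le_right
    have h2 : res P (X'.basicOpen_le (ores hgA e)) (res P hg m) = 0 := by
      apply hinj _ hle
      rw [res_res, app_res, hm, map_zero]
      exact (map_zero (φ.app _).hom).symm
    obtain ⟨n, hn⟩ := Fdesc.QCohStalk.exists_pow_smul_eq_zero P hD hq (ores hgA e) _ h2
    have : P.IsQuasicoherent := hq
    have hflat := (Ega3B.LocFree.finite_flat_sections P hP hD).2
    have h3 := Module.Flat.isSMulRegular_of_nonZeroDivisors (M := Γ(P, X'.basicOpen g))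
      (pow_mem he' n)
    apply h3
    dsimp only
    rw [hn, smul_zero]
  choose V hxV hVU hV using key
  refine res_ext P V hVU (fun x hx => Opens.mem_iSup.mpr ⟨⟨x, hx⟩, hxV _⟩) fun x => ?_
  rw [hV, map_zero]

end K805.Off
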