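import Groth.Agent.CurvesB.MVOne
import Groth.Agent.CohqA.AffVan
import Groth.Agent.Fdesc.LocGen

/-!
# Cohomology over a union of two affine opens
-/

set_option autoImplicit false
universe u
open CategoryTheory CategoryTheory.Limits AlgebraicGeometry Opposite TopologicalSpace

namespace K805.TwoOpen

open Groth.Agent.Fdesc.LocGen Groth.Agent.CohqA Groth.Agent.CurvesB.MVOne

variable {X : Scheme.{u}} (M : X.Modules) {U V : X.Opens}

/-- `H⁰(W, M) ≃ Γ(M, W)`. -/
noncomputable def sE (W : X.Opens) : CohTop.HU (X := X.toTopCat) (Coh.toAb M) 0 W ≃+ Γ(M, W) :=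
  secE (X := X.toTopCat) (Coh.toAb M) W

theorem sE_res {W W' : X.Opens} (h : W' ≤ W) (x : CohTop.HU (X := X.toTopCat) (Coh.toAb M) 0 W) :
    sE M W' (CohTop.res (X := X.toTopCat) (Coh.toAb M) 0 h x) = res M h (sE M W x) :=
  secE_res (X := X.toTopCat) (Coh.toAb M) h x

/-- Sections over the intersection are sums if `H¹` vanishes. -/
theorem exists_add (h : Subsingleton (CohTop.HU (X := X.toTopCat) (Coh.toAb M) 1 (U ⊔ V))) (z : Γ(M, U ⊓ V)) :
    ∃ (a : Γ(M, U)) (b : Γ(M, V)), z = res M inf_le_left a + res M inf_le_right b := by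
  have h0 : MV.δ (X := X.toTopCat) (Coh.toAb M) U V 0 ((sE M (U ⊓ V)).symm z) = 0 :=
    Subsingleton.elim _ _
  obtain ⟨a, b, hab⟩ := MV.exists_sub_eq (X := X.toTopCat) (Coh.toAb M) U V 0 _ h0
  refine ⟨sE M U a, - sE M V b, ?_⟩
  rw [map_neg, ← sub_eq_add_neg]
  have h1 := congrArg (sE M (U ⊓ V)) hab
  rw [AddEquiv.apply_symm_apply, map_sub, sE_res, sE_res] at h1
  exact h1.symm

theorem subsingleton_HU_one (hM : Coh.IsQCoh M) (hU : IsAffineOpen U) (hV : IsAffineOpen V)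
    (h : ∀ z : Γ(M, U ⊓ V), ∃ (a : Γ(M, U)) (b : Γ(M, V)), z = res M inf_le_left a + res M inf_le_right b) :
    Subsingleton (CohTop.HU (X := X.toTopCat) (Coh.toAb M) 1 (U ⊔ V)) := by
  have h1 := AffVan.subsingleton_HU_of_isAffineOpen M hU 0
  have h2 := AffVan.subsingleton_HU_of_isAffineOpen M hV 0
  refine subsingleton_of_forall_eq 0 fun x => ?_
  obtain ⟨z, rfl⟩ := MV.exists_δ_eq (X := X.toTopCat) (Coh.toAb M) U V 0 x (Subsingleton.elim _ _) (Subsingleton.elim _ _)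
  obtain ⟨a, b, hab⟩ := h (sE M (U ⊓ V) z)
  have h3 : z = CohTop.res (X := X.toTopCat) (Coh.toAb M) 0 inf_le_left ((sE M U).symm a) -
      CohTop.res (X := X.toTopCat) (Coh.toAb M) 0 inf_le_right ((sE M V).symm (-b)) := by
    apply (sE M (U ⊓ V)).injective
    rw [map_sub, sE_res, sE_res, AddEquiv.apply_symm_apply, AddEquiv.apply_symm_apply, map_neg, sub_neg_eq_add]
    exact hab
  rw [h3]
  exact MV.δ_sub _ _ _ _ _ _

theorem subsingleton_HU_of_two_le (hM : Coh.IsQCoh M) (hU : IsAffineOpen U) (hV : IsAffineOpen V)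
    (hUV : IsAffineOpen (U ⊓ V)) (n : ℕ) (hn : 2 ≤ n) :
    Subsingleton (CohTop.HU (X := X.toTopCat) (Coh.toAb M) n (U ⊔ V)) := by
  obtain ⟨m, rfl⟩ : ∃ m, n = (m + 1) + 1 := ⟨n - 2, by omega⟩
  exact MV.subsingleton_sup _ _ _ _ (AffVan.subsingleton_HU_of_isAffineOpen M hUV m)
    (AffVan.subsingleton_HU_of_isAffineOpen M hU (m + 1)) (AffVan.subsingleton_HU_of_isAffineOpen M hV (m + 1))

end K805.TwoOpen
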