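import Groth.Agent.SurfBl.K805.ChartOf
import Groth.Agent.SurfBl.K805.Rest
import Groth.Agent.SurfBl.K805.TwoOpen
import Groth.Agent.SurfBl.K805.Off
import Groth.Agent.FormalB.ModPowAff2
import Groth.Agent.VarietyB.PullSec

/-!
# Modules on a blow-up of points whose restriction to the exceptional divisor is globally generated

`HasCrd J`: every point is off the center or has an affine neighbourhood on which `J` is generated by two
nonzerodivisors.
* `subsingleton_HU`: vanishing of the higher cohomology over the preimages of affine opens.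
* `epi_counit`: `b^* b_* F ⟶ F` is epi.
-/

set_option autoImplicit false
universe u
open CategoryTheory CategoryTheory.Limits AlgebraicGeometry Opposite TopologicalSpace BlowUp

namespace K805.GG

open Groth.Agent Groth.Agent.Fdesc.LocGen K805.Chart K805.ChartOf K805.Rest

variable {X X' : Scheme.{u}}

/-- `U` is an affine open on which `J` is generated by the two nonzerodivisors `x`, `y`. -/
structure Crd (J : X.IdealSheafData) (U : X.affineOpens) (x y : Γ(X, U.1)) : Prop where
  ideal : J.ideal U = Ideal.span {x, y}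
  nx : x ∈ nonZeroDivisors Γ(X, U.1)
  ny : y ∈ nonZeroDivisors Γ(X, U.1)

/-- Near every point of the center the ideal is generated by two nonzerodivisors. -/
def HasCrd (J : X.IdealSheafData) : Prop :=
  ∀ s : X, s ∉ J.support ∨ ∃ (U : X.affineOpens) (x y : Γ(X, U.1)), s ∈ U.1 ∧ Crd J U x y

/-- Sections over affine opens are finite modules. -/
def Fin (F : X'.Modules) : Prop := ∀ A : X'.Opens, IsAffineOpen A → Module.Finite Γ(X', A) Γ(F, A)

variable {b : X' ⟶ X} {J : X.IdealSheafData}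

theorem exists_tc (hb : IsBlowUp b J) {U : X.affineOpens} {x y : Γ(X, U.1)} (h : Crd J U x y) :
    Nonempty (TC (J.comap b) (b ⁻¹ᵁ U.1) (phi b U) x y) :=
  ChartOf.exists_tc b J U hb x y h.ideal h.nx h.ny

/-- Affine neighbourhoods off the center. -/
theorem exists_affine_off (hb : IsBlowUp b J) {s : X} (hs : s ∉ J.support) :
    ∃ U : X.Opens, s ∈ U ∧ IsAffineOpen U ∧ IsAffineOpen (b ⁻¹ᵁ U) ∧ U ≤ J.support.compl := by
  obtain ⟨U, hU, hsU, hle⟩ := exists_isAffineOpen_mem_and_subset (U := J.support.compl) (x := s) hs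
  have := Divis.BlowUpFormal.isIso_morphismRestrict_compl_support hb J.support.compl disjoint_compl_left
  exact ⟨U, hsU, hU, Off.isAffineOpen_preimage b J.support.compl hU hle, hle⟩

section Two

variable {E : X'.IdealSheafData} {Ω : X'.Opens} {R : Type u} [CommRing R] {φ : R →+* Γ(X', Ω)} {x y : R}
  (D : TC E Ω φ x y)

theorem HU_one_of_sums {F : X'.Modules} (hF : Coh.IsQCoh F) (h : ∀ z : Γ(F, D.W), z ∈ D.sums F) :
    Subsingleton (CohTop.HU (X := X'.toTopCat) (Coh.toAb F) 1 Ω) := by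
  have h1 := TwoOpen.subsingleton_HU_one F hF D.U.2 D.V.2 (fun z => D.mem_sums.1 (h z))
  rwa [D.cov] at h1

include D in
theorem HU_of_two_le {F : X'.Modules} (hF : Coh.IsQCoh F) (n : ℕ) (hn : 2 ≤ n) :
    Subsingleton (CohTop.HU (X := X'.toTopCat) (Coh.toAb F) n Ω) := by
  have h1 := TwoOpen.subsingleton_HU_of_two_le F hF D.U.2 D.V.2 D.isAffineOpen_W n hn
  rwa [D.cov] at h1

end Two

section

variable {Z : Scheme.{u}} {i : Z ⟶ X'} [IsClosedImmersion i]

/-- Vanishing of the higher cohomology near every point of the base, given the decomposition in the charts. -/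
theorem HU_of_sums (hb : IsBlowUp b J) (hc : HasCrd J) {F : X'.Modules} (hF : Coh.IsQCoh F)
    (h : ∀ (U : X.affineOpens) (x y : Γ(X, U.1)), Crd J U x y →
      ∀ (D : TC (J.comap b) (b ⁻¹ᵁ U.1) (phi b U) x y) (z : Γ(F, D.W)), z ∈ D.sums F) (n : ℕ) (hn : 0 < n) (s : X) :
    ∃ U : X.Opens, s ∈ U ∧ IsAffineOpen U ∧
      Subsingleton (CohTop.HU (X := X'.toTopCat) (Coh.toAb F) n (b ⁻¹ᵁ U)) := by
  rcases hc s with hs | ⟨U, x, y, hs, hU⟩
  · obtain ⟨U, hsU, hU, hU', -⟩ := exists_affine_off hb hs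
    obtain ⟨m, rfl⟩ : ∃ m, n = m + 1 := ⟨n - 1, by omega⟩
    exact ⟨U, hsU, hU, CohqA.AffVan.subsingleton_HU_of_isAffineOpen F hU' m⟩
  · obtain ⟨D⟩ := exists_tc hb hU
    refine ⟨U.1, hs, U.2, ?_⟩
    rcases Nat.lt_or_ge n 2 with h2 | h2
    · obtain rfl : n = 1 := by omega
      exact HU_one_of_sums D hF (h U x y hU D)
    · exact HU_of_two_le D hF n h2

theorem sums_of_gg (hi : i.ker = J.comap b) {F : X'.Modules} (hF : Coh.IsQCoh F) (hfin : Fin F)
    (hgg : Curv2.IsGloballyGenerated ((Scheme.Modules.pullback i).obj F)) {U : X.affineOpens} {x y : Γ(X, U.1)}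
    (D : TC (J.comap b) (b ⁻¹ᵁ U.1) (phi b U) x y) (z : Γ(F, D.W)) : z ∈ D.sums F := by
  obtain ⟨ι, e, he⟩ := exists_gens (i := i) (VarietyB.PullSec.isQCoh_pullback i F hF) hgg
  exact sums_of_rest D hi hF (hfin _ D.V.2) (sumsRest_of_gens D he) z

/-- **Vanishing** of the higher direct images. -/
theorem HU_of_gg (hb : IsBlowUp b J) (hc : HasCrd J) (hi : i.ker = J.comap b) {F : X'.Modules} (hF : Coh.IsQCoh F)
    (hfin : Fin F) (hgg : Curv2.IsGloballyGenerated ((Scheme.Modules.pullback i).obj F)) (n : ℕ) (hn : 0 < n) (s : X) :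
    ∃ U : X.Opens, s ∈ U ∧ IsAffineOpen U ∧
      Subsingleton (CohTop.HU (X := X'.toTopCat) (Coh.toAb F) n (b ⁻¹ᵁ U)) :=
  HU_of_sums hb hc hF (fun _ _ _ _ D => sums_of_gg hi hF hfin hgg D) n hn s

/-- **The counit is epi.** -/
theorem epi_counit (hb : IsBlowUp b J) (hc : HasCrd J) (hi : i.ker = J.comap b) {F : X'.Modules} (hF : Coh.IsQCoh F)
    (hfin : Fin F) (hgg : Curv2.IsGloballyGenerated ((Scheme.Modules.pullback i).obj F)) :
    Epi ((Scheme.Modules.pullbackPushforwardAdjunction b).counit.app F) := by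
  refine FormalB.ModPowAff2.epi_of_affine_cover hF _ fun z => ?_
  rcases hc (b z) with hs | ⟨U, x, y, hs, hU⟩
  · obtain ⟨U, hsU, hU, hU', hle⟩ := exists_affine_off hb hs
    have := Divis.BlowUpFormal.isIso_morphismRestrict_compl_support hb J.support.compl disjoint_compl_left
    exact ⟨b ⁻¹ᵁ U, hsU, hU', (Off.bijective_counit_app b J.support.compl F _ (b.preimage_mono hle)).2⟩
  · obtain ⟨D⟩ := exists_tc hb hU
    obtain ⟨ι, e, he⟩ := exists_gens (i := i) (VarietyB.PullSec.isQCoh_pullback i F hF) hgg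
    have hz : z ∈ D.U.1 ⊔ D.V.1 := by rw [D.cov]; exact hs
    rcases hz with hz | hz
    · exact ⟨D.U.1, hz, D.U.2, Off.surjective_counit_app b F U.1 _ D.hU
        (span_of_gens D hi hF (hfin _ D.U.2) (sums_of_gg hi hF hfin hgg D) he)⟩
    · exact ⟨D.V.1, hz, D.V.2, Off.surjective_counit_app b F U.1 _ D.hV
        (span_of_gens D.symm hi hF (hfin _ D.V.2) (sums_of_gg hi hF hfin hgg D.symm) he)⟩

end

end K805.GG
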