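import Groth.Agent.SurfBl.K805.Leray
import Groth.Agent.Picfga.LineInv
import Mathlib.RingTheory.PicardGroup
import Mathlib.LinearAlgebra.FreeModule.PID

/-!
# Functions on the exceptional divisor in a chart

`A / x ≅ k[T]`, `k = R / (x, y)`; generators of invertible modules modulo `x`.
-/

set_option autoImplicit false
universe u v
open CategoryTheory CategoryTheory.Limits AlgebraicGeometry Opposite TopologicalSpace Polynomial
open scoped TensorProduct

namespace K805.Gen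

open Groth.Agent Groth.Agent.Fdesc.LocGen K805.Chart K805.Laurent

section Alg

variable {R : Type u} [CommRing R] {x y : R} {A : Type u} [CommRing A] {φ : R →+* A} {t : A}

/-- Functions on the exceptional divisor. -/
theorem exists_equiv (h : RP x y) (ht : φ y = φ x * t) (hφ : Function.Injective φ)
    (hgen : ∀ g : A, ∃ P : R[X], g = P.eval₂ φ t) :
    ∃ e : (R ⧸ Ideal.span {x, y})[X] ≃+* (A ⧸ Ideal.span {φ x}),
      (∀ P : R[X], e (P.map (Ideal.Quotient.mk _)) = Ideal.Quotient.mk _ (P.eval₂ φ t)) := by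
  have hle : Ideal.span {x, y} ≤ (Ideal.span {φ x}).comap φ := by
    rw [Ideal.span_le]
    rintro _ (rfl | rfl)
    · exact Ideal.mem_span_singleton_self _
    · change φ _ ∈ Ideal.span {φ x}
      rw [ht]
      exact Ideal.mul_mem_right _ _ (Ideal.mem_span_singleton_self _)
  let θ : (R ⧸ Ideal.span {x, y})[X] →+* (A ⧸ Ideal.span {φ x}) :=
    eval₂RingHom (Ideal.quotientMap (Ideal.span {φ x}) φ hle) (Ideal.Quotient.mk _ t)
  have hθ : ∀ P : R[X], θ (P.map (Ideal.Quotient.mk _)) = Ideal.Quotient.mk _ (P.eval₂ φ t) := by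
    intro P
    change eval₂ _ _ (P.map _) = _
    rw [eval₂_map, Polynomial.hom_eval₂]
    congr 1
  refine ⟨RingEquiv.ofBijective θ ⟨?_, ?_⟩, hθ⟩
  · rw [injective_iff_map_eq_zero]
    intro P hP
    obtain ⟨P, rfl⟩ := Polynomial.map_surjective _ Ideal.Quotient.mk_surjective P
    rw [hθ, Ideal.Quotient.eq_zero_iff_mem, Ideal.mem_span_singleton] at hP
    obtain ⟨g, hg⟩ := hP
    have h1 := h.coeff_mem ht hφ hgen P g hg
    ext i
    rw [coeff_map, coeff_zero, Ideal.Quotient.eq_zero_iff_mem]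
    exact h1 i
  · intro a
    obtain ⟨a, rfl⟩ := Ideal.Quotient.mk_surjective a
    obtain ⟨P, rfl⟩ := hgen a
    exact ⟨_, hθ P⟩

/-- Divisors of powers of `t` modulo `x`. -/
theorem exists_monomial (h : RP x y) (ht : φ y = φ x * t) (hφ : Function.Injective φ)
    (hgen : ∀ g : A, ∃ P : R[X], g = P.eval₂ φ t) (hm : (Ideal.span {x, y}).IsMaximal) {a a' b : A} {n : ℕ}
    (hab : a * a' = t ^ n + φ x * b) :
    ∃ (j : ℕ) (c c' : R) (d : A), c * c' - 1 ∈ Ideal.span {x, y} ∧ a = φ c * t ^ j + φ x * d := by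
  obtain ⟨e, he⟩ := exists_equiv h ht hφ hgen
  let _ : Field (R ⧸ Ideal.span {x, y}) := Ideal.Quotient.field _
  obtain ⟨P, rfl⟩ := hgen a
  obtain ⟨P', rfl⟩ := hgen a'
  have h1 : P.map (Ideal.Quotient.mk (Ideal.span {x, y})) * P'.map (Ideal.Quotient.mk (Ideal.span {x, y})) = X ^ n := by
    apply e.injective
    have h2 : (X ^ n : (R ⧸ Ideal.span {x, y})[X]) = (X ^ n : R[X]).map (Ideal.Quotient.mk (Ideal.span {x, y})) := by
      rw [Polynomial.map_pow, map_X]
    rw [map_mul, he, he, h2, he, eval₂_X_pow, ← map_mul, hab, map_add, map_mul (Ideal.Quotient.mk _) (φ x)]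
    have h3 : Ideal.Quotient.mk (Ideal.span {φ x}) (φ x) = 0 :=
      Ideal.Quotient.eq_zero_iff_mem.2 (Ideal.mem_span_singleton_self _)
    rw [h3, zero_mul, add_zero]
  obtain ⟨j, -, hj⟩ := (dvd_prime_pow Polynomial.prime_X n).1 (Dvd.intro _ h1)
  obtain ⟨w, hw⟩ := hj.symm
  obtain ⟨c₀, hc₀, hc⟩ := Polynomial.isUnit_iff.1 w.isUnit
  obtain ⟨c, rfl⟩ := Ideal.Quotient.mk_surjective c₀
  obtain ⟨⟨_, c₁, hcc, -⟩, rfl⟩ := hc₀
  obtain ⟨c', rfl⟩ := Ideal.Quotient.mk_surjective c₁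
  have h4 : c * c' - 1 ∈ Ideal.span {x, y} := by
    rw [← Ideal.Quotient.eq_zero_iff_mem, map_sub, map_mul, map_one]
    exact sub_eq_zero.2 hcc
  have h5 : P.map (Ideal.Quotient.mk (Ideal.span {x, y})) = (C c * X ^ j).map (Ideal.Quotient.mk (Ideal.span {x, y})) := by
    rw [← hw, ← hc, Polynomial.map_mul, Polynomial.map_pow, map_X, map_C, mul_comm]
  have h6 : Ideal.Quotient.mk (Ideal.span {φ x}) (P.eval₂ φ t - φ c * t ^ j) = 0 := by
    rw [map_sub, ← he, h5, he, eval₂_mul, eval₂_C, eval₂_X_pow, sub_self]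
  rw [Ideal.Quotient.eq_zero_iff_mem, Ideal.mem_span_singleton] at h6
  obtain ⟨d, hd⟩ := h6
  exact ⟨j, c, c', d, h4, by rw [← hd]; ring⟩

/-- `t` is a nonzerodivisor modulo `x`. -/
theorem t_pow_cancel (h : RP x y) (ht : φ y = φ x * t) (hφ : Function.Injective φ)
    (hgen : ∀ g : A, ∃ P : R[X], g = P.eval₂ φ t) {a b : A} {n : ℕ} (hab : t ^ n * a = φ x * b) : ∃ b', a = φ x * b' := by
  obtain ⟨e, he⟩ := exists_equiv h ht hφ hgen
  obtain ⟨P, rfl⟩ := hgen a
  have h1 : X ^ n * P.map (Ideal.Quotient.mk (Ideal.span {x, y})) = 0 := by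
    apply e.injective
    have h2 : (X ^ n : (R ⧸ Ideal.span {x, y})[X]) = (X ^ n : R[X]).map (Ideal.Quotient.mk (Ideal.span {x, y})) := by
      rw [Polynomial.map_pow, map_X]
    rw [map_mul, he, h2, he, eval₂_X_pow, ← map_mul, hab, map_mul (Ideal.Quotient.mk _) (φ x), map_zero]
    have h3 : Ideal.Quotient.mk (Ideal.span {φ x}) (φ x) = 0 :=
      Ideal.Quotient.eq_zero_iff_mem.2 (Ideal.mem_span_singleton_self _)
    rw [h3, zero_mul]
  have h2 : P.map (Ideal.Quotient.mk (Ideal.span {x, y})) = 0 := by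
    ext i
    have := congrArg (fun Q => Q.coeff (i + n)) h1
    simpa only [coeff_X_pow_mul, coeff_zero] using this
  have h3 : Ideal.Quotient.mk (Ideal.span {φ x}) (P.eval₂ φ t) = 0 := by rw [← he, h2, map_zero]
  rw [Ideal.Quotient.eq_zero_iff_mem, Ideal.mem_span_singleton] at h3
  exact h3

/-- Invertible modules have a generator modulo `x`. -/
theorem exists_gen (h : RP x y) (ht : φ y = φ x * t) (hφ : Function.Injective φ)
    (hgen : ∀ g : A, ∃ P : R[X], g = P.eval₂ φ t) (hm : (Ideal.span {x, y}).IsMaximal) (P : Type u) [AddCommGroup P]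
    [Module A P] [Module.Invertible A P] :
    ∃ f : P, (∀ u : P, ∃ (a : A) (u' : P), u = a • f + φ x • u') ∧
      ∀ (a : A) (u' : P), a • f = φ x • u' → ∃ a', a = φ x * a' := by
  obtain ⟨e, -⟩ := exists_equiv h ht hφ hgen
  let _ : Field (R ⧸ Ideal.span {x, y}) := Ideal.Quotient.field _
  have : IsDomain (A ⧸ Ideal.span {φ x}) := e.symm.toMulEquiv.isDomain _
  have : IsPrincipalIdealRing (A ⧸ Ideal.span {φ x}) := IsPrincipalIdealRing.of_surjective e e.surjective
  have h1 : Module.Free (A ⧸ Ideal.span {φ x}) ((A ⧸ Ideal.span {φ x}) ⊗[A] P) := inferInstance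
  obtain ⟨e₁⟩ := (Module.Invertible.free_iff_linearEquiv).mp h1
  let ε : (P ⧸ (Ideal.span {φ x} • ⊤ : Submodule A P)) ≃ₗ[A] (A ⧸ Ideal.span {φ x}) :=
    (TensorProduct.quotTensorEquivQuotSMul P (Ideal.span {φ x})).symm.trans (e₁.restrictScalars A)
  obtain ⟨f, hf⟩ := Submodule.Quotient.mk_surjective _ (ε.symm 1)
  have hsmul : ∀ a : A, ε.symm (Ideal.Quotient.mk _ a) = Submodule.Quotient.mk (a • f) := by
    intro a
    rw [Submodule.Quotient.mk_smul, hf, ← map_smul]
    congr 1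
    exact (mul_one _).symm
  have hmem : ∀ u : P, u ∈ (Ideal.span {φ x} • ⊤ : Submodule A P) ↔ ∃ u', u = φ x • u' := by
    intro u
    rw [Submodule.ideal_span_singleton_smul, Submodule.mem_smul_pointwise_iff_exists]
    constructor
    · rintro ⟨b, -, rfl⟩; exact ⟨b, rfl⟩
    · rintro ⟨b, rfl⟩; exact ⟨b, trivial, rfl⟩
  refine ⟨f, fun u => ?_, fun a u' hau => ?_⟩
  · obtain ⟨a, ha⟩ := Ideal.Quotient.mk_surjective (ε (Submodule.Quotient.mk u))
    have h2 := hsmul a
    rw [ha, ε.symm_apply_apply, Submodule.Quotient.eq, hmem] at h2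
    obtain ⟨u', hu'⟩ := h2
    exact ⟨a, u', by rw [← hu']; abel⟩
  · have h2 := hsmul a
    have h3 : (Submodule.Quotient.mk (a • f) : P ⧸ (Ideal.span {φ x} • ⊤ : Submodule A P)) = 0 := by
      rw [Submodule.Quotient.mk_eq_zero, hmem]
      exact ⟨u', hau⟩
    rw [h3, LinearEquiv.map_eq_zero_iff, Ideal.Quotient.eq_zero_iff_mem, Ideal.mem_span_singleton] at h2
    exact h2

end Alg

lemma RP.symm {R : Type u} [CommRing R] {x y : R} (h : RP x y) (hy : ∀ a : R, y * a = 0 → a = 0) : RP y x where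
  hx := hy
  hy := by
    intro a b hab
    obtain ⟨c, rfl⟩ := h.hy b a hab.symm
    refine ⟨c, ?_⟩
    have h1 : x * (a - y * c) = 0 := by rw [mul_sub, hab]; ring
    exact sub_eq_zero.1 (h.hx _ h1)

section Charts

variable {B : Scheme.{u}} {E : B.IdealSheafData} {Ω : B.Opens} {R : Type u} [CommRing R] {φ : R →+* Γ(B, Ω)} {x y : R}
  (D : TC E Ω φ x y) (F : B.Modules)

/-- Generators modulo the exceptional divisor on the two charts, with their transition function. -/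
structure Frame where
  f : Γ(F, D.U.1)
  g : Γ(F, D.V.1)
  j : ℕ
  N : ℕ
  c : R
  c' : R
  hc : c * c' - 1 ∈ Ideal.span {x, y}
  genU : ∀ u : Γ(F, D.U.1), ∃ (a : Γ(B, D.U.1)) (u' : Γ(F, D.U.1)), u = a • f + ores D.hU (φ x) • u'
  genV : ∀ v : Γ(F, D.V.1), ∃ (b : Γ(B, D.V.1)) (v' : Γ(F, D.V.1)), v = b • g + ores D.hV (φ y) • v'
  relU : ∀ (a : Γ(B, D.U.1)) (u' : Γ(F, D.U.1)), a • f = ores D.hU (φ x) • u' → ∃ a', a = ores D.hU (φ x) * a'
  relV : ∀ (b : Γ(B, D.V.1)) (v' : Γ(F, D.V.1)), b • g = ores D.hV (φ y) • v' → ∃ b', b = ores D.hV (φ y) * b'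
  w : Γ(F, D.W)
  hw : res F D.WV g = (D.psi c * D.tW ^ j * D.sW ^ N) • res F D.WU f + D.psi x • w

variable {D F}

theorem res_injective (hF : PicF.IsInvertible F) : Function.Injective (res F D.WU) := by
  rw [injective_iff_map_eq_zero]
  intro a ha
  have hq := Ega2.QCohLocal.isQCoh_of_isFinLocFree (Leray.flf_of_rank (Ega2.QCohLocal.isFinLocFreeOfRank_one_iff.2 hF))
  obtain ⟨n, hn⟩ := TC.exists_kill_of_eq hq D.U.2 D.WU D.t D.infU a ha
  have := Picfga.LineInv.invertible_sections hF D.U.2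
  exact (Module.Flat.isSMulRegular_of_nonZeroDivisors (M := Γ(F, D.U.1)) (pow_mem D.nzt n)) (hn.trans (smul_zero _).symm)

end Charts

end K805.Gen
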