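import Groth.Agent.SurfBl.K805.GG
import Groth.Agent.SurfBl.K805.Inv
import Groth.Agent.SurfBl.K805.FreeReg
import Groth.Agent.Divis.StalkMod
import Groth.Agent.Dcoh.PushRestrict
import Groth.Agent.Dcoh.FinLocFree
import Groth.Agent.PerfB.FlatPull
import Groth.Agent.FormalB.PpFinal

/-!
# Direct images of locally free modules on the blow-up of points of a regular surface

`HasCrdPt J`: every point is off the center or has an affine neighbourhood on which `J` is the ideal of the point,
generated by two nonzerodivisors.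
* `isFinLocFree_push`: if `H⁰(Z, F ⊗ O(-1)) = 0` then `b_* F` is finite locally free.
* `mono_counit`: then `b^* b_* F ⟶ F` is mono.
-/

set_option autoImplicit false
universe u
open CategoryTheory CategoryTheory.Limits AlgebraicGeometry Opposite TopologicalSpace BlowUp

namespace K805.LF

open Groth.Agent Groth.Agent.Fdesc.LocGen K805.Chart K805.ChartOf K805.Rest K805.GG K805.FreeReg

variable {X X' : Scheme.{u}}

/-- Every point is off the center or has an affine neighbourhood with coordinates in which `J` is the ideal of the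
point. -/
def HasCrdPt (J : X.IdealSheafData) : Prop :=
  ∀ s : X, s ∉ J.support ∨ ∃ (U : X.affineOpens) (x y : Γ(X, U.1)) (hs : s ∈ U.1), Crd J U x y ∧
    J.ideal U = (U.2.primeIdealOf ⟨s, hs⟩).asIdeal

theorem HasCrdPt.hasCrd {J : X.IdealSheafData} (h : HasCrdPt J) : HasCrd J := by
  intro s
  rcases h s with h | ⟨U, x, y, hs, h, -⟩
  · exact Or.inl h
  · exact Or.inr ⟨U, x, y, hs, h⟩

section TF

variable {E : X'.IdealSheafData} {Ω : X'.Opens} {R : Type u} [CommRing R] {φ : R →+* Γ(X', Ω)} {x y : R}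
  (D : TC E Ω φ x y)

lemma eq_zero_of_nzd {F : X'.Modules} (hq : Coh.IsQCoh F) (hF : FlatMod.IsFinLocFree F) {A : X'.Opens} (hA : IsAffineOpen A)
    {a : Γ(X', A)} (ha : a ∈ nonZeroDivisors Γ(X', A)) (m : Γ(F, A)) (hm : a • m = 0) : m = 0 := by
  have : F.IsQuasicoherent := hq
  have hflat := (Ega3B.LocFree.finite_flat_sections F hF hA).2
  have h3 := Module.Flat.isSMulRegular_of_nonZeroDivisors (M := Γ(F, A)) ha
  apply h3
  dsimp only
  rw [hm, smul_zero]

theorem tf_of_flf {F : X'.Modules} (hq : Coh.IsQCoh F) (hF : FlatMod.IsFinLocFree F) : D.TF F where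
  rx := eq_zero_of_nzd hq hF D.U.2 D.nzU
  ry := eq_zero_of_nzd hq hF D.V.2 D.nzV
  rs := eq_zero_of_nzd hq hF D.V.2 D.nzs
  rw := eq_zero_of_nzd hq hF D.isAffineOpen_W D.psi_x_nzd

end TF

variable {b : X' ⟶ X} {J : X.IdealSheafData}

/-- `x`, `y` form a regular sequence on the sections of the direct image. -/
theorem reg2 {U : X.affineOpens} {x y : Γ(X, U.1)} (D : TC (J.comap b) (b ⁻¹ᵁ U.1) (phi b U) x y) {F : X'.Modules}
    (hq : Coh.IsQCoh F) (hF : FlatMod.IsFinLocFree F)
    (h0 : ∀ (a : Γ(F, D.U.1)) (c : Γ(F, D.V.1)), D.tW • res F D.WU a = res F D.WV c →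
      (∃ a', a = ores D.hU (phi b U x) • a') ∧ ∃ c', c = ores D.hV (phi b U y) • c') :
    Reg2 Γ(X, U.1) Γ((Scheme.Modules.pushforward b).obj F, U.1) x y where
  hx m hm := TC.TF.x_regular (tf_of_flf D hq hF) (F := F) m hm
  hy m m' hm := TC.TF.y_regular (tf_of_flf D hq hF) (F := F) h0 m m' hm

theorem free_stalk [IsLocallyNoetherian X] [IsProper b] [IsLocallyNoetherian X'] {U : X.affineOpens} {x y : Γ(X, U.1)}
    {s : X} (hs : s ∈ U.1) (hc : Crd J U x y) (hJs : J.ideal U = (U.2.primeIdealOf ⟨s, hs⟩).asIdeal)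
    {F : X'.Modules} (hcoh : Coh.IsCoh ((Scheme.Modules.pushforward b).obj F))
    (h : Reg2 Γ(X, U.1) Γ((Scheme.Modules.pushforward b).obj F, U.1) x y) :
    Module.Free (X.presheaf.stalk s) (((Scheme.Modules.pushforward b).obj F).presheaf.stalk s) := by
  have hN : IsNoetherianRing (X.presheaf.stalk s) := inferInstance
  have hfin := Divis.StalkMod.finite_stalk hcoh s
  refine Divis.StalkMod.stalk_elim _ hcoh.1 U.2 s hs ?_
  intro _ _ _ _ l _ _ _
  have h1 := h.localize (U.2.primeIdealOf ⟨s, hs⟩).asIdeal.primeCompl l (A' := X.presheaf.stalk s)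
  refine h1.free ?_
  rw [← IsLocalization.AtPrime.map_eq_maximalIdeal (U.2.primeIdealOf ⟨s, hs⟩).asIdeal (X.presheaf.stalk s), ← hJs,
    hc.ideal, Ideal.map_span, Set.image_pair]

/-- The direct image along an isomorphism of a finite locally free module. -/
theorem isFinLocFree_push_iso {Y Y' : Scheme.{u}} (g : Y' ⟶ Y) [IsIso g] {M : Y'.Modules} (hM : FlatMod.IsFinLocFree M) :
    FlatMod.IsFinLocFree ((Scheme.Modules.pushforward g).obj M) := by
  have := Sga67.FlatPre.isIso_counit g M
  let e1 : (Scheme.Modules.pullback g).obj ((Scheme.Modules.pushforward g).obj M) ≅ M :=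
    asIso ((Scheme.Modules.pullbackPushforwardAdjunction g).counit.app M)
  let e2 := (Scheme.Modules.pullbackComp (inv g) g).app ((Scheme.Modules.pushforward g).obj M) ≪≫
    (Scheme.Modules.pullbackCongr (IsIso.inv_hom_id g)).app _ ≪≫ (Scheme.Modules.pullbackId Y).app _
  exact Dcoh.FinLocFree.isFinLocFree_of_iso ((Scheme.Modules.pullback (inv g)).mapIso e1.symm ≪≫ e2)
    (PerfB.FlatPull.isFinLocFree_pullback (inv g) hM)

theorem isFinLocFree_restrict_push (W : X.Opens) [IsIso (b ∣_ W)] {F : X'.Modules} (hF : FlatMod.IsFinLocFree F) :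
    FlatMod.IsFinLocFree (((Scheme.Modules.pushforward b).obj F).restrict W.ι) :=
  Dcoh.FinLocFree.isFinLocFree_of_iso
    ((Dcoh.PushRestrict.pushRestrictIsoOfIsPullback b (b ∣_ W) (b ⁻¹ᵁ W).ι W.ι (isPullback_morphismRestrict b W).flip).app F).symm
    (isFinLocFree_push_iso (b ∣_ W) (Dcoh.FinLocFree.isFinLocFree_restrict hF _))

/-- The direct image is finite locally free, given the regularity in the charts. -/
theorem isFinLocFree_push_of_reg [IsLocallyNoetherian X] [IsLocallyNoetherian X'] [IsProper b] (hb : IsBlowUp b J)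
    (hc : HasCrdPt J) {F : X'.Modules} (hcoh : Coh.IsCoh F) (hF : FlatMod.IsFinLocFree F)
    (h : ∀ (U : X.affineOpens) (x y : Γ(X, U.1)), Crd J U x y →
      Reg2 Γ(X, U.1) Γ((Scheme.Modules.pushforward b).obj F, U.1) x y) :
    FlatMod.IsFinLocFree ((Scheme.Modules.pushforward b).obj F) := by
  have hcoh' := FormalB.PpFinal.isCoh_push b F hcoh
  refine Dcoh.FinLocFree.isFinLocFree_of_local fun s => ?_
  rcases hc s with hs | ⟨U, x, y, hs, hU, hJs⟩
  · obtain ⟨W, hW, hsW⟩ : ∃ W : X.Opens, IsIso (b ∣_ W) ∧ s ∈ W :=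
      ⟨J.support.compl, Divis.BlowUpFormal.isIso_morphismRestrict_compl_support hb J.support.compl disjoint_compl_left, hs⟩
    exact ⟨_, W.ι, inferInstance, by rw [Scheme.Opens.opensRange_ι]; exact hsW, isFinLocFree_restrict_push W hF⟩
  · obtain ⟨V, n, hsV, ⟨e⟩⟩ := Divis.StalkMod.exists_free_nhd hcoh' s (free_stalk hs hU hJs hcoh' (h U x y hU))
    exact ⟨_, V.ι, inferInstance, by rw [Scheme.Opens.opensRange_ι]; exact hsV,
      Dcoh.FinLocFree.isFinLocFree_of_iso e.symm (Dcoh.FinLocFree.isFinLocFree_freeMod _ _)⟩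

/-- The counit is mono as soon as the direct image is finite locally free. -/
theorem mono_counit (hb : IsBlowUp b J) {F : X'.Modules}
    (hF : FlatMod.IsFinLocFree ((Scheme.Modules.pushforward b).obj F)) :
    Mono ((Scheme.Modules.pullbackPushforwardAdjunction b).counit.app F) := by
  have hP := PerfB.FlatPull.isFinLocFree_pullback b hF
  refine Off.mono_of_off (Ega2.QCohLocal.isQCoh_of_isFinLocFree hP) hP _ fun z => ?_
  obtain ⟨A, hz, e, he, hA⟩ := hb.1 z
  refine ⟨A.1, e, hz, A.2, he, fun A' hA' => ?_⟩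
  have := Divis.BlowUpFormal.isIso_morphismRestrict_compl_support hb J.support.compl disjoint_compl_left
  refine (Off.bijective_counit_app b J.support.compl F A' (hA'.trans ?_)).1
  intro w hw
  change ¬ (b w ∈ J.support)
  intro hw'
  have h1 : w ∈ (J.comap b).support := by
    rw [Scheme.IdealSheafData.support_comap]
    exact hw'
  rw [Scheme.IdealSheafData.mem_support_iff_of_mem (X'.basicOpen_le e hw), hA, Scheme.mem_zeroLocus_iff] at h1
  exact h1 e (Ideal.mem_span_singleton_self e) hw

end K805.LF
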