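import Groth.Agent.SurfBl.K805.ChartOf

/-!
# Laurent polynomials modulo the exceptional divisor

`D : TC E Ω φ x y` with `R` injecting into the functions on the charts and `x`, `y` a regular sequence in `R`.
* `coeff_mem`: if `P(t)` is divisible by `x` then the coefficients of `P` are in `(x, y)`.
* `laurent`: if `t ^ n A ≡ C` modulo `x` on the intersection, `n ≥ 1`, then `A ∈ (x)` and `C ∈ (y)`.
-/

set_option autoImplicit false
universe u
open CategoryTheory CategoryTheory.Limits AlgebraicGeometry Opposite TopologicalSpace Polynomial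

namespace K805.Laurent

open Groth.Agent.Fdesc.LocGen K805.Chart

/-- `x`, `y` is a regular sequence in `R`. -/
structure RP {R : Type u} [CommRing R] (x y : R) : Prop where
  hx : ∀ a : R, x * a = 0 → a = 0
  hy : ∀ a b : R, y * a = x * b → ∃ c, a = x * c

section Alg

variable {R : Type u} [CommRing R] {x y : R}

lemma RP.pow (h : RP x y) (m : ℕ) : ∀ (a b : R), y ^ m * a = x * b → ∃ c, a = x * c := by
  induction m with
  | zero => exact fun a b hab => ⟨b, by rwa [pow_zero, one_mul] at hab⟩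
  | succ m ih =>
    intro a b hab
    obtain ⟨c, hc⟩ := h.hy (y ^ m * a) b (by rw [← hab]; ring)
    exact ih a c hc

variable {A : Type u} [CommRing A] {φ : R →+* A} {t : A}

/-- Clearing denominators. -/
lemma exists_low (ht : φ y = φ x * t) (H : R[X]) {n : ℕ} (hn : H.natDegree < n) :
    ∃ r : R, φ x ^ n * H.eval₂ φ t = φ (x * r) := by
  refine ⟨∑ i ∈ Finset.range n, x ^ (n - 1 - i) * H.coeff i * y ^ i, ?_⟩
  rw [Polynomial.eval₂_eq_sum_range' φ hn t, Finset.mul_sum, Finset.mul_sum, map_sum]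
  refine Finset.sum_congr rfl fun i hi => ?_
  have hi' := Finset.mem_range.1 hi
  have h1 : n = (n - 1 - i) + 1 + i := by omega
  rw [map_mul, map_mul, map_mul, map_pow, map_pow, ht]
  conv_lhs => rw [h1]
  ring

/-- Relations have coefficients in `(x, y)`. -/
theorem RP.coeff_mem_of_eq_zero (h : RP x y) (ht : φ y = φ x * t) (hφ : Function.Injective φ) (n : ℕ) :
    ∀ H : R[X], H.natDegree ≤ n → H.eval₂ φ t = 0 → ∀ i, H.coeff i ∈ Ideal.span {x, y} := by
  have hxI : x ∈ Ideal.span {x, y} := Ideal.subset_span (by simp)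
  have hyI : y ∈ Ideal.span {x, y} := Ideal.subset_span (by simp)
  induction n with
  | zero =>
    intro H hn h0 i
    obtain ⟨c, rfl⟩ := Polynomial.natDegree_eq_zero.1 (Nat.le_zero.1 hn)
    rw [eval₂_C, map_eq_zero_iff φ hφ] at h0
    rw [h0, C_0, coeff_zero]
    exact zero_mem _
  | succ n ih =>
    intro H hn h0 i
    -- split off the coefficient of degree `n + 1`
    let H' : R[X] := H - C (H.coeff (n + 1)) * X ^ (n + 1)
    have hH' : H'.natDegree < n + 1 := by
      have h1 : H'.degree < (n + 1 : ℕ) := by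
        rw [Polynomial.degree_lt_iff_coeff_zero]
        intro m hm
        rcases Nat.lt_or_eq_of_le hm with h2 | h2
        · simp only [H', coeff_sub, coeff_C_mul, coeff_X_pow]
          rw [Polynomial.coeff_eq_zero_of_natDegree_lt (by omega), if_neg (by omega)]
          ring
        · subst h2
          simp [H', coeff_X_pow]
      by_cases h3 : H' = 0
      · rw [h3]; simp
      · exact (Polynomial.natDegree_lt_iff_degree_lt h3).2 h1
    have hH : H = H' + C (H.coeff (n + 1)) * X ^ (n + 1) := by simp [H']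
    obtain ⟨r, hr⟩ := exists_low ht H' hH'
    obtain ⟨c, hc⟩ := h.pow (n + 1) (H.coeff (n + 1)) (-r) (by
      apply hφ
      have h1 : φ x ^ (n + 1) * H.eval₂ φ t = 0 := by rw [h0, mul_zero]
      rw [hH, eval₂_add, mul_add, hr, eval₂_mul, eval₂_C, eval₂_X_pow] at h1
      rw [map_mul, map_pow, ht, mul_neg, map_neg, eq_neg_iff_add_eq_zero, ← h1]
      ring)
    -- lower the degree
    have h2 : (H' + C (c * y) * X ^ n).eval₂ φ t = 0 := by
      rw [← h0]
      conv_rhs => rw [hH]
      rw [eval₂_add, eval₂_add, eval₂_mul, eval₂_mul, eval₂_C, eval₂_C, eval₂_X_pow, eval₂_X_pow, hc, map_mul,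
        map_mul, ht]
      ring
    have h3 : (H' + C (c * y) * X ^ n).natDegree ≤ n := by
      refine (Polynomial.natDegree_add_le _ _).trans (max_le (Nat.lt_succ_iff.1 hH') ?_)
      exact (Polynomial.natDegree_C_mul_X_pow_le _ _)
    have h4 := ih _ h3 h2 i
    rw [coeff_add, coeff_C_mul, coeff_X_pow] at h4
    have h5 : H'.coeff i ∈ Ideal.span {x, y} := by
      refine (Submodule.add_mem_iff_left _ ?_).1 h4
      rw [mul_assoc, mul_comm y, ← mul_assoc]
      exact Ideal.mul_mem_left _ _ hyI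
    rw [hH, coeff_add, coeff_C_mul, hc]
    refine add_mem h5 ?_
    rw [mul_comm x c, mul_assoc, mul_comm x, ← mul_assoc]
    exact Ideal.mul_mem_left _ _ hxI

/-- If `P(t)` is divisible by `x` then the coefficients of `P` are in `(x, y)`. -/
theorem RP.coeff_mem (h : RP x y) (ht : φ y = φ x * t) (hφ : Function.Injective φ)
    (hgen : ∀ g : A, ∃ P : R[X], g = P.eval₂ φ t) (P : R[X]) (g : A) (hg : P.eval₂ φ t = φ x * g) (i : ℕ) :
    P.coeff i ∈ Ideal.span {x, y} := by
  have hxI : x ∈ Ideal.span {x, y} := Ideal.subset_span (by simp)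
  obtain ⟨G, rfl⟩ := hgen g
  have h1 : (P - C x * G).eval₂ φ t = 0 := by
    rw [eval₂_sub, eval₂_mul, eval₂_C, hg, sub_self]
  have h2 := h.coeff_mem_of_eq_zero ht hφ _ _ le_rfl h1 i
  rw [coeff_sub, coeff_C_mul] at h2
  have h3 := add_mem h2 (Ideal.mul_mem_right (G.coeff i) _ hxI)
  rwa [sub_add_cancel] at h3

/-- Polynomials with coefficients in `(x, y)` have values divisible by `x`. -/
theorem dvd_of_coeff_mem (ht : φ y = φ x * t) (P : R[X]) (hP : ∀ i, P.coeff i ∈ Ideal.span {x, y}) :
    ∃ g : A, P.eval₂ φ t = φ x * g := by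
  have h1 : ∀ a ∈ Ideal.span {x, y}, ∃ g : A, φ a = φ x * g := by
    intro a ha
    obtain ⟨r, s, rfl⟩ := Ideal.mem_span_pair.1 ha
    exact ⟨φ r + φ s * t, by rw [map_add, map_mul, map_mul, ht]; ring⟩
  choose! g hg using h1
  refine ⟨∑ i ∈ Finset.range (P.natDegree + 1), g (P.coeff i) * t ^ i, ?_⟩
  rw [Polynomial.eval₂_eq_sum_range, Finset.mul_sum]
  refine Finset.sum_congr rfl fun i _ => ?_
  rw [hg _ (hP i)]
  ring

end Alg

section Charts

variable {B : Scheme.{u}} {E : B.IdealSheafData} {Ω : B.Opens} {R : Type u} [CommRing R] {φ : R →+* Γ(B, Ω)} {x y : R}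
  (D : TC E Ω φ x y)

/-- `R` injects into the functions on the first chart. -/
def InjU : Prop := Function.Injective ((ores D.hU).comp φ)

lemma ores_injective {A A' : B.Opens} (hA : IsAffineOpen A) (h : A' ≤ A) (f : Γ(B, A)) (hf : A' = B.basicOpen f)
    (hf0 : f ∈ nonZeroDivisors Γ(B, A)) : Function.Injective (ores h) := by
  subst hf
  have h1 : IsLocalization.Away f Γ(B, B.basicOpen f) := hA.isLocalization_basicOpen f
  exact IsLocalization.injective Γ(B, B.basicOpen f) (M := Submonoid.powers f) (by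
    rw [Submonoid.powers_le]; exact hf0)

lemma oresU_injective : Function.Injective (ores D.WU) := ores_injective D.U.2 D.WU D.t D.infU D.nzt

variable {D}

/-- Values of polynomials in `s` in terms of `t`. -/
lemma ores_eval_s (Q : R[X]) {N : ℕ} (hN : Q.natDegree ≤ N) :
    D.tW ^ N * ores D.WV (Q.eval₂ ((ores D.hV).comp φ) D.s) =
      ores D.WU ((Q.reflect N).eval₂ ((ores D.hU).comp φ) D.t) := by
  rw [Polynomial.eval₂_eq_sum_range' _ (Nat.lt_succ_of_le hN),
    Polynomial.eval₂_eq_sum_range' _ (Nat.lt_succ_of_le (Polynomial.natDegree_reflect_le.trans (max_le le_rfl hN))),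
    map_sum, map_sum, Finset.mul_sum, ← Finset.sum_range_reflect]
  refine Finset.sum_congr rfl fun i hi => ?_
  have hi' : i ≤ N := Nat.lt_succ_iff.1 (Finset.mem_range.1 hi)
  have h1 : N + 1 - 1 - i = N - i := by omega
  rw [h1, Polynomial.coeff_reflect, Polynomial.revAt_le hi']
  simp only [map_mul, map_pow, RingHom.comp_apply]
  rw [ores_ores, ores_ores]
  change D.tW ^ N * (ores D.hW (φ (Q.coeff (N - i))) * D.sW ^ (N - i)) = ores D.hW (φ (Q.coeff (N - i))) * D.tW ^ i
  have h2 : D.tW ^ N = D.tW ^ i * D.tW ^ (N - i) := by rw [← pow_add]; congr 1; omega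
  rw [h2]
  calc D.tW ^ i * D.tW ^ (N - i) * (ores D.hW (φ (Q.coeff (N - i))) * D.sW ^ (N - i)) =
        ores D.hW (φ (Q.coeff (N - i))) * D.tW ^ i * (D.tW ^ (N - i) * D.sW ^ (N - i)) := by ring
    _ = _ := by rw [D.tW_pow_mul_sW_pow, mul_one]

/-- **No sections of `O(-n)`.** -/
theorem laurent (hi : InjU D) (h : RP x y) {n : ℕ} (hn : 0 < n) (A : Γ(B, D.U.1)) (C' : Γ(B, D.V.1)) (g : Γ(B, D.W))
    (hg : D.tW ^ n * ores D.WU A - ores D.WV C' = D.psi x * g) :
    (∃ A', A = ores D.hU (φ x) * A') ∧ ∃ C'', C' = ores D.hV (φ y) * C'' := by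
  obtain ⟨P, hP⟩ := D.genU A
  obtain ⟨Q, hQ⟩ := D.genV C'
  obtain ⟨N₀, g', hg'⟩ := TC.exists_ores_of_eq D.U.2 D.WU D.t D.infU g
  let N := max N₀ Q.natDegree
  have hN : Q.natDegree ≤ N := le_max_right _ _
  have hN₀ : N₀ ≤ N := le_max_left _ _
  have key : (X ^ (n + N) * P - Q.reflect N).eval₂ ((ores D.hU).comp φ) D.t =
      ((ores D.hU).comp φ) x * (D.t ^ (N - N₀) * g') := by
    apply oresU_injective D
    rw [eval₂_sub, eval₂_mul, eval₂_X_pow, map_sub, map_mul, map_pow, ← ores_eval_s Q hN, ← hP, ← hQ, map_mul, map_mul,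
      map_pow, hg']
    simp only [RingHom.comp_apply]
    rw [ores_ores]
    change D.tW ^ (n + N) * ores D.WU A - D.tW ^ N * ores D.WV C' = D.psi x * (D.tW ^ (N - N₀) * (D.tW ^ N₀ * g))
    calc D.tW ^ (n + N) * ores D.WU A - D.tW ^ N * ores D.WV C' = D.tW ^ N * (D.tW ^ n * ores D.WU A - ores D.WV C') := by
          rw [pow_add]; ring
      _ = D.tW ^ N * (D.psi x * g) := by rw [hg]
      _ = (D.tW ^ (N - N₀) * D.tW ^ N₀) * (D.psi x * g) := by rw [← pow_add, Nat.sub_add_cancel hN₀]
      _ = _ := by ring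
  have hco := h.coeff_mem (φ := (ores D.hU).comp φ) (t := D.t) D.ht hi D.genU _ _ key
  have hrev : (Q.reflect N).natDegree ≤ N := Polynomial.natDegree_reflect_le.trans (max_le le_rfl hN)
  constructor
  · obtain ⟨A', hA'⟩ := dvd_of_coeff_mem (φ := (ores D.hU).comp φ) (t := D.t) D.ht P (fun j => by
      have h1 := hco (n + N + j)
      rw [coeff_sub, add_comm (n + N) j, Polynomial.coeff_X_pow_mul, Polynomial.coeff_eq_zero_of_natDegree_lt
        (p := Q.reflect N) (by omega), sub_zero] at h1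
      exact h1)
    exact ⟨A', hP.trans hA'⟩
  · obtain ⟨C'', hC''⟩ := dvd_of_coeff_mem (φ := (ores D.hV).comp φ) (x := y) (y := x) (t := D.s) D.hs Q (fun j => by
      rw [Set.pair_comm]
      rcases Nat.lt_or_ge N j with hj | hj
      · rw [Polynomial.coeff_eq_zero_of_natDegree_lt (by omega)]
        exact zero_mem _
      · have h1 := hco (N - j)
        rw [coeff_sub, Polynomial.coeff_X_pow_mul', if_neg (by omega), zero_sub, neg_mem_iff, Polynomial.coeff_reflect,
          Polynomial.revAt_le (by omega)] at h1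
        have h2 : N - (N - j) = j := by omega
        rwa [h2] at h1)
    exact ⟨C'', hQ.trans hC''⟩

end Charts

end K805.Laurent
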