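import Mathlib.RingTheory.Ideal.KrullsHeightTheorem
import Mathlib.LinearAlgebra.Dimension.Finrank
import Mathlib.LinearAlgebra.FiniteDimensional.Lemmas
import Mathlib.RingTheory.Nakayama

/-!
# Lengths of quotients of two-dimensional local rings
-/

set_option autoImplicit false
universe u v

namespace K805.Mult

open IsLocalRing

/-- In a Noetherian local ring of dimension two no power of the maximal ideal is principal modulo the next power. -/
theorem not_le {R : Type u} [CommRing R] [IsLocalRing R] [IsNoetherianRing R] (hdim : 2 ≤ ringKrullDim R) {f : R}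
    (hf : f ∈ maximalIdeal R) (i : ℕ) : ¬ maximalIdeal R ^ i ≤ maximalIdeal R ^ (i + 1) ⊔ Ideal.span {f} := by
  intro h
  have h1 : maximalIdeal R ^ i ≤ Ideal.span {f} := by
    refine Submodule.le_of_le_smul_of_le_jacobson_bot (I := maximalIdeal R) (IsNoetherian.noetherian _)
      (IsLocalRing.maximalIdeal_le_jacobson _) ?_
    rw [smul_eq_mul, ← pow_succ', sup_comm]
    exact h
  have h2 : maximalIdeal R ∈ (Ideal.span {f}).minimalPrimes := by
    refine ⟨⟨inferInstance, (Ideal.span_singleton_le_iff_mem _).2 hf⟩, fun q hq _ => ?_⟩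
    exact Ideal.IsPrime.le_of_pow_le (hP := hq.1) (h1.trans hq.2)
  have h3 := Ideal.height_le_one_of_isPrincipal_of_mem_minimalPrimes (Ideal.span {f}) (maximalIdeal R) h2
  have h4 := IsLocalRing.maximalIdeal_height_eq_ringKrullDim (R := R)
  rw [← h4] at hdim
  have h5 : (2 : ℕ∞) ≤ 1 := by
    have : ((2 : ℕ∞) : WithBot ℕ∞) ≤ ((maximalIdeal R).height : WithBot ℕ∞) := hdim
    exact (WithBot.coe_le_coe.1 this).trans h3
  exact absurd h5 (by decide)

/-- A strictly decreasing chain of powers bounds the dimension from below. -/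
theorem le_finrank {k : Type v} {G : Type u} [Field k] [CommRing G] [Algebra k G] [Module.Finite k G] (N : Ideal G)
    (m : ℕ) (h : ∀ i < m, ¬ N ^ i ≤ N ^ (i + 1)) : m ≤ Module.finrank k G := by
  have key : ∀ i ≤ m, Module.finrank k ((N ^ i).restrictScalars k) + i ≤ Module.finrank k G := by
    intro i
    induction i with
    | zero =>
      intro _
      rw [add_zero]
      exact Submodule.finrank_le _
    | succ i ih =>
      intro hi
      have h1 := ih (by omega)
      have h2 : (N ^ (i + 1)).restrictScalars k < (N ^ i).restrictScalars k := by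
        refine lt_of_le_of_ne (fun x hx => Ideal.pow_le_pow_right (Nat.le_succ i) hx) fun h3 => ?_
        refine h i (by omega) fun x hx => ?_
        have : x ∈ (N ^ i).restrictScalars k := hx
        rw [← h3] at this
        exact this
      have h3 := Submodule.finrank_lt_finrank_of_lt h2
      omega
  have := key m le_rfl
  omega

/-- The dimension of `A / (f, M^m)` for a closed point `M` of a surface, in terms of a surjection. -/
theorem le_finrank_of_surjective {k : Type v} {A G R : Type u} [Field k] [CommRing A] [CommRing G] [CommRing R]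
    [IsLocalRing R] [IsNoetherianRing R] (hdim : 2 ≤ ringKrullDim R) [Algebra A R] (M : Ideal A) [M.IsPrime]
    [IsLocalization.AtPrime R M] [Algebra k G] [Module.Finite k G] (θ : A →+* G) (hθ : Function.Surjective θ)
    {f : A} (hf : f ∈ M) (m : ℕ) (hker : RingHom.ker θ ≤ Ideal.span {f} ⊔ M ^ m) : m ≤ Module.finrank k G := by
  refine le_finrank (M.map θ) m fun i hi h => ?_
  have h1 : M ^ i ≤ M ^ (i + 1) ⊔ Ideal.span {f} := by
    rw [← Ideal.map_pow, ← Ideal.map_pow, Ideal.map_le_iff_le_comap, Ideal.comap_map_of_surjective θ hθ] at h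
    refine h.trans (sup_le le_sup_left ?_)
    have h2 : Ideal.comap θ ⊥ = RingHom.ker θ := rfl
    rw [h2]
    refine hker.trans (sup_le le_sup_right (le_trans (Ideal.pow_le_pow_right (by omega)) le_sup_left))
  have h2 := Ideal.map_mono (f := algebraMap A R) h1
  rw [Ideal.map_sup, Ideal.map_pow, Ideal.map_pow, Ideal.map_span, Set.image_singleton,
    IsLocalization.AtPrime.map_eq_maximalIdeal M R] at h2
  refine not_le hdim ?_ i h2
  rw [← IsLocalization.AtPrime.map_eq_maximalIdeal M R]
  exact Ideal.mem_map_of_mem _ hf

end K805.Mult
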