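import Groth.Agent.SurfBl.K805.LF
import Groth.Agent.SurfBl.K805.Coord
import Groth.Agent.Lefpen.H703.ClosedSmooth

/-!
# Coordinates at the points of the center

* `hasCrdPt_of`: the ideal of a discrete closed set of points with regular two-dimensional local rings.
* `hasCrdPt_smooth`: a finite set of closed points on a smooth surface.
-/

set_option autoImplicit false
universe u
open CategoryTheory CategoryTheory.Limits AlgebraicGeometry Opposite TopologicalSpace BlowUp

namespace K805.Pts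

open Groth.Agent K805.GG K805.LF K805.Coord

variable {X : Scheme.{u}}

theorem ideal_vanishing (Z : Closeds X) (s : X) {U : X.Opens} (hU : IsAffineOpen U) (hs : s ∈ U) (hsZ : s ∈ Z)
    (h : ∀ t ∈ U, t ∈ Z → t = s) :
    (Scheme.IdealSheafData.vanishingIdeal Z).ideal ⟨U, hU⟩ = (hU.primeIdealOf ⟨s, hs⟩).asIdeal := by
  have h1 : (Scheme.IdealSheafData.vanishingIdeal Z).ideal ⟨U, hU⟩ =
      PrimeSpectrum.vanishingIdeal (hU.fromSpec ⁻¹' (Z : Set X)) := rfl
  have h2 : hU.fromSpec ⁻¹' (Z : Set X) = {hU.primeIdealOf ⟨s, hs⟩} := by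
    ext p
    simp only [Set.mem_preimage]
    constructor
    · intro hp
      apply hU.fromSpec.isOpenEmbedding.injective
      rw [hU.fromSpec_primeIdealOf]
      refine h _ ?_ hp
      have : hU.fromSpec p ∈ Set.range hU.fromSpec := ⟨p, rfl⟩
      rwa [hU.range_fromSpec] at this
    · rintro rfl
      rw [hU.fromSpec_primeIdealOf ⟨s, hs⟩]
      exact hsZ
  exact h1.trans ((congrArg PrimeSpectrum.vanishingIdeal h2).trans (PrimeSpectrum.vanishingIdeal_singleton _))

theorem hasCrdPt_of [IsLocallyNoetherian X] (Z : Closeds X)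
    (hdisc : ∀ s ∈ Z, ∃ W : X.Opens, s ∈ W ∧ ∀ t ∈ W, t ∈ Z → t = s)
    (hreg : ∀ s ∈ Z, IsRegularLocalRing (X.presheaf.stalk s) ∧ ringKrullDim (X.presheaf.stalk s) = 2) :
    HasCrdPt (Scheme.IdealSheafData.vanishingIdeal Z) := by
  intro s
  by_cases hs : s ∈ Z
  · right
    obtain ⟨W, hsW, hW⟩ := hdisc s hs
    obtain ⟨U₀, hU₀, hsU₀, hle⟩ := exists_isAffineOpen_mem_and_subset (U := W) (x := s) hsW
    obtain ⟨h1, h2⟩ := hreg s hs
    obtain ⟨U, hsU, hUU, x, y, hxy, hx, hy⟩ := exists_coord_open (Scheme.IdealSheafData.vanishingIdeal Z) s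
      ⟨U₀, hU₀⟩ hsU₀ (ideal_vanishing Z s hU₀ hsU₀ hs fun t ht => hW t (hle ht)) h2
    exact ⟨U, x, y, hsU, ⟨hxy, hx, hy⟩, ideal_vanishing Z s U.2 hsU hs fun t ht => hW t (hle (hUU ht))⟩
  · left
    intro h
    apply hs
    have h3 : s ∈ (((Scheme.IdealSheafData.vanishingIdeal Z).support : Closeds X) : Set X) := h
    rwa [Scheme.IdealSheafData.coe_support_vanishingIdeal] at h3

theorem isLocallyNoetherian_of_field {k : Type u} [Field k] (g : X ⟶ Spec (CommRingCat.of k)) [LocallyOfFiniteType g] :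
    IsLocallyNoetherian X := LocallyOfFiniteType.isLocallyNoetherian g

/-- A finite set of closed points of a smooth surface. -/
theorem hasCrdPt_smooth {k : Type u} [Field k] [PerfectField k] (g : X ⟶ Spec (CommRingCat.of k))
    [SmoothOfRelativeDimension 2 g] (Z : Closeds X) (hfin : (Z : Set X).Finite)
    (hcl : ∀ s ∈ Z, IsClosed ({s} : Set X)) : HasCrdPt (Scheme.IdealSheafData.vanishingIdeal Z) := by
  have : Smooth g := SmoothOfRelativeDimension.smooth 2 g
  have : IsLocallyNoetherian X := isLocallyNoetherian_of_field g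
  refine hasCrdPt_of Z (fun s hs => ?_) fun s hs => ?_
  · have h1 : IsClosed ((Z : Set X) \ {s}) := by
      have h2 : (Z : Set X) \ {s} = ⋃ t ∈ (Z : Set X) \ {s}, {t} := by
        ext t
        simp
      rw [h2]
      exact (hfin.subset Set.sdiff_subset).isClosed_biUnion fun t ht => hcl t ht.1
    refine ⟨⟨((Z : Set X) \ {s})ᶜ, h1.isOpen_compl⟩, fun h => h.2 rfl, fun t ht htZ => ?_⟩
    by_contra hne
    exact ht ⟨htZ, hne⟩
  · exact (Lefpen.H703.ClosedSmooth.smoothOfRelativeDimension_iff g 2).1 inferInstance s (hcl s hs)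

end K805.Pts
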