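import Groth.Agent.SurfBl.K805.Main
import Groth.Agent.SurfBl.K805.ChartInj

/-!
# Coordinates form a regular sequence
-/

set_option autoImplicit false
universe u
open CategoryTheory CategoryTheory.Limits AlgebraicGeometry Opposite TopologicalSpace BlowUp IsLocalRing

namespace K805.Reg

open Groth.Agent K805.GG K805.LF K805.Laurent K805.Main K805.Chart K805.ChartOf

variable {X : Scheme.{u}}

theorem isMaximal_of_closed {s : X} (hcl : IsClosed ({s} : Set X)) {U : X.Opens} (hU : IsAffineOpen U) (hs : s ∈ U) :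
    (hU.primeIdealOf ⟨s, hs⟩).asIdeal.IsMaximal := by
  rw [← PrimeSpectrum.isClosed_singleton_iff_isMaximal]
  have h1 : hU.fromSpec ⁻¹' ({s} : Set X) = {hU.primeIdealOf ⟨s, hs⟩} := by
    ext p
    simp only [Set.mem_preimage, Set.mem_singleton_iff]
    constructor
    · intro hp
      apply hU.fromSpec.isOpenEmbedding.injective
      rw [hU.fromSpec_primeIdealOf]
      exact hp
    · rintro rfl
      exact hU.fromSpec_primeIdealOf ⟨s, hs⟩
  have h2 : IsClosed (hU.fromSpec ⁻¹' ({s} : Set X)) := hcl.preimage hU.fromSpec.continuous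
  exact h1 ▸ h2

lemma rp_of_local {A : Type u} [CommRing A] (p : Ideal A) [p.IsMaximal] (S : Type u) [CommRing S] [Algebra A S]
    [IsLocalization.AtPrime S p] [IsRegularLocalRing S] (hdim : ringKrullDim S = 2) {x y : A}
    (hp : p = Ideal.span {x, y}) (hx : x ∈ nonZeroDivisors A) : RP x y where
  hx a ha := (mul_right_mem_nonZeroDivisors_eq_zero_iff hx).1 (by rw [mul_comm]; exact ha)
  hy := by
    intro a c h
    have hxy : Ideal.span {algebraMap A S x, algebraMap A S y} = maximalIdeal S := by
      rw [← IsLocalization.AtPrime.map_eq_maximalIdeal p S, hp, Ideal.map_span, Set.image_pair]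
    have hprime := CurvesC.BlowUpRegAlg.isPrime_span_left hdim hxy
    have hny := CurvesC.BlowUpRegAlg.right_notMem_span_left hdim hxy
    have h1 : algebraMap A S a ∈ Ideal.span {algebraMap A S x} := by
      have h2 : algebraMap A S y * algebraMap A S a ∈ Ideal.span {algebraMap A S x} := by
        rw [← map_mul, h, map_mul]
        exact Ideal.mul_mem_right _ _ (Ideal.mem_span_singleton_self _)
      exact (hprime.mem_or_mem h2).resolve_left hny
    have h2 : algebraMap A S a ∈ (Ideal.span {x}).map (algebraMap A S) := by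
      rwa [Ideal.map_span, Set.image_singleton]
    obtain ⟨⟨⟨d, hd⟩, ⟨m, hm⟩⟩, hdm⟩ := (IsLocalization.mem_map_algebraMap_iff p.primeCompl S).1 h2
    dsimp only at hdm
    rw [← map_mul] at hdm
    obtain ⟨⟨n, hn⟩, hnm⟩ := (IsLocalization.eq_iff_exists p.primeCompl S).1 hdm
    have h3 : (n * m) * a ∈ Ideal.span {x} := by
      have h4 : n * m * a = n * d := by
        rw [mul_assoc, mul_comm m a]; exact hnm
      rw [h4]
      exact Ideal.mul_mem_left _ _ hd
    have hnm' : n * m ∉ p := fun h => (Ideal.IsPrime.mem_or_mem inferInstance h).elim hn hm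
    -- the ideal of elements multiplying `a` into `(x)`
    have h5 : ∀ f ∈ p, f * a ∈ Ideal.span {x} := by
      intro f hf
      rw [hp] at hf
      obtain ⟨u, v, rfl⟩ := Ideal.mem_span_pair.1 hf
      have h6 : (u * x + v * y) * a = x * (u * a + v * c) := by
        rw [add_mul, mul_assoc v y a, h]; ring
      rw [h6]
      exact Ideal.mul_mem_right _ _ (Ideal.mem_span_singleton_self _)
    obtain ⟨u, v, hv, huv⟩ : ∃ u : A, ∃ v ∈ p, u * (n * m) + v = 1 := Ideal.IsMaximal.exists_inv inferInstance hnm'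
    have h6 : a ∈ Ideal.span {x} := by
      have h7 : a = u * ((n * m) * a) + v * a := by
        calc a = (u * (n * m) + v) * a := by rw [huv, one_mul]
          _ = _ := by ring
      rw [h7]
      exact add_mem (Ideal.mul_mem_left _ _ h3) (h5 v hv)
    obtain ⟨e, he⟩ := Ideal.mem_span_singleton.1 h6
    exact ⟨e, he⟩

theorem rp_of_crd {J : X.IdealSheafData} {U : X.affineOpens} {x y : Γ(X, U.1)} (hc : Crd J U x y) {s : X}
    (hs : s ∈ U.1) (hcl : IsClosed ({s} : Set X)) (hJs : J.ideal U = (U.2.primeIdealOf ⟨s, hs⟩).asIdeal)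
    (hreg : IsRegularLocalRing (X.presheaf.stalk s)) (hdim : ringKrullDim (X.presheaf.stalk s) = 2) : RP x y := by
  let _ := TopCat.Presheaf.algebra_section_stalk X.presheaf (⟨s, hs⟩ : U.1)
  have hloc : IsLocalization.AtPrime (X.presheaf.stalk s) (U.2.primeIdealOf ⟨s, hs⟩).asIdeal :=
    U.2.isLocalization_stalk ⟨s, hs⟩
  have hmax := isMaximal_of_closed hcl U.2 hs
  exact rp_of_local (U.2.primeIdealOf ⟨s, hs⟩).asIdeal (X.presheaf.stalk s) hdim (by rw [← hJs, hc.ideal]) hc.nx

/-- The blow-up of finitely many closed points with regular two-dimensional local rings. -/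
structure SetupR {X X' Z : Scheme.{u}} (b : X' ⟶ X) (J : X.IdealSheafData) (i : Z ⟶ X') : Prop extends Setup b J i where
  reg : ∀ s ∈ J.support, IsRegularLocalRing (X.presheaf.stalk s) ∧ ringKrullDim (X.presheaf.stalk s) = 2

/-- The local data: coordinates `x`, `y` at `s` on the affine open `U` and the two charts. -/
structure Loc {X X' : Scheme.{u}} (b : X' ⟶ X) (J : X.IdealSheafData) (s : X) where
  U : X.affineOpens
  x : Γ(X, U.1)
  y : Γ(X, U.1)
  hs : s ∈ U.1
  crd : Crd J U x y
  ideal : J.ideal U = (U.2.primeIdealOf ⟨s, hs⟩).asIdeal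
  rp : RP x y
  D : TC (J.comap b) (b ⁻¹ᵁ U.1) (phi b U) x y
  inj : InjU D
  inj' : InjU D.symm

theorem SetupR.exists_loc {X X' Z : Scheme.{u}} {b : X' ⟶ X} {J : X.IdealSheafData} {i : Z ⟶ X'} (S : SetupR b J i)
    {s : X} (hs : s ∈ J.support) : Nonempty (Loc b J s) := by
  rcases S.crd s with h | ⟨U, x, y, hsU, hc, hJs⟩
  · exact absurd hs h
  · obtain ⟨D, h1, h2⟩ := ChartInj.exists_tc S.hb x y hc.ideal hc.nx hc.ny
    exact ⟨⟨U, x, y, hsU, hc, hJs, rp_of_crd hc hsU (S.cl s hs) hJs (S.reg s hs).1 (S.reg s hs).2, D, h1, h2⟩⟩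

/-- The set-up for a finite set of closed points of a smooth surface. -/
theorem setupR_smooth {X X' : Scheme.{u}} {k : Type u} [Field k] [PerfectField k] (g : X ⟶ Spec (CommRingCat.of k))
    [SmoothOfRelativeDimension 2 g] (T : Closeds X) (hfin : (T : Set X).Finite)
    (hcl : ∀ s ∈ T, IsClosed ({s} : Set X)) {b : X' ⟶ X}
    (hb : IsBlowUp b (Scheme.IdealSheafData.vanishingIdeal T)) :
    SetupR b (Scheme.IdealSheafData.vanishingIdeal T)
      (exceptional b (Scheme.IdealSheafData.vanishingIdeal T)).subschemeι where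
  toSetup := setup_smooth g T hfin hcl hb
  reg s hs := by
    have : Smooth g := SmoothOfRelativeDimension.smooth 2 g
    exact (Lefpen.H703.ClosedSmooth.smoothOfRelativeDimension_iff g 2).1 inferInstance s
      ((setup_smooth g T hfin hcl hb).cl s hs)

end K805.Reg
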