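import Groth.Agent.SurfBl.K805.Frame
import Groth.Agent.Sga2.ThickKer
import Groth.Agent.VarietyB.DegCartier
import Groth.Agent.VarietyB.TensLoc
import Groth.Agent.Fga.TwistCoh
import Groth.Agent.FormalB.QcSect
import Groth.Agent.CohqB.QC4
import Groth.Agent.CurvesB.HZero

/-!
# Restriction of invertible modules to infinitesimal neighbourhoods of an effective Cartier divisor
-/

set_option autoImplicit false
universe u v
open CategoryTheory CategoryTheory.Limits AlgebraicGeometry Opposite TopologicalSpace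

namespace K805.Thick

open Groth.Agent Groth.Agent.Fdesc.LocGen K805.Chart K805.Laurent K805.Gen K805.LF K805.Reg K805.ChartOf
open Groth.Agent.Sga2.ThickKer Groth.Agent.Dix.IdealModCartier

section Pr

variable {X : Scheme.{u}} (L : X.Modules) (I : X.IdealSheafData)

/-- `L ⊗ -` on morphisms. -/
noncomputable def tmap {M N : X.Modules} (φ : M ⟶ N) : CohB1.tensorMod L M ⟶ CohB1.tensorMod L N :=
  (DCoh.tensorBi.obj L).map φ

theorem tmap_tmul {M N : X.Modules} (φ : M ⟶ N) {U : X.Opens} (l : Γ(L, U)) (m : Γ(M, U)) :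
    (tmap L φ).app U (tmul l m) = tmul l (φ.app U m) := VarietyB.TensLoc.tensorBi_map_app_tmul L φ l m

/-- `L ⟶ L ⊗ O/I`. -/
noncomputable def pr : L ⟶ CohB1.tensorMod L (ClSub.quotMod I) :=
  (Ega2.Tens.runit L).inv ≫ tmap L (ClSub.toSubscheme I)

theorem pr_app {U : X.Opens} (l : Γ(L, U)) : (pr L I).app U l = tmul l (cls I (1 : Γ(X, U))) := by
  have h1 : (pr L I).app U l = ((DCoh.tensorBi.obj L).map (ClSub.toSubscheme I)).app U ((Ega2.Tens.runit L).inv.app U l) := rfl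
  rw [h1, Ega2.Tens.runit_inv_app]
  exact VarietyB.TensLoc.tensorBi_map_app_tmul L (ClSub.toSubscheme I) l _

variable {L}

theorem epi_pr (hL : PicF.IsInvertible L) : Epi (pr L I) := by
  have h := (Fga.TwistCoh.shortExact_tensorBi hL _ (VarietyB.DegCartier.idealSeq_shortExact I)).epi_g
  have h' : Epi ((DCoh.tensorBi.obj L).map (ClSub.toSubscheme I)) := h
  exact @epi_comp _ _ _ _ _ _ inferInstance _ h'

theorem isQCoh_tensor_quot (hL : PicF.IsInvertible L) : Coh.IsQCoh (CohB1.tensorMod L (ClSub.quotMod I)) :=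
  Ega2.QCohLocal.isQCoh_of_iso (Ega2.Tens.swap _ _) (Ega2.TensGen.isQCoh_tensor (CohqA.AffMorCrit.isQCoh_quotMod I) hL)

theorem pr_surjective (hL : PicF.IsInvertible L) {A : X.Opens} (hA : IsAffineOpen A) :
    Function.Surjective ((pr L I).app A) := by
  have := epi_pr I hL
  have h1 : L.IsQuasicoherent := Ega2.QCohLocal.isQCoh_of_isFinLocFree
    (Leray.flf_of_rank (Ega2.QCohLocal.isFinLocFreeOfRank_one_iff.2 hL))
  have h2 : (CohB1.tensorMod L (ClSub.quotMod I)).IsQuasicoherent := isQCoh_tensor_quot I hL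
  exact FormalB.QcSect.surjective_app_of_epi (pr L I) hA

variable {I}

/-- The kernel on sections. -/
theorem exists_of_pr_eq_zero (hL : PicF.IsInvertible L) {A : X.affineOpens} {e : Γ(X, A.1)} (he : GenOn I e)
    (l : Γ(L, A.1)) (h : (pr L I).app A.1 l = 0) : ∃ l', l = e • l' := by
  have hS := Fga.TwistCoh.shortExact_tensorBi hL _ (VarietyB.DegCartier.idealSeq_shortExact I)
  have := hS.mono_f
  obtain ⟨z, hz⟩ := CohqB.QC4.exists_of_exact hS.exact A.1 ((Ega2.Tens.runit L).inv.app A.1 l) h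
  obtain ⟨p, hp⟩ := exists_val_eq I A (a := e) (by
    have := (he A le_rfl).2
    rw [ores_refl] at this
    rw [this]
    exact Ideal.mem_span_singleton_self _)
  have hpg : IsGen p := isGen_of_genOn (by rw [hp]; exact he)
  obtain ⟨l', rfl⟩ := (tmul_bijective L hpg).2 z
  refine ⟨l', ?_⟩
  have h1 : (Ega2.Tens.runit L).hom.app A.1 ((Ega2.Tens.runit L).inv.app A.1 l) = l :=
    congr($((Ega2.Tens.runit L).inv_hom_id).app A.1 l)
  rw [← h1, ← hz]
  have h2 : (((VarietyB.DegCartier.idealSeq I).map (DCoh.tensorBi.obj L)).f).app A.1 (tmul l' p) =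
      tmul l' ((ClSub.idealModι I).app A.1 p) := VarietyB.TensLoc.tensorBi_map_app_tmul L (ClSub.idealModι I) l' p
  refine (congrArg _ h2).trans ?_
  have h3 : (ClSub.idealModι I).app A.1 p = Ega2.Tens.sm e := hp
  rw [h3]
  exact Ega2.Tens.runit_hom_tmul e l'

theorem pr_smul_eq_zero {U : X.Opens} {e : Γ(X, U)} (he : ∀ (W : X.affineOpens) (h : W.1 ≤ U), ores h e ∈ I.ideal W)
    (l : Γ(L, U)) : (pr L I).app U (e • l) = 0 := by
  rw [pr_app, smul_tmul, ← tmul_smul, smul_cls, mul_one]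
  have : cls I e = 0 := by
    refine Sga2.HomGens.eq_of_affine_cover (ClSub.quotMod I) (ι := Unit) (U := fun _ => ⊤) (by simp)
      fun i W hW _ => ?_
    rw [res_cls, map_zero, cls_eq_zero_iff]
    exact he W hW
  rw [this]
  exact Ega2.Tens.tmul_zero _

theorem tmap_pr {J : X.IdealSheafData} (h : I ≤ J) {U : X.Opens} (l : Γ(L, U)) :
    (tmap L (Lef.quotMap h)).app U ((pr L I).app U l) = (pr L J).app U l := by
  rw [pr_app, pr_app, tmap_tmul, quotMap_cls]

theorem app_add {M N : X.Modules} (φ : M ⟶ N) {U : X.Opens} (m m' : Γ(M, U)) :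
    φ.app U (m + m') = φ.app U m + φ.app U m' := map_add (φ.app U).hom m m'

theorem app_sub {M N : X.Modules} (φ : M ⟶ N) {U : X.Opens} (m m' : Γ(M, U)) :
    φ.app U (m - m') = φ.app U m - φ.app U m' := map_sub (φ.app U).hom m m'

end Pr

section Lift

variable {B : Scheme.{u}} {E : B.IdealSheafData} {Ω : B.Opens} {R : Type u} [CommRing R] {φ : R →+* Γ(B, Ω)} {x y : R}
  (D : TC E Ω φ x y) {L : B.Modules}

theorem genOnU (n : ℕ) : GenOn (E ^ n) (ores D.hU (φ x) ^ n) := genOn_pow (genOn_of_affine D.nzU D.idU) n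

theorem genOnV (n : ℕ) : GenOn (E ^ n) (ores D.hV (φ y) ^ n) := genOn_pow (genOn_of_affine D.nzV D.idV) n

theorem genOnW (n : ℕ) : GenOn (E ^ n) (D.psi x ^ n) := by
  have h1 := (genOnU D n).res D.WU
  rw [map_pow, ores_ores] at h1
  exact h1

theorem mem_of_genOn {X : Scheme.{u}} {I : X.IdealSheafData} {U : X.Opens} {e : Γ(X, U)} (he : GenOn I e) (W : X.affineOpens)
    (h : W.1 ≤ U) : ores h e ∈ I.ideal W := by
  rw [(he W h).2]
  exact Ideal.mem_span_singleton_self _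

/-- **Lifting of sections to the next infinitesimal neighbourhood.** -/
theorem lift_chart (T : K805.Gen.Frame D L) (hi : InjU D) (h : RP x y) (hL : PicF.IsInvertible L) (n : ℕ) (hn : 1 ≤ n)
    (hle : E ^ (n + 1) ≤ E ^ n) (c : Γ(CohB1.tensorMod L (ClSub.quotMod (E ^ n)), Ω)) :
    ∃ β : Γ(CohB1.tensorMod L (ClSub.quotMod (E ^ (n + 1))), Ω), (tmap L (Lef.quotMap hle)).app Ω β = c := by
  obtain ⟨u, hu⟩ := pr_surjective (E ^ n) hL D.U.2 (res _ D.hU c)
  obtain ⟨v, hv⟩ := pr_surjective (E ^ n) hL D.V.2 (res _ D.hV c)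
  obtain ⟨w, hw⟩ := exists_of_pr_eq_zero hL (A := ⟨D.W, D.isAffineOpen_W⟩) (genOnW D n)
    (res L D.WU u - res L D.WV v) (by
      rw [app_sub]
      refine (congrArg₂ (· - ·) (app_res (pr L (E ^ n)) D.WU u) (app_res (pr L (E ^ n)) D.WV v)).trans ?_
      rw [hu, hv, res_res, res_res, sub_self])
  obtain ⟨u', v', w', hw'⟩ := Frame.key T hi h hL n hn u v w hw
  obtain ⟨β, hβU, hβV⟩ := D.glue (F := CohB1.tensorMod L (ClSub.quotMod (E ^ (n + 1))))
    ((pr L (E ^ (n + 1))).app _ (u + ores D.hU (φ x) ^ n • u'))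
    ((pr L (E ^ (n + 1))).app _ (v + ores D.hV (φ y) ^ n • v')) (by
      rw [← app_res, ← app_res, ← sub_eq_zero, ← app_sub, hw']
      exact pr_smul_eq_zero (fun W hW => mem_of_genOn (genOnW D (n + 1)) W hW) w')
  refine ⟨β, D.ext_of_res ?_ ?_⟩
  · rw [← app_res, hβU, tmap_pr, app_add, pr_smul_eq_zero (fun W hW => mem_of_genOn (genOnU D n) W hW), add_zero, hu]
  · rw [← app_res, hβV, tmap_pr, app_add, pr_smul_eq_zero (fun W hW => mem_of_genOn (genOnV D n) W hW), add_zero, hv]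

end Lift

section Away

variable {X : Scheme.{u}} {L : X.Modules} {I : X.IdealSheafData}

theorem ideal_eq_top_of_disjoint (I : X.IdealSheafData) (V : X.affineOpens)
    (h : ∀ x ∈ V.1, x ∉ I.support) : I.ideal V = ⊤ := by
  rw [← PrimeSpectrum.zeroLocus_empty_iff_eq_top]
  have h1 := I.coe_support_inter V
  have h2 := V.2.fromSpec_image_zeroLocus (I.ideal V)
  rw [← h1] at h2
  have h3 : ((I.support : Set X) ∩ (V.1 : Set X)) = ∅ := by
    ext x
    simp only [Set.mem_inter_iff, Set.mem_empty_iff_false, iff_false, not_and]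
    exact fun hx hV => h x hV hx
  rw [h3, Set.image_eq_empty] at h2
  exact h2

theorem ideal_pow_eq_top (n : ℕ) (V : X.affineOpens) (h : I.ideal V = ⊤) : (I ^ n).ideal V = ⊤ := by
  have h1 : GenOn I (1 : Γ(X, V.1)) := genOn_of_affine (one_mem _) (by rw [h, Ideal.span_singleton_one])
  have h2 := (genOn_pow h1 n V le_rfl).2
  rwa [one_pow, map_one, Ideal.span_singleton_one] at h2

theorem eq_zero_of_disjoint (hL : PicF.IsInvertible L) (n : ℕ) {O : X.Opens} (h : ∀ z ∈ O, z ∉ I.support)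
    (m : Γ(CohB1.tensorMod L (ClSub.quotMod (I ^ n)), O)) : m = 0 := by
  refine res_ext _ (fun x : O => (exists_affine_mem_le O x.1 x.2).choose.1)
    (fun x => (exists_affine_mem_le O x.1 x.2).choose_spec.2)
    (fun x hx => Opens.mem_iSup.2 ⟨⟨x, hx⟩, (exists_affine_mem_le O x hx).choose_spec.1⟩) ?_
  intro x
  obtain ⟨hxW, hW⟩ := (exists_affine_mem_le O x.1 x.2).choose_spec
  set W := (exists_affine_mem_le O x.1 x.2).choose
  obtain ⟨l, hl⟩ := pr_surjective (I ^ n) hL W.2 (res _ hW m)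
  rw [map_zero, ← hl, ← one_smul Γ(X, W.1) l]
  refine pr_smul_eq_zero (fun W' hW' => ?_) l
  rw [ideal_pow_eq_top n W' (ideal_eq_top_of_disjoint I W' fun z hz => h z (hW (hW' hz)))]
  trivial

end Away

section Global

variable {X X' Z : Scheme.{u}} {b : X' ⟶ X} {J : X.IdealSheafData}

/-- **Lifting of global sections.** -/
theorem lift_global (hcl : ∀ s ∈ J.support, IsClosed ({s} : Set X))
    (hloc : ∀ s ∈ J.support, ∃ Λ : Loc b J s, ∀ t ∈ Λ.U.1, t ∈ J.support → t = s) {L : X'.Modules}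
    (hL : PicF.IsInvertible L) (n : ℕ) (hn : 1 ≤ n) (hle : (J.comap b) ^ (n + 1) ≤ (J.comap b) ^ n)
    (c : Γ(CohB1.tensorMod L (ClSub.quotMod ((J.comap b) ^ n)), (⊤ : X'.Opens))) :
    ∃ β : Γ(CohB1.tensorMod L (ClSub.quotMod ((J.comap b) ^ (n + 1))), (⊤ : X'.Opens)),
      (tmap L (Lef.quotMap hle)).app ⊤ β = c := by
  classical
  -- a local solution near every point
  have key : ∀ s : X, ∃ (U : X.Opens) (β : Γ(CohB1.tensorMod L (ClSub.quotMod ((J.comap b) ^ (n + 1))), b ⁻¹ᵁ U)),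
      s ∈ U ∧ (∀ t ∈ U, t ∈ J.support → t = s) ∧ (tmap L (Lef.quotMap hle)).app (b ⁻¹ᵁ U) β = res _ le_top c := by
    intro s
    by_cases hs : s ∈ J.support
    · obtain ⟨Λ, hΛ⟩ := hloc s hs
      have hm : (Ideal.span {Λ.x, Λ.y}).IsMaximal := by
        rw [← Λ.crd.ideal, Λ.ideal]
        exact isMaximal_of_closed (hcl s hs) Λ.U.2 Λ.hs
      obtain ⟨T⟩ := Frame.exists_frame Λ.inj Λ.inj' Λ.rp
        (K805.Gen.RP.symm Λ.rp fun a ha => (mul_right_mem_nonZeroDivisors_eq_zero_iff Λ.crd.ny).1 (by rw [mul_comm]; exact ha)) hm hL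
      obtain ⟨β, hβ⟩ := lift_chart Λ.D T Λ.inj Λ.rp hL n hn hle (res _ le_top c)
      exact ⟨Λ.U.1, β, Λ.hs, hΛ, hβ⟩
    · refine ⟨J.support.compl, 0, hs, fun t ht h => absurd h ht, ?_⟩
      rw [eq_zero_of_disjoint hL n (O := b ⁻¹ᵁ J.support.compl) (fun z hz h => hz (by
        rw [Scheme.IdealSheafData.support_comap] at h
        exact h)) (res _ le_top c)]
      exact map_zero ((tmap L (Lef.quotMap hle)).app (b ⁻¹ᵁ J.support.compl)).hom
  choose U β hsU hU hβ using key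
  obtain ⟨γ, hγ⟩ := res_glue (CohB1.tensorMod L (ClSub.quotMod ((J.comap b) ^ (n + 1)))) (fun s => b ⁻¹ᵁ U s)
    (V := ⊤) (fun s => le_top) (fun z _ => Opens.mem_iSup.2 ⟨b z, hsU (b z)⟩) β (by
      intro s t
      by_cases hst : s = t
      · subst hst; rfl
      · have h0 := eq_zero_of_disjoint (I := J.comap b) hL (n + 1) (O := b ⁻¹ᵁ U s ⊓ b ⁻¹ᵁ U t) (fun z hz h => by
          rw [Scheme.IdealSheafData.support_comap] at h
          exact hst ((hU s _ hz.1 h).symm.trans (hU t _ hz.2 h)))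
        rw [h0 (res _ inf_le_left (β s)), h0 (res _ inf_le_right (β t))])
  refine ⟨γ, res_ext _ (fun s => b ⁻¹ᵁ U s) (fun s => le_top) (fun z _ => Opens.mem_iSup.2 ⟨b z, hsU (b z)⟩) fun s => ?_⟩
  rw [← app_res, hγ s, hβ s]

end Global

end K805.Thick
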